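import Mathlib

set_option autoImplicit false
set_option linter.unusedSectionVars false

namespace Cfsg.Agent.Helper96

open scoped BigOperators

section Abstract

variable {𝔸 : Type*} [Group 𝔸] {𝕍 : Type*} [CommGroup 𝕍]
  [MulDistribMulAction 𝔸 𝕍]

/-- Fixed-point-free action: only the identity of `𝔸` fixes a nonidentity element. -/
def IsFpf (𝔸 : Type*) [Group 𝔸] (𝕍 : Type*) [CommGroup 𝕍] [MulDistribMulAction 𝔸 𝕍] : Prop :=
  ∀ a : 𝔸, a ≠ 1 → ∀ v : 𝕍, a • v = v → v = 1

/-- L1: the norm over a nontrivial subgroup is trivial. -/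
theorem fpf_norm_eq_one (hf : IsFpf 𝔸 𝕍) (C : Subgroup 𝔸) [Fintype C] (hC : C ≠ ⊥) (v : 𝕍) :
    ∏ c : C, (c : 𝔸) • v = 1 := by
  obtain ⟨c₀, hc₀1⟩ := (Subgroup.ne_bot_iff_exists_ne_one.mp hC)
  apply hf c₀ (fun h => hc₀1 (Subtype.ext h))
  rw [Finset.smul_prod']
  refine Fintype.prod_equiv (Equiv.mulLeft c₀) _ _ ?_
  intro c
  simp [mul_smul]

/-- L3: coprimality. -/
theorem fpf_not_dvd [Finite 𝕍] (hf : IsFpf 𝔸 𝕍) (a : 𝔸) (r : ℕ) (hr : r.Prime) (ha : orderOf a = r) :
    ¬ r ∣ Nat.card 𝕍 := by
  intro hdvd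
  have : Fact r.Prime := ⟨hr⟩
  have hP : IsPGroup r (Subgroup.zpowers a) := by
    apply IsPGroup.of_card (n := 1)
    rw [Nat.card_zpowers, ha, pow_one]
  have h1 : (1 : 𝕍) ∈ MulAction.fixedPoints (Subgroup.zpowers a) 𝕍 := by
    intro g
    exact smul_one g
  obtain ⟨b, hb, hne⟩ := hP.exists_fixed_point_of_prime_dvd_card_of_fixed_point 𝕍 hdvd h1
  have ha1 : a ≠ 1 := by
    intro h
    rw [h, orderOf_one] at ha
    exact hr.one_lt.ne ha
  have := hb ⟨a, Subgroup.mem_zpowers a⟩
  exact hne (hf a ha1 b this).symm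


open Classical in
/-- L2: double counting over a partition of the nonidentity elements by subgroups. -/
theorem partition_prod {B : Type*} [Group B] [Fintype B] {M : Type*} [CommMonoid M]
    (𝒮 : Finset (Subgroup B))
    (hpart : ∀ b : B, b ≠ 1 → ∃! S, S ∈ 𝒮 ∧ b ∈ S) (f : B → M) :
    ∏ S ∈ 𝒮, ∏ b : S, f b = f 1 ^ 𝒮.card * ∏ b ∈ Finset.univ.erase (1 : B), f b := by
  have h1 : ∀ S ∈ 𝒮, ∏ b : S, f b = ∏ b : B, if b ∈ S then f b else 1 := by
    intro S _
    rw [← Finset.prod_filter]
    exact (Finset.prod_subtype (Finset.univ.filter (· ∈ S)) (by simp) f).symm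
  rw [Finset.prod_congr rfl h1, Finset.prod_comm]
  rw [← Finset.mul_prod_erase Finset.univ _ (Finset.mem_univ (1 : B))]
  congr 1
  · rw [Finset.prod_congr rfl (g := fun _ => f 1)]
    · rw [Finset.prod_const]
    · intro S _
      rw [if_pos S.one_mem]
  · refine Finset.prod_congr rfl ?_
    intro b hb
    have hb1 : b ≠ 1 := Finset.ne_of_mem_erase hb
    obtain ⟨S₀, ⟨hS₀, hbS₀⟩, huniq⟩ := hpart b hb1
    rw [← Finset.mul_prod_erase 𝒮 _ hS₀, if_pos hbS₀]
    rw [Finset.prod_congr rfl (g := fun _ => (1 : M)), Finset.prod_const_one, mul_one]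
    intro S hS
    have hS' : S ∈ 𝒮 := Finset.mem_of_mem_erase hS
    have hne : S ≠ S₀ := Finset.ne_of_mem_erase hS
    rw [if_neg]
    intro hbS
    exact hne (huniq S ⟨hS', hbS⟩)


open Classical in
/-- Counting version of L2. -/
theorem partition_card {B : Type*} [Group B] [Fintype B]
    (𝒮 : Finset (Subgroup B))
    (hpart : ∀ b : B, b ≠ 1 → ∃! S, S ∈ 𝒮 ∧ b ∈ S) :
    ∑ S ∈ 𝒮, Fintype.card S = 𝒮.card + (Fintype.card B - 1) := by
  have := congrArg Multiplicative.toAdd (partition_prod 𝒮 hpart (fun _ => Multiplicative.ofAdd (1 : ℕ)))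
  simpa using this


/-- The set of subgroups of prime order. -/
noncomputable def primeSubgroups (B : Type*) [Group B] [Finite B] : Finset (Subgroup B) :=
  (Set.toFinite {S : Subgroup B | (Nat.card S).Prime}).toFinset

theorem mem_primeSubgroups {B : Type*} [Group B] [Finite B] (S : Subgroup B) :
    S ∈ primeSubgroups B ↔ (Nat.card S).Prime := by
  unfold primeSubgroups
  rw [Set.Finite.mem_toFinset]
  rfl

theorem primeSubgroups_partition {B : Type*} [Group B] [Finite B]
    (hprime : ∀ b : B, b ≠ 1 → (orderOf b).Prime) :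
    ∀ b : B, b ≠ 1 → ∃! S, S ∈ primeSubgroups B ∧ b ∈ S := by
  intro b hb
  refine ⟨Subgroup.zpowers b, ⟨?_, Subgroup.mem_zpowers b⟩, ?_⟩
  · rw [mem_primeSubgroups, Nat.card_zpowers]
    exact hprime b hb
  · rintro S ⟨hS, hbS⟩
    rw [mem_primeSubgroups] at hS
    have hle : Subgroup.zpowers b ≤ S := (Subgroup.zpowers_le).mpr hbS
    have hdvd : Nat.card (Subgroup.zpowers b) ∣ Nat.card S := Subgroup.card_dvd_of_le hle
    have h1 : Nat.card (Subgroup.zpowers b) ≠ 1 := by
      rw [Nat.card_zpowers]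
      exact (hprime b hb).one_lt.ne'
    have heq : Nat.card (Subgroup.zpowers b) = Nat.card S := by
      rcases (Nat.dvd_prime hS).mp hdvd with h | h
      · exact absurd h h1
      · exact h
    exact (Subgroup.eq_of_le_of_card_ge hle heq.ge).symm

open Classical in
/-- L4: if all nonidentity elements of `B` have prime order and `B` acts fixed-point-freely on `𝕍`,
then every element of `𝕍` is killed by `(number of prime-order subgroups) - 1`. -/
theorem fpf_pow_card_primeSubgroups {B : Type*} [Group B] [Finite B] [Nontrivial B]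
    {𝕍 : Type*} [CommGroup 𝕍] [MulDistribMulAction B 𝕍] (hf : IsFpf B 𝕍)
    (hprime : ∀ b : B, b ≠ 1 → (orderOf b).Prime) (v : 𝕍) :
    1 ≤ (primeSubgroups B).card ∧ v ^ ((primeSubgroups B).card - 1) = 1 := by
  have := Fintype.ofFinite B
  have hpart := primeSubgroups_partition hprime
  have hP := partition_prod (primeSubgroups B) hpart (fun b => b • v)
  -- left side is 1
  have hL : ∏ S ∈ primeSubgroups B, ∏ b : S, (b : B) • v = 1 := by
    apply Finset.prod_eq_one
    intro S hS
    rw [mem_primeSubgroups] at hS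
    have hne : S ≠ ⊥ := by
      intro h
      rw [h, Subgroup.card_bot] at hS
      exact Nat.not_prime_one hS
    convert fpf_norm_eq_one hf S hne v
  -- total norm is 1
  have hT : ∏ b : B, b • v = 1 := by
    have hne : (⊤ : Subgroup B) ≠ ⊥ := top_ne_bot
    have h := fpf_norm_eq_one hf (⊤ : Subgroup B) hne v
    rw [← h]
    exact (Fintype.prod_equiv (Subgroup.topEquiv (G := B)).toEquiv _ _ (fun _ => rfl)).symm
  rw [← Finset.mul_prod_erase Finset.univ _ (Finset.mem_univ (1 : B)), one_smul] at hT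
  rw [hL] at hP
  -- 1 = v^k * X, 1 = v * X
  have hX : ∏ b ∈ Finset.univ.erase (1 : B), b • v = v⁻¹ := eq_inv_of_mul_eq_one_right hT
  rw [hX, one_smul] at hP
  obtain ⟨b, hb⟩ := exists_ne (1 : B)
  have hpos : 1 ≤ (primeSubgroups B).card := by
    obtain ⟨S, ⟨hS, _⟩, _⟩ := hpart b hb
    exact Finset.card_pos.mpr ⟨S, hS⟩
  refine ⟨hpos, ?_⟩
  obtain ⟨k, hk⟩ : ∃ k, (primeSubgroups B).card = k + 1 := ⟨_, (Nat.sub_add_cancel hpos).symm⟩
  rw [hk] at hP ⊢
  rw [Nat.add_sub_cancel]
  rw [pow_succ, mul_assoc, mul_inv_cancel, mul_one] at hP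
  exact hP.symm


/-- Final contradiction: the number of prime-order subgroups minus one is a prime `r`
which is the order of some element of `B`. -/
theorem fpf_false_of_card_primeSubgroups {B : Type*} [Group B] [Finite B] [Nontrivial B]
    {𝕍 : Type*} [CommGroup 𝕍] [Finite 𝕍] [Nontrivial 𝕍] [MulDistribMulAction B 𝕍] (hf : IsFpf B 𝕍)
    (hprime : ∀ b : B, b ≠ 1 → (orderOf b).Prime) (r : ℕ) (hr : r.Prime)
    (hcard : (primeSubgroups B).card = r + 1) (b : B) (hb : orderOf b = r) : False := by
  obtain ⟨v, hv⟩ := exists_ne (1 : 𝕍)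
  have h := (fpf_pow_card_primeSubgroups hf hprime v).2
  rw [hcard, Nat.add_sub_cancel] at h
  have hord : orderOf v = r := by
    have hd : orderOf v ∣ r := orderOf_dvd_of_pow_eq_one h
    rcases (Nat.dvd_prime hr).mp hd with h1 | h1
    · exact absurd (orderOf_eq_one_iff.mp h1) hv
    · exact h1
  have hdvd : r ∣ Nat.card 𝕍 := hord ▸ orderOf_dvd_natCard v
  exact fpf_not_dvd hf b r hr hb hdvd

/-- L5: a group of order `r²` and exponent `r` cannot act fixed-point-freely on a nontrivial finite
abelian group. -/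
theorem fpf_false_of_card_sq {B : Type*} [Group B] [Finite B]
    {𝕍 : Type*} [CommGroup 𝕍] [Finite 𝕍] [Nontrivial 𝕍] [MulDistribMulAction B 𝕍] (hf : IsFpf B 𝕍)
    (r : ℕ) (hr : r.Prime) (hB : Nat.card B = r ^ 2) (hexp : ∀ b : B, b ^ r = 1) : False := by
  classical
  have := Fintype.ofFinite B
  have hnt : Nontrivial B := by
    rw [← Finite.one_lt_card_iff_nontrivial, hB]
    exact Nat.one_lt_pow (by norm_num) hr.one_lt
  have hord : ∀ b : B, b ≠ 1 → orderOf b = r := by
    intro b hb
    have hd : orderOf b ∣ r := orderOf_dvd_of_pow_eq_one (hexp b)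
    rcases (Nat.dvd_prime hr).mp hd with h1 | h1
    · exact absurd (orderOf_eq_one_iff.mp h1) hb
    · exact h1
  have hprime : ∀ b : B, b ≠ 1 → (orderOf b).Prime := fun b hb => (hord b hb).symm ▸ hr
  have hpart := primeSubgroups_partition hprime
  have hcount := partition_card (primeSubgroups B) hpart
  -- each member has r elements
  have hS : ∀ S ∈ primeSubgroups B, Fintype.card S = r := by
    intro S hS
    rw [mem_primeSubgroups] at hS
    have hne : S ≠ ⊥ := by
      intro h
      rw [h, Subgroup.card_bot] at hS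
      exact Nat.not_prime_one hS
    obtain ⟨c, hc⟩ := Subgroup.ne_bot_iff_exists_ne_one.mp hne
    have hc' : (c : B) ≠ 1 := fun h => hc (Subtype.ext h)
    have h1 : orderOf (c : B) ∣ Nat.card S := by
      rw [Subgroup.orderOf_coe]
      exact orderOf_dvd_natCard c
    rw [hord _ hc'] at h1
    rw [← Nat.card_eq_fintype_card]
    rcases (Nat.dvd_prime hS).mp h1 with h2 | h2
    · exact absurd h2 hr.one_lt.ne'
    · exact h2.symm
  rw [Finset.sum_congr rfl hS, Finset.sum_const, smul_eq_mul, ← Nat.card_eq_fintype_card, hB] at hcount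
  have hr2 : 2 ≤ r := hr.two_le
  have hcard : (primeSubgroups B).card = r + 1 := by
    obtain ⟨k, rfl⟩ : ∃ k, r = k + 2 := ⟨r - 2, by omega⟩
    have e : (k + 2) ^ 2 - 1 = (k + 1) * (k + 3) := by
      have : (k + 2) ^ 2 = (k + 1) * (k + 3) + 1 := by ring
      omega
    rw [e] at hcount
    have : (primeSubgroups B).card * (k + 1) = (k + 1) * (k + 3) := by
      have : (primeSubgroups B).card * (k + 2) = (primeSubgroups B).card * (k + 1) + (primeSubgroups B).card := by ring
      omega
    have := Nat.eq_of_mul_eq_mul_right (by omega : 0 < k + 1) (this.trans (mul_comm _ _))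
    omega
  obtain ⟨b, hb⟩ := exists_ne (1 : B)
  exact fpf_false_of_card_primeSubgroups hf hprime r hr hcard b (hord b hb)


/-- L7: in a finite abelian group, if the `r`-torsion has at most `r` elements for each prime `r`,
then the `n`-torsion has at most `n` elements for every positive `n`. -/
theorem card_ker_pow_le {𝔸 : Type*} [CommGroup 𝔸] [Finite 𝔸]
    (h : ∀ r : ℕ, r.Prime → Nat.card (powMonoidHom r : 𝔸 →* 𝔸).ker ≤ r) :
    ∀ n : ℕ, 0 < n → Nat.card (powMonoidHom n : 𝔸 →* 𝔸).ker ≤ n := by
  intro n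
  induction n using Nat.strong_induction_on with
  | _ n ih =>
    intro hn
    rcases Nat.lt_or_ge n 2 with h2 | h2
    · have h1 : n = 1 := by omega
      subst h1
      have : (powMonoidHom 1 : 𝔸 →* 𝔸).ker = ⊥ := by
        ext a
        simp [MonoidHom.mem_ker]
      rw [this, Subgroup.card_bot]
    · set r := n.minFac with hr
      have hrp : r.Prime := Nat.minFac_prime (by omega)
      obtain ⟨m, hm⟩ : r ∣ n := Nat.minFac_dvd n
      have hmpos : 0 < m := by
        rcases Nat.eq_zero_or_pos m with h0 | h0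
        · rw [h0, mul_zero] at hm; omega
        · exact h0
      have hmlt : m < n := by
        rw [hm]
        have := hrp.two_le
        nlinarith
      -- the map a ↦ a ^ r from the n-torsion to the m-torsion
      let Kn := (powMonoidHom n : 𝔸 →* 𝔸).ker
      let Km := (powMonoidHom m : 𝔸 →* 𝔸).ker
      let Kr := (powMonoidHom r : 𝔸 →* 𝔸).ker
      have hmem : ∀ a : Kn, (a : 𝔸) ^ r ∈ Km := by
        intro a
        have ha : (a : 𝔸) ^ n = 1 := a.2
        show ((a : 𝔸) ^ r) ^ m = 1
        rw [← pow_mul, ← hm, ha]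
      let ψ : Kn →* Km :=
        { toFun := fun a => ⟨(a : 𝔸) ^ r, hmem a⟩
          map_one' := by ext; simp
          map_mul' := by intro a b; ext; simp [mul_pow] }
      have h1 := Subgroup.card_mul_index ψ.ker
      rw [Subgroup.index_ker] at h1
      have h2 : Nat.card ψ.range ≤ m :=
        (Subgroup.card_le_card_group ψ.range).trans (ih m hmlt hmpos)
      have h3 : Nat.card ψ.ker ≤ r := by
        refine le_trans ?_ (h r hrp)
        refine Nat.card_le_card_of_injective (fun x : ψ.ker => (⟨(x : Kn), ?_⟩ : Kr)) ?_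
        · have hx : ψ x = 1 := x.2
          have : ((x : Kn) : 𝔸) ^ r = 1 := congrArg Subtype.val hx
          exact this
        · intro x y hxy
          have : ((x : Kn) : 𝔸) = ((y : Kn) : 𝔸) := by
            have := congrArg (fun z : Kr => (z : 𝔸)) hxy
            exact this
          exact Subtype.ext (Subtype.ext this)
      calc Nat.card Kn = Nat.card ψ.ker * Nat.card ψ.range := h1.symm
        _ ≤ r * m := Nat.mul_le_mul h3 h2
        _ = n := hm.symm

open Classical in
/-- A finite abelian group whose `r`-torsion has at most `r` elements for every prime `r` is cyclic. -/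
theorem isCyclic_of_card_ker_pow_prime_le {𝔸 : Type*} [CommGroup 𝔸] [Finite 𝔸]
    (h : ∀ r : ℕ, r.Prime → Nat.card (powMonoidHom r : 𝔸 →* 𝔸).ker ≤ r) : IsCyclic 𝔸 := by
  have := Fintype.ofFinite 𝔸
  apply isCyclic_of_card_pow_eq_one_le
  intro n hn
  have := card_ker_pow_le h n hn
  rw [Nat.card_eq_fintype_card] at this
  refine le_trans (le_of_eq ?_) this
  rw [← Fintype.card_subtype]
  exact Fintype.card_congr (Equiv.subtypeEquivRight (fun a => by simp [MonoidHom.mem_ker]))


/-- Restriction of a fixed-point-free action to a subgroup. -/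
theorem IsFpf.subgroup {𝔸 : Type*} [Group 𝔸] {𝕍 : Type*} [CommGroup 𝕍] [MulDistribMulAction 𝔸 𝕍]
    (hf : IsFpf 𝔸 𝕍) (S : Subgroup 𝔸) : IsFpf S 𝕍 := by
  intro a ha v hv
  exact hf (a : 𝔸) (fun h => ha (Subtype.ext h)) v hv

/-- Abelian case: a finite abelian group acting fixed-point-freely on a nontrivial finite abelian
group is cyclic. -/
theorem isCyclic_of_fpf_comm {𝔸 : Type*} [CommGroup 𝔸] [Finite 𝔸]
    {𝕍 : Type*} [CommGroup 𝕍] [Finite 𝕍] [Nontrivial 𝕍] [MulDistribMulAction 𝔸 𝕍] (hf : IsFpf 𝔸 𝕍) :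
    IsCyclic 𝔸 := by
  apply isCyclic_of_card_ker_pow_prime_le
  intro r hr
  by_contra hlt
  push Not at hlt
  have : Fact r.Prime := ⟨hr⟩
  set Kr := (powMonoidHom r : 𝔸 →* 𝔸).ker with hKr
  have hexpK : ∀ a : Kr, a ^ r = 1 := by
    intro a
    have : (a : 𝔸) ^ r = 1 := a.2
    exact Subtype.ext (by simpa using this)
  have hP : IsPGroup r Kr := by
    intro a
    exact ⟨1, by rw [pow_one]; exact hexpK a⟩
  obtain ⟨k, hk⟩ := IsPGroup.iff_card.mp hP
  have hk2 : 2 ≤ k := by
    by_contra hk'
    push Not at hk'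
    have : r ^ k ≤ r ^ 1 := Nat.pow_le_pow_right hr.pos (by omega)
    rw [pow_one, ← hk] at this
    omega
  have hdvd : r ^ 2 ∣ Nat.card Kr := by
    rw [hk]
    exact pow_dvd_pow r hk2
  obtain ⟨E, hE⟩ := Sylow.exists_subgroup_card_pow_prime r hdvd
  have hfE : IsFpf E 𝕍 := (hf.subgroup Kr).subgroup E
  refine fpf_false_of_card_sq hfE r hr hE ?_
  intro e
  exact Subtype.ext (hexpK (e : Kr))


/-- For a group of order `p * q` (distinct primes), subgroups of order `p` are in bijection with
Sylow `p`-subgroups; hence their number divides `q`. -/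
theorem card_subgroups_of_card_prime_dvd {B : Type*} [Group B] [Finite B] (p q : ℕ) (hp : p.Prime)
    (hq : q.Prime) (hpq : p ≠ q) (hB : Nat.card B = p * q) :
    Nat.card {S : Subgroup B // Nat.card S = p} ∣ q := by
  have : Fact p.Prime := ⟨hp⟩
  have hfac : (Nat.card B).factorization p = 1 := by
    rw [hB, Nat.factorization_mul hp.ne_zero hq.ne_zero, Finsupp.add_apply, hp.factorization_self,
      Nat.factorization_eq_zero_of_not_dvd]
    intro h
    exact hpq ((Nat.prime_dvd_prime_iff_eq hp hq).mp h)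
  let e : Sylow p B ≃ {S : Subgroup B // Nat.card S = p} :=
    { toFun := fun P => ⟨P.1, by
        have := P.card_eq_multiplicity
        rw [hfac, pow_one] at this
        exact this⟩
      invFun := fun S => Sylow.ofCard S.1 (by rw [hfac, pow_one]; exact S.2)
      left_inv := fun P => Sylow.ext rfl
      right_inv := fun S => Subtype.ext rfl }
  rw [← Nat.card_congr e]
  obtain ⟨P⟩ : Nonempty (Sylow p B) := inferInstance
  have h1 := P.card_dvd_index
  have h2 := Subgroup.card_mul_index (P : Subgroup B)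
  have h3 : Nat.card (P : Subgroup B) = p := by
    have := P.card_eq_multiplicity
    rw [hfac, pow_one] at this
    exact this
  rw [h3, hB] at h2
  have : (P : Subgroup B).index = q := Nat.eq_of_mul_eq_mul_left hp.pos h2
  rwa [this] at h1

open Classical in
/-- L8: a non-cyclic group of order `p * q` (distinct primes) cannot act fixed-point-freely on a
nontrivial finite abelian group. -/
theorem fpf_false_of_card_mul {B : Type*} [Group B] [Finite B]
    {𝕍 : Type*} [CommGroup 𝕍] [Finite 𝕍] [Nontrivial 𝕍] [MulDistribMulAction B 𝕍] (hf : IsFpf B 𝕍)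
    (p q : ℕ) (hp : p.Prime) (hq : q.Prime) (hpq : p ≠ q) (hB : Nat.card B = p * q)
    (hnc : ¬ IsCyclic B) : False := by
  have := Fintype.ofFinite B
  have hnt : Nontrivial B := by
    rw [← Finite.one_lt_card_iff_nontrivial, hB]
    exact Nat.one_lt_mul_iff.mpr ⟨hp.pos, hq.pos, Or.inl hp.one_lt⟩
  -- orders of nonidentity elements
  have hord : ∀ b : B, b ≠ 1 → orderOf b = p ∨ orderOf b = q := by
    intro b hb
    have hd : orderOf b ∣ p * q := hB ▸ orderOf_dvd_natCard b
    obtain ⟨d1, d2, h1, h2, h3⟩ := (Nat.dvd_mul).mp hd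
    rcases (Nat.dvd_prime hp).mp h1 with e1 | e1 <;> rcases (Nat.dvd_prime hq).mp h2 with e2 | e2
    · exfalso
      rw [e1, e2, one_mul] at h3
      exact hb (orderOf_eq_one_iff.mp h3.symm)
    · right; rw [← h3, e1, e2, one_mul]
    · left; rw [← h3, e1, e2, mul_one]
    · exfalso
      apply hnc
      apply isCyclic_of_orderOf_eq_card b
      rw [← h3, e1, e2, hB]
  have hprime : ∀ b : B, b ≠ 1 → (orderOf b).Prime := by
    intro b hb
    rcases hord b hb with h | h <;> rw [h] <;> assumption
  have hpart := primeSubgroups_partition hprime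
  have hcount := partition_card (primeSubgroups B) hpart
  -- each member has p or q elements
  have hS : ∀ S ∈ primeSubgroups B, Nat.card S = p ∨ Nat.card S = q := by
    intro S hS
    rw [mem_primeSubgroups] at hS
    have hd : Nat.card S ∣ p * q := hB ▸ Subgroup.card_subgroup_dvd_card S
    rcases (Nat.Prime.dvd_mul hS).mp hd with h | h
    · left; exact (Nat.prime_dvd_prime_iff_eq hS hp).mp h
    · right; exact (Nat.prime_dvd_prime_iff_eq hS hq).mp h
  -- split the family
  set Sp := (primeSubgroups B).filter (fun S : Subgroup B => Nat.card S = p) with hSp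
  set Sq := (primeSubgroups B).filter (fun S : Subgroup B => ¬ Nat.card S = p) with hSq
  have hcardsplit : Sp.card + Sq.card = (primeSubgroups B).card :=
    Finset.card_filter_add_card_filter_not _
  have hsumsplit : ∑ S ∈ Sp, Fintype.card S + ∑ S ∈ Sq, Fintype.card S =
      ∑ S ∈ primeSubgroups B, Fintype.card S :=
    Finset.sum_filter_add_sum_filter_not _ _ _
  have hsp : ∑ S ∈ Sp, Fintype.card S = Sp.card * p := by
    rw [Finset.sum_congr rfl (g := fun _ => p), Finset.sum_const, smul_eq_mul]
    intro S hS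
    rw [← Nat.card_eq_fintype_card]
    exact (Finset.mem_filter.mp hS).2
  have hsq : ∑ S ∈ Sq, Fintype.card S = Sq.card * q := by
    rw [Finset.sum_congr rfl (g := fun _ => q), Finset.sum_const, smul_eq_mul]
    intro S hSmem
    rw [← Nat.card_eq_fintype_card]
    obtain ⟨h1, h2⟩ := Finset.mem_filter.mp hSmem
    rcases hS S h1 with h | h
    · exact absurd h h2
    · exact h
  -- identify the cardinalities with numbers of subgroups of the given order
  have hnp : Sp.card = Nat.card {S : Subgroup B // Nat.card S = p} := by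
    rw [Nat.card_eq_fintype_card, Fintype.card_subtype]
    congr 1
    ext S
    simp only [hSp, Finset.mem_filter, Finset.mem_univ, true_and, mem_primeSubgroups]
    constructor
    · exact fun h => h.2
    · intro h; exact ⟨h ▸ hp, h⟩
  have hnq : Sq.card = Nat.card {S : Subgroup B // Nat.card S = q} := by
    rw [Nat.card_eq_fintype_card, Fintype.card_subtype]
    congr 1
    ext S
    simp only [hSq, Finset.mem_filter, Finset.mem_univ, true_and, mem_primeSubgroups]
    constructor
    · rintro ⟨h1, h2⟩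
      have h1' : S ∈ primeSubgroups B := (mem_primeSubgroups S).mpr h1
      rcases hS S h1' with h | h
      · exact absurd h h2
      · exact h
    · intro h
      refine ⟨h ▸ hq, ?_⟩
      rw [h]
      exact fun h' => hpq h'.symm
  have hdp : Sp.card ∣ q := hnp ▸ card_subgroups_of_card_prime_dvd p q hp hq hpq hB
  have hdq : Sq.card ∣ p := by
    rw [hnq]
    exact card_subgroups_of_card_prime_dvd q p hq hp hpq.symm (by rw [hB, mul_comm])
  rw [← hsumsplit, hsp, hsq, ← hcardsplit, ← Nat.card_eq_fintype_card, hB] at hcount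
  have hp2 := hp.two_le
  have hq2 := hq.two_le
  -- elements of order p and q exist
  have : Fact p.Prime := ⟨hp⟩
  have : Fact q.Prime := ⟨hq⟩
  obtain ⟨bp, hbp⟩ := exists_prime_orderOf_dvd_card' (G := B) p (hB ▸ dvd_mul_right p q)
  obtain ⟨bq, hbq⟩ := exists_prime_orderOf_dvd_card' (G := B) q (hB ▸ dvd_mul_left q p)
  rcases (Nat.dvd_prime hq).mp hdp with h1 | h1 <;> rcases (Nat.dvd_prime hp).mp hdq with h2 | h2
  · -- (1,1): impossible
    exfalso
    rw [h1, h2] at hcount
    have : p * q = (p - 1) * (q - 1) + (p - 1) + (q - 1) + 1 := by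
      obtain ⟨a, rfl⟩ : ∃ a, p = a + 1 := ⟨p - 1, by omega⟩
      obtain ⟨b, rfl⟩ : ∃ b, q = b + 1 := ⟨q - 1, by omega⟩
      simp only [Nat.add_sub_cancel]
      ring
    have hpos : 0 < (p - 1) * (q - 1) := Nat.mul_pos (by omega) (by omega)
    omega
  · -- (1,p): card = p + 1
    have hcard : (primeSubgroups B).card = p + 1 := by rw [← hcardsplit, h1, h2]; ring
    exact fpf_false_of_card_primeSubgroups hf hprime p hp hcard bp hbp
  · -- (q,1): card = q + 1
    have hcard : (primeSubgroups B).card = q + 1 := by rw [← hcardsplit, h1, h2]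
    exact fpf_false_of_card_primeSubgroups hf hprime q hq hcard bq hbq
  · -- (q,p): impossible
    exfalso
    rw [h1, h2] at hcount
    have : p * q = (p - 1) * (q - 1) + (p - 1) + (q - 1) + 1 := by
      obtain ⟨a, rfl⟩ : ∃ a, p = a + 1 := ⟨p - 1, by omega⟩
      obtain ⟨b, rfl⟩ : ∃ b, q = b + 1 := ⟨q - 1, by omega⟩
      simp only [Nat.add_sub_cancel]
      ring
    have hpos : 0 < (p - 1) * (q - 1) := Nat.mul_pos (by omega) (by omega)
    have hqp : q * p = p * q := mul_comm q p
    omega

end Abstract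

end Cfsg.Agent.Helper96
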