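import Mathlib
import Cfsg.Prelude.Def_Solvable

set_option autoImplicit false

namespace Cfsg.Agent.Helper96

open scoped Pointwise

variable {G : Type*} [Group G]

theorem mem_conj_smul_iff (H : Subgroup G) (g x : G) :
    x ∈ MulAut.conj g • H ↔ g⁻¹ * x * g ∈ H := by
  rw [Subgroup.mem_pointwise_smul_iff_inv_smul_mem]
  simp [MulAut.smul_def]

theorem conj_mem_conj_smul (H : Subgroup G) (g h : G) (hh : h ∈ H) :
    g * h * g⁻¹ ∈ MulAut.conj g • H := by
  rw [mem_conj_smul_iff]
  have : g⁻¹ * (g * h * g⁻¹) * g = h := by group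
  rw [this]; exact hh

/-- Key property: a nonidentity element of `H` whose conjugate lies in `H` forces the conjugator into `H`. -/
theorem frob_mem_of_conj_mem {H : Subgroup G} (hH : Cfsg.IsFrobeniusComplement H)
    {h g : G} (hh : h ∈ H) (h1 : h ≠ 1) (hg : g⁻¹ * h * g ∈ H) : g ∈ H := by
  by_contra hgH
  have := hH.2.2 g hgH
  have hmem : h ∈ H ⊓ MulAut.conj g • H := ⟨hh, (mem_conj_smul_iff H g h).mpr hg⟩
  rw [this, Subgroup.mem_bot] at hmem
  exact h1 hmem

theorem frob_mem_of_conj_mem' {H : Subgroup G} (hH : Cfsg.IsFrobeniusComplement H)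
    {h g : G} (hh : h ∈ H) (h1 : h ≠ 1) (hg : g * h * g⁻¹ ∈ H) : g ∈ H := by
  have : g⁻¹ ∈ H := frob_mem_of_conj_mem hH hh h1 (by simpa using hg)
  simpa using H.inv_mem this

theorem mem_frobeniusKernel_iff (H : Subgroup G) (x : G) :
    x ∈ Cfsg.frobeniusKernel H ↔ x = 1 ∨ ∀ g : G, g⁻¹ * x * g ∉ H := by
  unfold Cfsg.frobeniusKernel
  simp only [Set.mem_ofPred_eq, mem_conj_smul_iff]

theorem not_mem_frobeniusKernel_iff (H : Subgroup G) (x : G) :
    x ∉ Cfsg.frobeniusKernel H ↔ x ≠ 1 ∧ ∃ g : G, g⁻¹ * x * g ∈ H := by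
  rw [mem_frobeniusKernel_iff]
  push Not
  rfl


/-- The nonidentity elements of conjugates of `H` are parametrised by cosets and nonidentity elements of `H`. -/
noncomputable def complKernelMap (H : Subgroup G) (p : (G ⧸ H) × {h : H // h ≠ 1}) : G :=
  p.1.out * (p.2.1 : G) * (p.1.out)⁻¹

theorem complKernelMap_not_mem (H : Subgroup G) (p : (G ⧸ H) × {h : H // h ≠ 1}) :
    complKernelMap H p ∉ Cfsg.frobeniusKernel H := by
  rw [not_mem_frobeniusKernel_iff]
  unfold complKernelMap
  constructor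
  · intro h
    have : (p.2.1 : G) = 1 := by
      have e : (p.2.1 : G) = (p.1.out)⁻¹ * (p.1.out * (p.2.1 : G) * (p.1.out)⁻¹) * p.1.out := by group
      rw [e, h]; group
    exact p.2.2 (Subtype.ext this)
  · refine ⟨p.1.out, ?_⟩
    have e : (p.1.out)⁻¹ * (p.1.out * (p.2.1 : G) * (p.1.out)⁻¹) * p.1.out = (p.2.1 : G) := by group
    rw [e]; exact p.2.1.2

theorem complKernelMap_injective {H : Subgroup G} (hH : Cfsg.IsFrobeniusComplement H) :
    Function.Injective (complKernelMap H) := by
  rintro ⟨c, ⟨h, hh⟩⟩ ⟨c', ⟨h', hh'⟩⟩ heq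
  unfold complKernelMap at heq
  simp only at heq
  have h1 : (h' : G) ≠ 1 := fun e => hh' (Subtype.ext e)
  have hconj : ((c.out)⁻¹ * c'.out) * (h' : G) * ((c.out)⁻¹ * c'.out)⁻¹ = (h : G) := by
    have : ((c.out)⁻¹ * c'.out) * (h' : G) * ((c.out)⁻¹ * c'.out)⁻¹ =
        (c.out)⁻¹ * (c'.out * (h' : G) * (c'.out)⁻¹) * c.out := by group
    rw [this, ← heq]; group
  have hab : (c.out)⁻¹ * c'.out ∈ H := frob_mem_of_conj_mem' hH h'.2 h1 (by rw [hconj]; exact h.2)
  have hcc : c = c' := by
    have e1 : ((c.out : G) : G ⧸ H) = c := QuotientGroup.out_eq' c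
    have e2 : ((c'.out : G) : G ⧸ H) = c' := QuotientGroup.out_eq' c'
    rw [← e1, ← e2]
    exact QuotientGroup.eq.mpr hab
  subst hcc
  have : (h : G) = (h' : G) := by
    have e : (h : G) = (c.out)⁻¹ * (c.out * (h : G) * (c.out)⁻¹) * c.out := by group
    rw [e, heq]; group
  have : h = h' := Subtype.ext this
  subst this
  rfl

theorem complKernelMap_surjective (H : Subgroup G) (x : G) (hx : x ∉ Cfsg.frobeniusKernel H) :
    ∃ p, complKernelMap H p = x := by
  rw [not_mem_frobeniusKernel_iff] at hx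
  obtain ⟨hx1, g, hg⟩ := hx
  set c : G ⧸ H := (g : G ⧸ H) with hc
  set a := c.out with ha
  have hk : a⁻¹ * g ∈ H := by
    have e1 : (a : G ⧸ H) = c := QuotientGroup.out_eq' c
    exact QuotientGroup.eq.mp e1
  have hmem : a⁻¹ * x * a ∈ H := by
    have e : a⁻¹ * x * a = (a⁻¹ * g) * (g⁻¹ * x * g) * (a⁻¹ * g)⁻¹ := by group
    rw [e]
    exact H.mul_mem (H.mul_mem hk hg) (H.inv_mem hk)
  have hne : (⟨a⁻¹ * x * a, hmem⟩ : H) ≠ 1 := by
    intro h
    have h' : a⁻¹ * x * a = 1 := congrArg Subtype.val h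
    apply hx1
    have e : x = a * (a⁻¹ * x * a) * a⁻¹ := by group
    rw [e, h']; group
  refine ⟨(c, ⟨⟨a⁻¹ * x * a, hmem⟩, hne⟩), ?_⟩
  unfold complKernelMap
  simp only
  rw [← ha]
  group

theorem card_compl_frobeniusKernel [Finite G] {H : Subgroup G} (hH : Cfsg.IsFrobeniusComplement H) :
    Nat.card {x : G // x ∉ Cfsg.frobeniusKernel H} = H.index * (Nat.card H - 1) := by
  classical
  have e : ((G ⧸ H) × {h : H // h ≠ 1}) ≃ {x : G // x ∉ Cfsg.frobeniusKernel H} := by
    refine Equiv.ofBijective (fun p => ⟨complKernelMap H p, complKernelMap_not_mem H p⟩) ⟨?_, ?_⟩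
    · intro p q hpq
      exact complKernelMap_injective hH (congrArg Subtype.val hpq)
    · rintro ⟨x, hx⟩
      obtain ⟨p, hp⟩ := complKernelMap_surjective H x hx
      exact ⟨p, Subtype.ext hp⟩
  rw [← Nat.card_congr e, Nat.card_prod]
  congr 1
  have := Fintype.ofFinite H
  rw [Nat.card_eq_fintype_card, Nat.card_eq_fintype_card, Fintype.card_subtype_compl, Fintype.card_subtype_eq]

theorem card_frobeniusKernel [Finite G] {H : Subgroup G} (hH : Cfsg.IsFrobeniusComplement H) :
    Nat.card (Cfsg.frobeniusKernel H) = H.index := by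
  classical
  have h1 := card_compl_frobeniusKernel hH
  have h2 : Nat.card (Cfsg.frobeniusKernel H) + Nat.card {x : G // x ∉ Cfsg.frobeniusKernel H} = Nat.card G := by
    have := Fintype.ofFinite G
    rw [Nat.card_eq_fintype_card, Nat.card_eq_fintype_card, Nat.card_eq_fintype_card]
    have h4 := Fintype.card_subtype_compl (fun x : G => x ∈ Cfsg.frobeniusKernel H)
    have h5 := Fintype.card_subtype_le (fun x : G => x ∈ Cfsg.frobeniusKernel H)
    have h6 : Fintype.card {x : G // x ∈ Cfsg.frobeniusKernel H} = Fintype.card (Cfsg.frobeniusKernel H) := rfl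
    omega
  have h3 := Subgroup.index_mul_card H
  have hpos : 0 < Nat.card H := Nat.card_pos
  rw [h1, ← h3] at h2
  have : H.index * (Nat.card H - 1) + H.index = H.index * Nat.card H := by
    rw [← Nat.mul_succ]
    congr 1
    omega
  omega


theorem smul_coset_eq_iff (H : Subgroup G) (h : H) (g : G) :
    h • (g : G ⧸ H) = (g : G ⧸ H) ↔ g⁻¹ * (h : G) * g ∈ H := by
  have : h • (g : G ⧸ H) = (((h : G) * g : G) : G ⧸ H) := rfl
  rw [this, QuotientGroup.eq]
  have e : ((h : G) * g)⁻¹ * g = (g⁻¹ * (h : G) * g)⁻¹ := by group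
  rw [e, inv_mem_iff]

theorem fixedBy_eq_singleton {H : Subgroup G} (hH : Cfsg.IsFrobeniusComplement H) (h : H) (h1 : h ≠ 1) :
    MulAction.fixedBy (G ⧸ H) h = {((1 : G) : G ⧸ H)} := by
  ext c
  rw [MulAction.mem_fixedBy, Set.mem_singleton_iff]
  induction c using QuotientGroup.induction_on with
  | H g =>
    rw [smul_coset_eq_iff]
    constructor
    · intro hg
      have hne : (h : G) ≠ 1 := fun e => h1 (Subtype.ext e)
      have := frob_mem_of_conj_mem hH h.2 hne hg
      rw [QuotientGroup.eq]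
      simpa using H.inv_mem this
    · intro hg
      rw [QuotientGroup.eq] at hg
      have hg' : g ∈ H := by simpa using H.inv_mem hg
      exact H.mul_mem (H.mul_mem (H.inv_mem hg') h.2) hg'

theorem index_mod_card [Finite G] {H : Subgroup G} (hH : Cfsg.IsFrobeniusComplement H) :
    H.index % Nat.card H = 1 % Nat.card H := by
  classical
  have := Fintype.ofFinite G
  have := Fintype.ofFinite H
  have := Fintype.ofFinite (G ⧸ H)
  have hB := MulAction.sum_card_fixedBy_eq_card_orbits_mul_card_group H (G ⧸ H)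
  rw [← Finset.add_sum_erase Finset.univ _ (Finset.mem_univ (1 : H))] at hB
  have h1 : Fintype.card (MulAction.fixedBy (G ⧸ H) (1 : H)) = H.index := by
    rw [Subgroup.index_eq_card, Nat.card_eq_fintype_card]
    apply Fintype.card_congr
    refine (Equiv.subtypeUnivEquiv ?_)
    intro c
    rw [MulAction.mem_fixedBy, one_smul]
  have h2 : ∑ x ∈ Finset.univ.erase (1 : H), Fintype.card (MulAction.fixedBy (G ⧸ H) x) =
      Fintype.card H - 1 := by
    rw [Finset.sum_congr rfl (g := fun _ => 1)]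
    · rw [Finset.sum_const, smul_eq_mul, mul_one, Finset.card_erase_of_mem (Finset.mem_univ _),
        Finset.card_univ]
    · intro x hx
      have hx1 : x ≠ 1 := Finset.ne_of_mem_erase hx
      have := fixedBy_eq_singleton hH x hx1
      rw [Fintype.card_congr (Equiv.setCongr this)]
      exact Fintype.card_unique
  rw [h1, h2] at hB
  rw [Nat.card_eq_fintype_card]
  have hpos : 0 < Fintype.card H := Fintype.card_pos
  set o := Fintype.card (Quotient (MulAction.orbitRel H (G ⧸ H))) with ho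
  set n := Fintype.card H with hn
  have hidx : 0 < H.index := by
    have := Subgroup.index_ne_zero_of_finite (H := H)
    omega
  -- H.index + (n - 1) = o * n
  have ho1 : 1 ≤ o := by
    rcases Nat.eq_zero_or_pos o with h0 | h0
    · rw [h0, zero_mul] at hB; omega
    · exact h0
  obtain ⟨o', ho'⟩ : ∃ o', o = o' + 1 := ⟨o - 1, by omega⟩
  have : H.index = 1 + o' * n := by
    have : (o' + 1) * n = o' * n + n := by ring
    rw [ho', this] at hB
    omega
  rw [this, Nat.add_mul_mod_self_right]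

end Cfsg.Agent.Helper96
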