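import Mathlib
import Cfsg.Prelude.Def_Characters
import Cfsg.Prelude.Def_Solvable
import Cfsg.Agent.Lib.Helper3.CharInd
import Cfsg.Agent.Lib.Helper96.Frobenius

set_option autoImplicit false
set_option linter.unusedSectionVars false

namespace Cfsg.Agent.Helper96

open Cfsg.Agent.Helper3
open scoped ComplexConjugate

universe u
variable {G : Type u} [Group G] [Fintype G]

/-- A1: induction from a Frobenius complement agrees with the class function on `H ∖ 1`. -/
theorem frob_ind_apply_of_mem {H : Subgroup G} [Fintype H] (hH : Cfsg.IsFrobeniusComplement H)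
    (θ : H → ℂ) (hθ : Cfsg.IsClassFunction H θ) (h : H) (h1 : h ≠ 1) :
    Cfsg.indFun H θ (h : G) = θ h := by
  rw [indFun_apply]
  have hne : (h : G) ≠ 1 := fun e => h1 (Subtype.ext e)
  have hterm : ∀ x : G, Cfsg.extendByZero H θ (x⁻¹ * (h : G) * x)
      = Cfsg.extendByZero H (fun _ => θ h) x := by
    intro x
    by_cases hx : x ∈ H
    · rw [extendByZero_of_mem _ _ hx]
      have hmem : x⁻¹ * (h : G) * x ∈ H := H.mul_mem (H.mul_mem (H.inv_mem hx) h.2) hx
      rw [extendByZero_of_mem _ _ hmem]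
      have := hθ h (⟨x, hx⟩ : H)⁻¹
      rw [← this]
      congr 1
      apply Subtype.ext
      simp
    · rw [extendByZero_not_mem _ _ hx]
      apply extendByZero_not_mem
      intro hmem
      exact hx (frob_mem_of_conj_mem hH h.2 hne hmem)
  simp_rw [hterm]
  rw [sum_extendByZero]
  rw [Finset.sum_const, Finset.card_univ, nsmul_eq_mul, ← Nat.card_eq_fintype_card]
  have hN : (Nat.card H : ℂ) ≠ 0 := by exact_mod_cast Nat.card_pos.ne'
  field_simp

/-- A2: induction from a Frobenius complement vanishes on the nonidentity elements of the kernel. -/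
theorem frob_ind_apply_of_kernel {H : Subgroup G} (θ : H → ℂ) (x : G)
    (hx : x ∈ Cfsg.frobeniusKernel H) (hx1 : x ≠ 1) : Cfsg.indFun H θ x = 0 := by
  rw [indFun_apply]
  rw [mem_frobeniusKernel_iff] at hx
  rcases hx with hx | hx
  · exact absurd hx hx1
  · rw [Finset.sum_eq_zero, mul_zero]
    intro g _
    exact extendByZero_not_mem _ _ (hx g)

/-- A3: value of an induced function at the identity. -/
theorem ind_apply_one (H : Subgroup G) (θ : H → ℂ) :
    Cfsg.indFun H θ 1 = (H.index : ℂ) * θ 1 := by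
  rw [indFun_apply]
  have : ∀ x : G, Cfsg.extendByZero H θ (x⁻¹ * 1 * x) = θ 1 := by
    intro x
    have e : x⁻¹ * 1 * x = ((1 : H) : G) := by simp
    rw [e, extendByZero_mem]
  simp_rw [this]
  rw [Finset.sum_const, Finset.card_univ, nsmul_eq_mul, ← Nat.card_eq_fintype_card,
    ← Subgroup.index_mul_card H]
  have hN : (Nat.card H : ℂ) ≠ 0 := by exact_mod_cast Nat.card_pos.ne'
  push_cast
  field_simp


/-- The extension `θ*` of a class function `θ` of a Frobenius complement `H` to `G`. -/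
noncomputable def frobExt (H : Subgroup G) (θ : H → ℂ) : G → ℂ :=
  Cfsg.indFun H (θ - (fun _ => θ 1)) + (fun _ => θ 1)

theorem frobExt_apply_one (H : Subgroup G) (θ : H → ℂ) : frobExt H θ 1 = θ 1 := by
  unfold frobExt
  rw [Pi.add_apply, ind_apply_one]
  simp

theorem frobExt_apply_mem {H : Subgroup G} [Fintype H] (hH : Cfsg.IsFrobeniusComplement H)
    (θ : H → ℂ) (hθ : Cfsg.IsClassFunction H θ) (h : H) : frobExt H θ (h : G) = θ h := by
  by_cases h1 : h = 1
  · rw [h1]; exact frobExt_apply_one H θ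
  · unfold frobExt
    have hcl : Cfsg.IsClassFunction H (θ - (fun _ => θ 1)) := by
      intro g k
      simp only [Pi.sub_apply]
      rw [hθ g k]
    rw [Pi.add_apply, frob_ind_apply_of_mem hH _ hcl h h1]
    simp

theorem frobExt_apply_kernel (H : Subgroup G) (θ : H → ℂ) (x : G)
    (hx : x ∈ Cfsg.frobeniusKernel H) : frobExt H θ x = frobExt H θ 1 := by
  by_cases hx1 : x = 1
  · rw [hx1]
  · rw [frobExt_apply_one]
    unfold frobExt
    rw [Pi.add_apply, frob_ind_apply_of_kernel _ x hx hx1, zero_add]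

theorem frobExt_isClassFunction (H : Subgroup G) (θ : H → ℂ) :
    Cfsg.IsClassFunction G (frobExt H θ) := by
  intro g k
  unfold frobExt
  simp only [Pi.add_apply]
  rw [isClassFunction_indFun H _ g k]

theorem classInner_one_one : Cfsg.classInner (fun _ : G => (1 : ℂ)) (fun _ : G => (1 : ℂ)) = 1 :=
  classInner_irr_self isIrrCharacter_one

/-- B4: the extension of a nontrivial irreducible character has norm one. -/
theorem frobExt_norm {H : Subgroup G} [Fintype H] (hH : Cfsg.IsFrobeniusComplement H)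
    (θ : H → ℂ) (hθ : Cfsg.IsIrrCharacter H θ) (hθ1 : θ ≠ fun _ => (1 : ℂ)) :
    Cfsg.classInner (frobExt H θ) (frobExt H θ) = 1 := by
  have hcl := isClassFunction_of_isIrrCharacter hθ
  have hclG := frobExt_isClassFunction H θ
  have hres : (fun h : H => frobExt H θ (h : G)) = θ := by
    funext h
    exact frobExt_apply_mem hH θ hcl h
  have h1θ : Cfsg.classInner (fun _ : H => (1 : ℂ)) θ = 0 :=
    classInner_irr_ne isIrrCharacter_one hθ (Ne.symm hθ1)
  have hθ1' : Cfsg.classInner θ (fun _ : H => (1 : ℂ)) = 0 :=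
    classInner_irr_ne hθ isIrrCharacter_one hθ1
  have hθθ : Cfsg.classInner θ θ = 1 := classInner_irr_self hθ
  set d : ℂ := θ 1 with hd
  have hconst : (fun _ : H => d) = d • (fun _ : H => (1 : ℂ)) := by
    funext h; simp
  have hconstG : (fun _ : G => d) = d • (fun _ : G => (1 : ℂ)) := by
    funext h; simp
  -- ⟨χ, 1_G⟩ = 0
  have hχ1 : Cfsg.classInner (frobExt H θ) (fun _ : G => (1 : ℂ)) = 0 := by
    unfold frobExt
    rw [classInner_add_left, frobenius_reciprocity H _ _ (isClassFunction_of_isIrrCharacter isIrrCharacter_one)]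
    rw [classInner_sub_left, hθ1', ← hd, hconst, classInner_smul_left, hconstG, classInner_smul_left]
    rw [classInner_one_one, classInner_one_one]
    ring
  -- ⟨Ind φ, χ⟩ = 1
  have hind : Cfsg.classInner (Cfsg.indFun H (θ - (fun _ => θ 1))) (frobExt H θ) = 1 := by
    rw [frobenius_reciprocity H _ _ hclG, hres, classInner_sub_left, hθθ, ← hd, hconst,
      classInner_smul_left, h1θ]
    ring
  have h1χ : Cfsg.classInner (fun _ : G => (1 : ℂ)) (frobExt H θ) = 0 := by
    rw [← classInner_conj_symm, hχ1, map_zero]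
  conv_lhs =>
    arg 1
    unfold frobExt
  rw [classInner_add_left, hind, ← hd, hconstG, classInner_smul_left, h1χ]
  ring


theorem irr_apply_one_pos {χ : G → ℂ} (hχ : Cfsg.IsIrrCharacter G χ) :
    ∃ m : ℕ, 0 < m ∧ χ 1 = (m : ℂ) := by
  obtain ⟨n, ρ, hirr, rfl⟩ := hχ
  refine ⟨n, ?_, ?_⟩
  · have := nontrivial_of_irr ρ
    rcases Nat.eq_zero_or_pos n with h0 | h0
    · subst h0
      exfalso
      exact not_subsingleton (Fin 0 → ℂ) inferInstance
    · exact h0
  · rw [Representation.char_one]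
    simp

theorem char_apply_one_nat {χ : G → ℂ} (hχ : Cfsg.IsCharacter G χ) :
    ∃ m : ℕ, χ 1 = (m : ℂ) := by
  obtain ⟨n, ρ, rfl⟩ := hχ
  exact ⟨n, by rw [Representation.char_one]; simp⟩

/-- A difference of two characters of norm one and positive degree is an irreducible character. -/
theorem isIrrCharacter_of_sub_of_norm_one {α β : G → ℂ} (hα : Cfsg.IsCharacter G α)
    (hβ : Cfsg.IsCharacter G β) (h : Cfsg.classInner (α - β) (α - β) = 1)
    (n : ℕ) (hn : 0 < n) (h1 : (α - β) 1 = (n : ℂ)) : Cfsg.IsIrrCharacter G (α - β) := by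
  classical
  set a : Cfsg.IrrCharacter G → ℤ := fun ψ => (irrMult α ψ : ℤ) - (irrMult β ψ : ℤ) with ha
  have hf : α - β = ∑ ψ : Cfsg.IrrCharacter G, ((a ψ : ℤ) : ℂ) • (ψ : G → ℂ) := by
    conv_lhs => rw [isCharacter_eq_sum_irrMult hα, isCharacter_eq_sum_irrMult hβ]
    rw [← Finset.sum_sub_distrib]
    apply Finset.sum_congr rfl
    intro ψ _
    rw [ha]
    push_cast
    rw [sub_smul]
  have hnorm : ((∑ ψ : Cfsg.IrrCharacter G, (a ψ) ^ 2 : ℤ) : ℂ) = 1 := by
    rw [← h]
    conv_rhs => rw [hf]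
    rw [classInner_sum_irr]
    push_cast
    apply Finset.sum_congr rfl
    intro ψ _
    rw [map_intCast]; ring
  have h1' : ∑ ψ : Cfsg.IrrCharacter G, (a ψ) ^ 2 = 1 := by exact_mod_cast hnorm
  have hex : ∃ ψ : Cfsg.IrrCharacter G, a ψ ≠ 0 := by
    by_contra hne
    push Not at hne
    simp [hne] at h1'
  obtain ⟨ψ₀, hψ₀⟩ := hex
  have hsplit := Finset.add_sum_erase Finset.univ (fun ψ : Cfsg.IrrCharacter G => (a ψ) ^ 2)
    (Finset.mem_univ ψ₀)
  rw [h1'] at hsplit
  have hpos : 1 ≤ (a ψ₀) ^ 2 := by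
    have : 0 < (a ψ₀) ^ 2 := by positivity
    omega
  have hnonneg : 0 ≤ ∑ ψ ∈ Finset.univ.erase ψ₀, (a ψ) ^ 2 :=
    Finset.sum_nonneg (fun ψ _ => by positivity)
  have hrest : ∑ ψ ∈ Finset.univ.erase ψ₀, (a ψ) ^ 2 = 0 := by omega
  have hone : (a ψ₀) ^ 2 = 1 := by omega
  have hothers : ∀ ψ, ψ ≠ ψ₀ → a ψ = 0 := by
    intro ψ hψ
    have := (Finset.sum_eq_zero_iff_of_nonneg (fun ψ _ => by positivity)).mp hrest ψ
      (Finset.mem_erase.mpr ⟨hψ, Finset.mem_univ _⟩)
    exact pow_eq_zero_iff (two_ne_zero) |>.mp this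
  have hf' : α - β = ((a ψ₀ : ℤ) : ℂ) • (ψ₀ : G → ℂ) := by
    rw [hf, Finset.sum_eq_single ψ₀]
    · intro b _ hb; rw [hothers b hb]; simp
    · intro h; exact absurd (Finset.mem_univ _) h
  -- sign
  obtain ⟨m, hm, hm1⟩ := irr_apply_one_pos ψ₀.2
  have hval : ((n : ℤ) : ℂ) = ((a ψ₀ * m : ℤ) : ℂ) := by
    have := congrFun hf' 1
    rw [h1, Pi.smul_apply, hm1, smul_eq_mul] at this
    push_cast
    exact this
  have hval' : (n : ℤ) = a ψ₀ * m := by exact_mod_cast hval
  have hapos : 0 < a ψ₀ := by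
    by_contra hle
    push Not at hle
    have : a ψ₀ * m ≤ 0 := Int.mul_nonpos_of_nonpos_of_nonneg hle (by positivity)
    omega
  have ha1 : a ψ₀ = 1 := by
    have : (a ψ₀ - 1) * (a ψ₀ + 1) = 0 := by ring_nf; rw [hone]; ring
    rcases mul_eq_zero.mp this with h | h
    · omega
    · omega
  rw [hf', ha1]
  simp only [Int.cast_one, one_smul]
  exact ψ₀.2

theorem extendByZero_sub (H : Subgroup G) (φ ψ : H → ℂ) (y : G) :
    Cfsg.extendByZero H (φ - ψ) y = Cfsg.extendByZero H φ y - Cfsg.extendByZero H ψ y := by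
  by_cases hy : y ∈ H
  · rw [extendByZero_of_mem _ _ hy, extendByZero_of_mem _ _ hy, extendByZero_of_mem _ _ hy]
    rfl
  · rw [extendByZero_not_mem _ _ hy, extendByZero_not_mem _ _ hy, extendByZero_not_mem _ _ hy]
    simp

theorem extendByZero_smul (H : Subgroup G) (c : ℂ) (φ : H → ℂ) (y : G) :
    Cfsg.extendByZero H (c • φ) y = c * Cfsg.extendByZero H φ y := by
  by_cases hy : y ∈ H
  · rw [extendByZero_of_mem _ _ hy, extendByZero_of_mem _ _ hy]
    rfl
  · rw [extendByZero_not_mem _ _ hy, extendByZero_not_mem _ _ hy]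
    simp

theorem indFun_sub (H : Subgroup G) (φ ψ : H → ℂ) :
    Cfsg.indFun H (φ - ψ) = Cfsg.indFun H φ - Cfsg.indFun H ψ := by
  funext g
  simp only [Pi.sub_apply, indFun_apply, extendByZero_sub, Finset.sum_sub_distrib, mul_sub]

theorem indFun_smul (H : Subgroup G) (c : ℂ) (φ : H → ℂ) :
    Cfsg.indFun H (c • φ) = c • Cfsg.indFun H φ := by
  funext g
  simp only [Pi.smul_apply, indFun_apply, extendByZero_smul, ← Finset.mul_sum, smul_eq_mul]
  ring

/-- The extension of a nontrivial irreducible character of a Frobenius complement is an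
irreducible character of the whole group. -/
theorem frobExt_isIrrCharacter {H : Subgroup G} [Fintype H] (hH : Cfsg.IsFrobeniusComplement H)
    (θ : H → ℂ) (hθ : Cfsg.IsIrrCharacter H θ) (hθ1 : θ ≠ fun _ => (1 : ℂ)) :
    Cfsg.IsIrrCharacter G (frobExt H θ) := by
  obtain ⟨n, hn, hn1⟩ := irr_apply_one_pos hθ
  have hchar := isCharacter_of_isIrrCharacter hθ
  have hα : Cfsg.IsCharacter G (Cfsg.indFun H θ + (n : ℂ) • (fun _ : G => (1 : ℂ))) :=
    isCharacter_add (isCharacter_indFun H θ hchar) (isCharacter_nsmul isCharacter_one n)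
  have hβ : Cfsg.IsCharacter G ((n : ℂ) • Cfsg.indFun H (fun _ : H => (1 : ℂ))) :=
    isCharacter_nsmul (isCharacter_indFun H _ isCharacter_one) n
  have hαβ : frobExt H θ = (Cfsg.indFun H θ + (n : ℂ) • (fun _ : G => (1 : ℂ)))
      - ((n : ℂ) • Cfsg.indFun H (fun _ : H => (1 : ℂ))) := by
    unfold frobExt
    rw [indFun_sub, hn1]
    have : (fun _ : H => (n : ℂ)) = (n : ℂ) • (fun _ : H => (1 : ℂ)) := by funext; simp
    rw [this, indFun_smul]
    funext g
    simp only [Pi.add_apply, Pi.sub_apply, Pi.smul_apply, smul_eq_mul, mul_one]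
    ring
  rw [hαβ]
  apply isIrrCharacter_of_sub_of_norm_one hα hβ _ n hn _
  · rw [← hαβ]; exact frobExt_norm hH θ hθ hθ1
  · rw [← hαβ, frobExt_apply_one, hn1]

/-- The kernel of a character as a normal subgroup. -/
theorem exists_normal_ker_of_isCharacter {χ : G → ℂ} (hχ : Cfsg.IsCharacter G χ) :
    ∃ N : Subgroup G, N.Normal ∧ ∀ g, g ∈ N ↔ χ g = χ 1 := by
  obtain ⟨n, ρ, rfl⟩ := hχ
  refine ⟨MonoidHom.ker ρ, MonoidHom.normal_ker ρ, ?_⟩
  intro g
  rw [MonoidHom.mem_ker, Representation.char_one, char_eq_finrank_iff]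
  rfl

/-- **Frobenius' theorem.** -/
theorem frobenius_kernel_normal_complement {H : Subgroup G}
    (hH : Cfsg.IsFrobeniusComplement H) :
    ∃ N : Subgroup G, (N : Set G) = Cfsg.frobeniusKernel H ∧ N.Normal ∧
      Subgroup.IsComplement' N H := by
  classical
  have : Fintype H := Fintype.ofFinite H
  set M : Subgroup G := Subgroup.normalClosure (Cfsg.frobeniusKernel H) with hM
  have hMn : M.Normal := Subgroup.normalClosure_normal
  -- M is contained in the kernel of each extended character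
  have hker : ∀ θ : H → ℂ, Cfsg.IsIrrCharacter H θ → θ ≠ (fun _ => (1 : ℂ)) →
      ∀ x ∈ M, frobExt H θ x = frobExt H θ 1 := by
    intro θ hθ hθ1
    obtain ⟨N, hNn, hN⟩ := exists_normal_ker_of_isCharacter
      (isCharacter_of_isIrrCharacter (frobExt_isIrrCharacter hH θ hθ hθ1))
    have hle : M ≤ N := by
      apply Subgroup.normalClosure_le_normal
      intro x hx
      exact (hN x).mpr (frobExt_apply_kernel H θ x hx)
    intro x hx
    exact (hN x).mp (hle hx)
  -- M ∩ H = 1
  have hMH : ∀ h : H, (h : G) ∈ M → h = 1 := by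
    intro h hh
    have hconj : IsConj h 1 := by
      rw [isConj_iff_forall_irr]
      intro θ
      by_cases hθ1 : (θ : H → ℂ) = fun _ => (1 : ℂ)
      · rw [hθ1]
      · have := hker θ θ.2 hθ1 (h : G) hh
        rw [frobExt_apply_mem hH θ (isClassFunction_of_isIrrCharacter θ.2),
          frobExt_apply_one] at this
        exact this
    exact isConj_one_left.mp hconj
  -- M ⊆ K
  have hMK : (M : Set G) = Cfsg.frobeniusKernel H := by
    apply Set.Subset.antisymm
    · intro x hx
      by_contra hxK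
      rw [not_mem_frobeniusKernel_iff] at hxK
      obtain ⟨hx1, g, hg⟩ := hxK
      have hgM : g⁻¹ * x * g ∈ M := by
        have := hMn.conj_mem x hx g⁻¹
        simpa using this
      have := hMH ⟨_, hg⟩ hgM
      have h1 : g⁻¹ * x * g = 1 := congrArg Subtype.val this
      apply hx1
      have : x = g * (g⁻¹ * x * g) * g⁻¹ := by group
      rw [this, h1]; group
    · exact Subgroup.subset_normalClosure
  refine ⟨M, hMK, hMn, ?_⟩
  apply Subgroup.isComplement'_of_card_mul_and_disjoint
  · have hcard : Nat.card M = H.index := by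
      rw [← card_frobeniusKernel hH, ← hMK]
      rfl
    rw [hcard, Subgroup.index_mul_card]
  · rw [Subgroup.disjoint_def]
    intro x hxM hxH
    have := hMH ⟨x, hxH⟩ hxM
    exact congrArg Subtype.val this

end Cfsg.Agent.Helper96
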