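import Mathlib
import Cfsg.Prelude.Def_OddOrderLocal
import Cfsg.Prelude.Def_OddOrderChar
import Cfsg.Prelude.Def_OddOrder
import Cfsg.Agent.Lib.Helper11.BG1537Defs
import Cfsg.Agent.Lib.Helper55.BGDecomp
import Cfsg.Agent.Lib.Helper15.BGV.Basic
import Cfsg.Agent.Lib.Helper52.CoprimeSylow

/-!
# BG1537 (helper11's server for S1537): pieces (P2a), (P2b), (P2c)
-/

set_option autoImplicit false

namespace Cfsg.Agent.Helper96.BG1537

open Subgroup Cfsg
open Cfsg.Agent.Helper11.BG1537 (Rows)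

variable {G : Type*} [Group G] [Finite G]

theorem sigmaCore_le' (M : Subgroup G) : sigmaCore M ≤ M := Subgroup.map_subtype_le _

theorem le_normalizer_sigmaCore' (M : Subgroup G) : M ≤ normalizer (sigmaCore M : Set G) := by
  intro m hm
  rw [Subgroup.mem_normalizer_iff]
  have key : ∀ m ∈ M, ∀ x ∈ sigmaCore M, m * x * m⁻¹ ∈ sigmaCore M := by
    intro m hm x hx
    obtain ⟨y, hy, rfl⟩ := hx
    refine ⟨⟨m, hm⟩ * y * ⟨m, hm⟩⁻¹, ?_, by simp⟩
    exact (piCore_normal (sigma M) ↥M).conj_mem y hy ⟨m, hm⟩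
  intro x
  constructor
  · exact key m hm x
  · intro h
    have := key m⁻¹ (M.inv_mem hm) _ h
    have e : m⁻¹ * (m * x * m⁻¹) * m⁻¹⁻¹ = x := by group
    rwa [e] at this

theorem conj_mem_sigmaCore {M : Subgroup G} {m x : G} (hm : m ∈ M) (hx : x ∈ sigmaCore M) :
    m * x * m⁻¹ ∈ sigmaCore M :=
  (Subgroup.mem_normalizer_iff.1 (le_normalizer_sigmaCore' M hm) x).1 hx

theorem isSimple_of (hG : IsMinSimpleOddOrder G) : IsSimpleGroup G := hG.2.1

/-- a maximal subgroup of a minimal simple group is self-normalizing -/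
theorem normalizer_coatom (hG : IsMinSimpleOddOrder G) {M : Subgroup G} (hM : IsCoatom M)
    (hM1 : M ≠ ⊥) : normalizer (M : Set G) = M := by
  haveI := isSimple_of hG
  rcases hM.le_iff.mp (le_normalizer : M ≤ normalizer (M : Set G)) with h | h
  · exfalso
    have hn : M.Normal := normalizer_eq_top_iff.mp h
    rcases hn.eq_bot_or_eq_top with h1 | h1
    · exact hM1 h1
    · exact hM.1 h1
  · exact h

/-! ## (P2a) fusion inside M_σ -/
theorem fusion_sigmaCore (hG : IsMinSimpleOddOrder G) (rows : Rows G)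
    {M : Subgroup G} (hM : IsCoatom M) {a : G} (ha : a ∈ sigmaCore M) (ha1 : a ≠ 1)
    (g : G) (hg : g * a * g⁻¹ ∈ M) :
    ∃ m ∈ M, m * a * m⁻¹ = g * a * g⁻¹ := by
  have haM : a ∈ M := sigmaCore_le' M ha
  have hM1 : M ≠ ⊥ := by
    intro h
    rw [h, Subgroup.mem_bot] at haM
    exact ha1 haM
  obtain ⟨-, R, -, hcompl, hR⟩ := rows.r1374 M hM a ha ha1
  have hag : a ∈ M.map (MulAut.conj g⁻¹).toMonoidHom := by
    refine ⟨g * a * g⁻¹, hg, ?_⟩
    simp only [MulEquiv.coe_toMonoidHom, MulAut.conj_apply]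
    group
  obtain ⟨r, ⟨hrR, hrM⟩, -⟩ := hR g⁻¹ hag
  have hrc : r ∈ centralizer ({a} : Set G) := hcompl.2.1 hrR
  have hra : a * r = r * a := by
    rw [Subgroup.mem_centralizer_iff] at hrc
    exact hrc a rfl
  -- `g * r` normalizes `M`
  have hmN : g * r ∈ normalizer (M : Set G) := by
    have key : ∀ z : G, z ∈ M → (g * r) * z * (g * r)⁻¹ ∈ M := by
      intro z hz
      have h1 : r * z * r⁻¹ ∈ M.map (MulAut.conj r).toMonoidHom := ⟨z, hz, rfl⟩
      rw [hrM] at h1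
      obtain ⟨w, hw, hwe⟩ := h1
      have hwe' : g⁻¹ * w * g⁻¹⁻¹ = r * z * r⁻¹ := hwe
      have h2 : (g * r) * z * (g * r)⁻¹ = w := by
        have : (g * r) * z * (g * r)⁻¹ = g * (r * z * r⁻¹) * g⁻¹ := by group
        rw [this, ← hwe']; group
      rw [h2]; exact hw
    have key' : ∀ z : G, z ∈ M → (g * r)⁻¹ * z * (g * r) ∈ M := by
      intro z hz
      have h1 : g⁻¹ * z * g⁻¹⁻¹ ∈ M.map (MulAut.conj g⁻¹).toMonoidHom := ⟨z, hz, rfl⟩
      rw [← hrM] at h1
      obtain ⟨w, hw, hwe⟩ := h1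
      have hwe' : r * w * r⁻¹ = g⁻¹ * z * g⁻¹⁻¹ := hwe
      have h2 : (g * r)⁻¹ * z * (g * r) = w := by
        have : (g * r)⁻¹ * z * (g * r) = r⁻¹ * (g⁻¹ * z * g⁻¹⁻¹) * r := by group
        rw [this, ← hwe']; group
      rw [h2]; exact hw
    rw [Subgroup.mem_normalizer_iff]
    intro z
    constructor
    · exact key z
    · intro h
      have := key' _ h
      have e : (g * r)⁻¹ * ((g * r) * z * (g * r)⁻¹) * (g * r) = z := by group
      rwa [e] at this
  rw [normalizer_coatom hG hM hM1] at hmN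
  refine ⟨g * r, hmN, ?_⟩
  have : (g * r) * a * (g * r)⁻¹ = g * (r * a * r⁻¹) * g⁻¹ := by group
  rw [this, ← hra]
  group

/-! ## (P2b) -/
theorem mem_of_TI (hG : IsMinSimpleOddOrder G)
    {M : Subgroup G} (hM : IsCoatom M) {X : Set G} (hXM : X ⊆ (M : Set G))
    (hinv : ∀ m ∈ M, ∀ x ∈ X, m * x * m⁻¹ ∈ X) (hTI : IsTISubset X)
    {a : G} (ha : a ∈ X) (ha1 : a ≠ 1) (g : G) (hg : g * a * g⁻¹ ∈ X) : g ∈ M := by
  haveI := isSimple_of hG
  have hgN : g ∈ normalizer X := by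
    by_contra h
    exact ha1 (hTI g h a ha hg)
  have hMS : M ≤ normalizer X := by
    intro m hm
    rw [mem_set_normalizer_iff]
    intro h
    constructor
    · exact hinv m hm h
    · intro hh
      have := hinv m⁻¹ (M.inv_mem hm) _ hh
      have e : m⁻¹ * (m * h * m⁻¹) * m⁻¹⁻¹ = h := by group
      rwa [e] at this
  have hcl : closure X ≤ M := (closure_le M).mpr hXM
  have hne' : closure X ≠ ⊥ := by
    intro hbot
    have : a ∈ (⊥ : Subgroup G) := hbot ▸ subset_closure ha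
    exact ha1 (mem_bot.mp this)
  have hNle : normalizer X ≤ normalizer ((closure X : Subgroup G) : Set G) :=
    normalizer_le_normalizer_closure X
  have hMN : M ≤ normalizer ((closure X : Subgroup G) : Set G) := hMS.trans hNle
  have h1 : normalizer ((closure X : Subgroup G) : Set G) = M := by
    rcases hM.le_iff.mp hMN with h | h
    · exfalso
      have hn : (closure X).Normal := normalizer_eq_top_iff.mp h
      rcases hn.eq_bot_or_eq_top with h1 | h1
      · exact hne' h1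
      · apply hM.1
        rw [eq_top_iff, ← h1]
        exact hcl
    · exact h
  rw [← h1]
  exact hNle hgN

/-! ## (P2c) -/

theorem conj_mem_sigmaHat {M : Subgroup G} {m a : G} (hm : m ∈ M) (ha : a ∈ sigmaHat M) :
    m * a * m⁻¹ ∈ sigmaHat M := by
  obtain ⟨haM, y, hy, hy1, hay⟩ := ha
  refine ⟨M.mul_mem (M.mul_mem hm haM) (M.inv_mem hm), m * y * m⁻¹, conj_mem_sigmaCore hm hy, ?_, ?_⟩
  · intro h
    exact hy1 (conj_eq_one_iff.mp h)
  · have : m * a * m⁻¹ * (m * y * m⁻¹) = m * (a * y) * m⁻¹ := by group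
    rw [this, hay]
    group

theorem conj_inv_conj (m x : G) : m⁻¹ * (m * x * m⁻¹) * m⁻¹⁻¹ = x := by group

/-- the set of `M`-conjugates of `K#` is `M`-invariant (in both directions) -/
theorem conjK_iff {M K : Subgroup G} {m x : G} (hm : m ∈ M) :
    (∃ k ∈ K, k ≠ 1 ∧ ∃ m' ∈ M, m * x * m⁻¹ = m' * k * m'⁻¹) ↔
      (∃ k ∈ K, k ≠ 1 ∧ ∃ m' ∈ M, x = m' * k * m'⁻¹) := by
  constructor
  · rintro ⟨k, hk, hk1, m', hm', h⟩
    refine ⟨k, hk, hk1, m⁻¹ * m', M.mul_mem (M.inv_mem hm) hm', ?_⟩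
    have : x = m⁻¹ * (m * x * m⁻¹) * m := by group
    rw [this, h]
    group
  · rintro ⟨k, hk, hk1, m', hm', rfl⟩
    exact ⟨k, hk, hk1, m * m', M.mul_mem hm hm', by group⟩

theorem U_inf_sigmaCore {M K U : Subgroup G} (hKU : IsSigmaDecomposition M K U) :
    sigmaCore M ⊓ U = ⊥ := by
  have h := hKU.compl.2.2.1
  rw [eq_bot_iff] at h ⊢
  intro x hx
  exact h ⟨hx.2, Subgroup.mem_sup_right hx.1⟩

theorem card_U_sup_sigmaCore {M K U : Subgroup G} (hKU : IsSigmaDecomposition M K U) :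
    Nat.card (U ⊔ sigmaCore M : Subgroup G) = Nat.card (sigmaCore M) * Nat.card U := by
  have hUn : U ≤ normalizer ((sigmaCore M : Subgroup G) : Set G) :=
    hKU.compl.1.trans (le_normalizer_sigmaCore' M)
  have h1 := Cfsg.Agent.Helper52.relIndex_sup_eq_card (sigmaCore M) U hUn (U_inf_sigmaCore hKU)
  have h2 := Cfsg.Agent.Helper55.BGB.card_mul_relIndex
    (le_sup_left : sigmaCore M ≤ sigmaCore M ⊔ U)
  rw [h1] at h2
  rw [sup_comm, ← h2]

/-- no prime divides both `|K|` and `|U ⊔ M_σ|` -/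
theorem not_dvd_of_dvd_card_K (rows : Rows G) {M K U : Subgroup G} (hM : IsCoatom M)
    (hKU : IsSigmaDecomposition M K U) {p : ℕ} (hp : p.Prime) (hpK : p ∣ Nat.card K) :
    ¬ p ∣ Nat.card (U ⊔ sigmaCore M : Subgroup G) := by
  intro h
  rw [card_U_sup_sigmaCore hKU] at h
  have hκ : p ∈ kappa M := hKU.hall.2.1 p hp hpK
  rcases (Nat.Prime.dvd_mul hp).1 h with h1 | h1
  · exact Cfsg.Agent.Helper55.BGB.not_mem_sigma_of_mem_kappa hκ
      (Cfsg.Agent.Helper55.BGB.isPi_sigmaCore M p hp h1)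
  · exact (Cfsg.Agent.Helper55.BGB.U_prime_not_mem hKU (rows.r1350 M hM).1 hp h1).1 hκ

theorem ti_sets_facts (hG : IsMinSimpleOddOrder G) (rows : Rows G)
    {M K U : Subgroup G} (hM : IsCoatom M) (hKU : IsSigmaDecomposition M K U) :
    (∀ m ∈ M, ∀ x ∈ sigmaA M U \ (sigmaCore M : Set G), m * x * m⁻¹ ∈ sigmaA M U \ (sigmaCore M : Set G)) ∧
    (∀ m ∈ M, ∀ x ∈ sigmaA0 M K \ sigmaA M U, m * x * m⁻¹ ∈ sigmaA0 M K \ sigmaA M U) ∧
    (∀ a ∈ sigmaA M U, ∀ b ∈ sigmaA0 M K \ sigmaA M U, orderOf a ≠ orderOf b) := by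
  have hnorm : M ≤ normalizer ((U ⊔ sigmaCore M : Subgroup G) : Set G) :=
    (rows.r1352 M hM K hKU.cyclic hKU.hall).2 U hKU
  have hUσ : ∀ m ∈ M, ∀ x : G, m * x * m⁻¹ ∈ U ⊔ sigmaCore M ↔ x ∈ U ⊔ sigmaCore M := by
    intro m hm x
    exact ((Subgroup.mem_normalizer_iff.1 (hnorm hm)) x).symm
  have hσ : ∀ m ∈ M, ∀ x : G, m * x * m⁻¹ ∈ sigmaCore M ↔ x ∈ sigmaCore M := by
    intro m hm x
    exact ((Subgroup.mem_normalizer_iff.1 (le_normalizer_sigmaCore' M hm)) x).symm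
  refine ⟨?_, ?_, ?_⟩
  · rintro m hm x ⟨⟨hxh, hxU⟩, hxσ⟩
    refine ⟨⟨conj_mem_sigmaHat hm hxh, (hUσ m hm x).2 hxU⟩, ?_⟩
    intro h
    exact hxσ ((hσ m hm x).1 h)
  · rintro m hm x ⟨⟨hxh, hxK⟩, hxA⟩
    refine ⟨⟨conj_mem_sigmaHat hm hxh, ?_⟩, ?_⟩
    · intro h
      exact hxK ((conjK_iff hm).1 h)
    · rintro ⟨-, h2⟩
      exact hxA ⟨hxh, (hUσ m hm x).1 h2⟩
  · rintro a ⟨hah, haU⟩ b ⟨⟨hbh, hbK⟩, hbA⟩ hab
    -- `K ≠ ⊥`
    have hK1 : K ≠ ⊥ := by
      intro hK
      apply hbA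
      refine ⟨hbh, ?_⟩
      obtain ⟨u, hu, c, hc, hbe⟩ := hKU.compl.2.2.2 b hbh.1
      rw [hK, bot_sup_eq] at hc
      rw [hbe]
      exact Subgroup.mul_mem _ (Subgroup.mem_sup_left hu) (Subgroup.mem_sup_right hc)
    have h71 := (rows.r1371 M hM K U hKU hK1).1
    have hb' : b ∈ sigmaA0 M K \ sigmaA M U := ⟨⟨hbh, hbK⟩, hbA⟩
    rw [← h71] at hb'
    obtain ⟨m, hm, z, ⟨hz, hznot⟩, hbz⟩ := hb'
    set Ks : Subgroup G := sigmaCore M ⊓ centralizer (K : Set G) with hKs
    have hKsN : Ks ≤ normalizer (K : Set G) := by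
      intro x hx
      have hxc : x ∈ centralizer (K : Set G) := hx.2
      exact Subgroup.centralizer_le_normalizer _ hxc
    obtain ⟨k, hk, ks, hks, hzk⟩ := Cfsg.Agent.Helper15.BGV.mem_sup_decomp hKsN hz
    have hk1 : k ≠ 1 := by
      rintro rfl
      apply hznot
      right
      rw [hzk, one_mul]
      exact hks
    have hcomm : Commute k ks := by
      have hxc : ks ∈ centralizer (K : Set G) := hks.2
      rw [Subgroup.mem_centralizer_iff] at hxc
      exact (hxc k hk)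
    -- a prime dividing the order of `k`
    have hok : orderOf k ≠ 1 := by
      intro h
      exact hk1 (orderOf_eq_one_iff.mp h)
    obtain ⟨p, hp, hpk⟩ := Nat.exists_prime_and_dvd hok
    have hpK : p ∣ Nat.card K := hpk.trans (by
      have := orderOf_dvd_natCard (⟨k, hk⟩ : K)
      rwa [Subgroup.orderOf_mk] at this)
    have hpnot := not_dvd_of_dvd_card_K rows hM hKU hp hpK
    -- `p ∣ orderOf z`
    have hpKs : ¬ p ∣ Nat.card Ks := by
      intro h
      have h1 : p ∣ Nat.card (sigmaCore M) := h.trans (Subgroup.card_dvd_of_le inf_le_left)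
      exact Cfsg.Agent.Helper55.BGB.not_mem_sigma_of_mem_kappa (hKU.hall.2.1 p hp hpK)
        (Cfsg.Agent.Helper55.BGB.isPi_sigmaCore M p hp h1)
    have hpz : p ∣ orderOf z := by
      -- `z ^ |Ks| = k ^ |Ks|`, whose order is divisible by `p`
      have h1 : z ^ Nat.card Ks = k ^ Nat.card Ks := by
        rw [hzk, hcomm.mul_pow]
        have : ks ^ Nat.card Ks = 1 := by
          have := pow_card_eq_one' (G := Ks) (x := ⟨ks, hks⟩)
          exact congrArg Subtype.val this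
        rw [this, mul_one]
      have h2 : orderOf (k ^ Nat.card Ks) ∣ orderOf z := by
        rw [← h1]
        exact orderOf_pow_dvd _
      have h3 : p ∣ orderOf (k ^ Nat.card Ks) := by
        rw [orderOf_pow' k (by
          have : 0 < Nat.card Ks := Nat.card_pos
          omega)]
        have hcop : Nat.Coprime p (Nat.gcd (orderOf k) (Nat.card Ks)) := by
          apply Nat.Coprime.coprime_dvd_right (Nat.gcd_dvd_right _ _)
          exact (Nat.Prime.coprime_iff_not_dvd hp).2 hpKs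
        obtain ⟨c, hc⟩ := Nat.gcd_dvd_left (orderOf k) (Nat.card Ks)
        have hg0 : 0 < Nat.gcd (orderOf k) (Nat.card Ks) :=
          Nat.gcd_pos_of_pos_right _ Nat.card_pos
        have hdiv : orderOf k / Nat.gcd (orderOf k) (Nat.card Ks) = c :=
          Nat.div_eq_of_eq_mul_right hg0 hc
        rw [hdiv]
        have : p ∣ Nat.gcd (orderOf k) (Nat.card Ks) * c := by rw [← hc]; exact hpk
        exact hcop.dvd_of_dvd_mul_left this
      exact h3.trans h2
    have hzb : orderOf b = orderOf z := by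
      rw [hbz]
      have := orderOf_injective (MulAut.conj m).toMonoidHom (MulAut.conj m).injective z
      simpa [MulAut.conj_apply] using this
    have hpa : p ∣ orderOf a := by
      rw [hab, hzb]
      exact hpz
    apply hpnot
    refine hpa.trans ?_
    have := orderOf_dvd_natCard (⟨a, haU⟩ : (U ⊔ sigmaCore M : Subgroup G))
    rwa [Subgroup.orderOf_mk] at this

end Cfsg.Agent.Helper96.BG1537
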