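import Mathlib
import Cfsg.Prelude.Def_OddOrderLocal
import Cfsg.Prelude.Def_OddOrderChar
import Cfsg.Prelude.Def_OddOrder
import Cfsg.Agent.Lib.Helper11.BG1537Defs
import Cfsg.Agent.Lib.Helper96.BG1537P2
import Cfsg.Agent.Lib.Helper23.FittingHall

/-!
# BG1537 (helper11's server for S1537): piece (P6)
-/

set_option autoImplicit false

namespace Cfsg.Agent.Helper96.BG1537

open Subgroup Cfsg
open Cfsg.Agent.Helper11.BG1537 (Rows)

variable {G : Type*} [Group G] [Finite G]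

/-! ## (P6) the extra elements of typeA0 (any type-P data) lie in A₀(M)# -/
theorem typeP_elt_mem (hG : IsMinSimpleOddOrder G) (rows : Rows G)
    {M K U : Subgroup G} (hM : IsCoatom M) (hKU : IsSigmaDecomposition M K U)
    {W₁ U' W₂ : Subgroup G} (hP : IsTypePWith M W₁ U' W₂)
    {w : G} (hw : w ∈ W₁ ⊔ W₂) (hw1 : w ∉ W₁) (hw2 : w ∉ W₂) :
    w ∈ sigmaA0 M K ∧ w ≠ 1 := by
  obtain ⟨-, -, -, hcomm, -, -⟩ := hP.selfNormalizing
  have hW2N : W₂ ≤ normalizer (W₁ : Set G) := by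
    intro b hb
    apply Subgroup.centralizer_le_normalizer
    rw [Subgroup.mem_centralizer_iff]
    intro a ha
    exact hcomm a ha b hb
  obtain ⟨w₁, hw₁, w₂, hw₂, hwe⟩ := Cfsg.Agent.Helper15.BGV.mem_sup_decomp hW2N hw
  have hw₂1 : w₂ ≠ 1 := by
    rintro rfl
    apply hw1
    rw [hwe, mul_one]
    exact hw₁
  have hw₁1 : w₁ ≠ 1 := by
    rintro rfl
    apply hw2
    rw [hwe, one_mul]
    exact hw₂
  have hwne : w ≠ 1 := by
    rintro rfl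
    exact hw1 (W₁.one_mem)
  have h55 := rows.r1355 M hM
  have hFσ : fittingHallOf M ≤ sigmaCore M := h55.2.1
  have hσM' : sigmaCore M ≤ ⁅M, M⁆ := h55.2.2.1
  have hw₂σ : w₂ ∈ sigmaCore M := hFσ ((hP.W₂_le hw₂).1)
  have hW₁M : W₁ ≤ M := hP.W₁_compl.2.1
  have hwM : w ∈ M := by
    rw [hwe]
    exact M.mul_mem (hW₁M hw₁) (sigmaCore_le' M hw₂σ)
  have hc12 : w₁ * w₂ = w₂ * w₁ := hcomm w₁ hw₁ w₂ hw₂
  have hwc : w * w₂ = w₂ * w := by
    rw [hwe, mul_assoc, ← mul_assoc w₂ w₁ w₂, ← hc12, mul_assoc]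
  have hhat : w ∈ sigmaHat M := ⟨hwM, w₂, hw₂σ, hw₂1, hwc⟩
  refine ⟨⟨hhat, ?_⟩, hwne⟩
  rintro ⟨k, hk, -, m, hm, hwk⟩
  -- cardinalities
  set n := Nat.card W₁ with hn
  have hcardM : Nat.card M = Nat.card ↥⁅M, M⁆ * n :=
    Cfsg.Agent.Helper23.card_of_isComplIn hP.W₁_compl
  have hcardM2 : n * W₁.relIndex M = Nat.card M :=
    Cfsg.Agent.Helper55.BGB.card_mul_relIndex hW₁M
  have hn0 : 0 < n := Nat.card_pos
  have hrel : W₁.relIndex M = Nat.card ↥⁅M, M⁆ := by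
    have : n * W₁.relIndex M = n * Nat.card ↥⁅M, M⁆ := by rw [hcardM2, hcardM, mul_comm]
    exact Nat.eq_of_mul_eq_mul_left hn0 this
  have hcop : n.Coprime (Nat.card ↥⁅M, M⁆) := by
    have := hP.W₁_hall
    rwa [hrel] at this
  -- `w₂ ^ n ≠ 1`
  have hw₂n : w₂ ^ n ≠ 1 := by
    intro h
    have h1 : orderOf w₂ ∣ n := orderOf_dvd_of_pow_eq_one h
    have h2 : orderOf w₂ ∣ Nat.card ↥⁅M, M⁆ := by
      have := orderOf_dvd_natCard (⟨w₂, hσM' hw₂σ⟩ : ↥⁅M, M⁆)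
      rwa [Subgroup.orderOf_mk] at this
    have h3 : orderOf w₂ ∣ 1 := by
      have := Nat.dvd_gcd h1 h2
      rwa [hcop] at this
    exact hw₂1 (orderOf_eq_one_iff.mp (Nat.dvd_one.mp h3))
  -- `w ^ n = w₂ ^ n`
  have hw₁n : w₁ ^ n = 1 := by
    have := pow_card_eq_one' (G := W₁) (x := ⟨w₁, hw₁⟩)
    exact congrArg Subtype.val this
  have hwn : w ^ n = w₂ ^ n := by
    rw [hwe, (show Commute w₁ w₂ from hc12).mul_pow, hw₁n, one_mul]
  -- `w ^ n = m k^n m⁻¹`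
  have hwn2 : w ^ n = m * k ^ n * m⁻¹ := by
    rw [hwk, conj_pow]
  have hkn : k ^ n = m⁻¹ * w₂ ^ n * m := by
    rw [← hwn, hwn2]
    group
  have hknσ : k ^ n ∈ sigmaCore M := by
    rw [hkn]
    have := conj_mem_sigmaCore (M.inv_mem hm) ((sigmaCore M).pow_mem hw₂σ n)
    simpa using this
  have hknK : k ^ n ∈ K := K.pow_mem hk n
  have hbot := Cfsg.Agent.Helper55.BGB.K_inf_sigmaCore hKU
  have hkn1 : k ^ n = 1 := by
    have : k ^ n ∈ K ⊓ sigmaCore M := ⟨hknK, hknσ⟩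
    rw [hbot] at this
    exact Subgroup.mem_bot.mp this
  apply hw₂n
  rw [← hwn, hwn2, hkn1]
  group

end Cfsg.Agent.Helper96.BG1537
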