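import Mathlib
import Cfsg.Prelude.Def_OddOrderLocal

/-!
Basic tools around uniqueness subgroups (`Cfsg.InUniqueMaximal`) and ranks, for the
Bender–Glauberman chain (sections 8, 9).
-/

set_option autoImplicit false
open Cfsg Subgroup

namespace Cfsg.Agent.Helper96.BGU

variable {G : Type*} [Group G]

/-- Every proper subgroup of a finite group lies in a maximal subgroup. -/
theorem exists_coatom_ge [Finite G] {Y : Subgroup G} (hY : Y ≠ ⊤) : ∃ L : Subgroup G, IsCoatom L ∧ Y ≤ L :=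
  (eq_top_or_exists_le_coatom Y).resolve_left hY

/-- A proper overgroup of a uniqueness subgroup is a uniqueness subgroup. -/
theorem inUniqueMaximal_of_le [Finite G] {X Y : Subgroup G} (hX : InUniqueMaximal X) (hXY : X ≤ Y)
    (hY : Y ≠ ⊤) : InUniqueMaximal Y := by
  obtain ⟨M, ⟨hM, hXM⟩, huniq⟩ := hX
  obtain ⟨L, hL, hYL⟩ := exists_coatom_ge hY
  have hLM : L = M := huniq L ⟨hL, hXY.trans hYL⟩
  subst hLM
  exact ⟨L, ⟨hL, hYL⟩, fun L' hL' => huniq L' ⟨hL'.1, hXY.trans hL'.2⟩⟩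

/-- A proper overgroup of a uniqueness subgroup lies in its maximal subgroup. -/
theorem le_of_inUniqueMaximal [Finite G] {X M Y : Subgroup G} (hX : InUniqueMaximal X) (hM : IsCoatom M)
    (hXM : X ≤ M) (hXY : X ≤ Y) (hY : Y ≠ ⊤) : Y ≤ M := by
  obtain ⟨M', ⟨hM', hXM'⟩, huniq⟩ := hX
  obtain ⟨L, hL, hYL⟩ := exists_coatom_ge hY
  have h1 : L = M' := huniq L ⟨hL, hXY.trans hYL⟩
  have h2 : M = M' := huniq M ⟨hM, hXM⟩
  rw [h2, ← h1]; exact hYL

/-- If every proper overgroup of `X` lies in the maximal subgroup `M`, then `X` is a uniqueness subgroup. -/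
theorem inUniqueMaximal_of_forall_le {X M : Subgroup G} (hM : IsCoatom M) (hXM : X ≤ M)
    (h : ∀ L : Subgroup G, IsCoatom L → X ≤ L → L ≤ M) : InUniqueMaximal X := by
  refine ⟨M, ⟨hM, hXM⟩, ?_⟩
  rintro L ⟨hL, hXL⟩
  have hLM := h L hL hXL
  by_contra hne
  exact hM.1 (hL.2 M (lt_of_le_of_ne hLM hne))

theorem isCoatom_map_equiv (e : G ≃* G) {M : Subgroup G} (hM : IsCoatom M) :
    IsCoatom (M.map e.toMonoidHom) := by
  have := (e.mapSubgroup.isCoatom_iff M).2 hM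
  simpa using this

/-- Uniqueness subgroups are preserved by automorphisms. -/
theorem inUniqueMaximal_map (e : G ≃* G) {X : Subgroup G} (hX : InUniqueMaximal X) :
    InUniqueMaximal (X.map e.toMonoidHom) := by
  obtain ⟨M, ⟨hM, hXM⟩, huniq⟩ := hX
  refine ⟨M.map e.toMonoidHom, ⟨isCoatom_map_equiv e hM, Subgroup.map_mono hXM⟩, ?_⟩
  rintro L ⟨hL, hXL⟩
  have h1 : IsCoatom (L.map e.symm.toMonoidHom) := isCoatom_map_equiv e.symm hL
  have h2 : X ≤ L.map e.symm.toMonoidHom := by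
    intro x hx
    refine ⟨e x, hXL ⟨x, hx, rfl⟩, ?_⟩
    simp
  have h3 := huniq _ ⟨h1, h2⟩
  rw [← h3]
  ext y
  constructor
  · intro hy
    refine ⟨e.symm y, ⟨y, hy, rfl⟩, ?_⟩
    simp
  · rintro ⟨z, ⟨w, hw, rfl⟩, rfl⟩
    simpa using hw

theorem inUniqueMaximal_conj (g : G) {X : Subgroup G} (hX : InUniqueMaximal X) :
    InUniqueMaximal (X.map (MulAut.conj g).toMonoidHom) :=
  inUniqueMaximal_map (MulAut.conj g) hX

/-! ### ranks -/

theorem card_subgroupOf_of_le {E H : Subgroup G} (h : E ≤ H) : Nat.card (E.subgroupOf H) = Nat.card E :=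
  Nat.card_congr (Subgroup.subgroupOfEquivOfLe h).toEquiv

theorem not_pRankLE_of_elemAb {H : Subgroup G} {p k : ℕ} (E : Subgroup G) (hEH : E ≤ H)
    (hE : IsElementaryAbelian p E) (hc : p ^ k < Nat.card E) : ¬ PRankLE p k ↥H := by
  intro h
  have h1 := h (E.subgroupOf H) ?_ ?_
  · rw [card_subgroupOf_of_le hEH] at h1; omega
  · refine ⟨⟨?_⟩⟩
    rintro ⟨⟨a, haH⟩, ha⟩ ⟨⟨b, hbH⟩, hb⟩
    have hc' := hE.1.is_comm.comm (⟨a, ha⟩ : E) ⟨b, hb⟩
    apply Subtype.ext; apply Subtype.ext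
    show a * b = b * a
    exact congrArg Subtype.val hc'
  · rintro ⟨a, haH⟩ ha
    apply Subtype.ext
    exact hE.2 a ha

theorem not_rankLE_of_elemAb {H : Subgroup G} {p k : ℕ} (hp : p.Prime) (E : Subgroup G) (hEH : E ≤ H)
    (hE : IsElementaryAbelian p E) (hc : p ^ k < Nat.card E) : ¬ RankLE k ↥H :=
  fun h => not_pRankLE_of_elemAb E hEH hE hc (h p hp)

theorem exists_elemAb_of_not_pRankLE {H : Subgroup G} {p k : ℕ} (h : ¬ PRankLE p k ↥H) :
    ∃ E : Subgroup G, E ≤ H ∧ IsElementaryAbelian p E ∧ p ^ k < Nat.card E := by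
  unfold PRankLE at h
  push Not at h
  obtain ⟨A, hAc, hAe, hcard⟩ := h
  refine ⟨A.map H.subtype, Subgroup.map_subtype_le _, ⟨⟨⟨?_⟩⟩, ?_⟩, ?_⟩
  · rintro ⟨_, ⟨a, ha, rfl⟩⟩ ⟨_, ⟨b, hb, rfl⟩⟩
    have hc' := hAc.is_comm.comm (⟨a, ha⟩ : A) ⟨b, hb⟩
    apply Subtype.ext
    have := congrArg (fun x : A => ((x : H) : G)) hc'
    simpa using this
  · rintro _ ⟨a, ha, rfl⟩
    have := hAe a ha
    have h2 := congrArg (fun x : H => (x : G)) this
    simpa using h2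
  · rwa [Nat.card_congr (A.equivMapOfInjective H.subtype H.subtype_injective).toEquiv.symm]

theorem exists_elemAb_of_not_pRankLE_top {p k : ℕ} (h : ¬ PRankLE p k G) :
    ∃ E : Subgroup G, IsElementaryAbelian p E ∧ p ^ k < Nat.card E := by
  unfold PRankLE at h
  push Not at h
  obtain ⟨A, hAc, hAe, hcard⟩ := h
  exact ⟨A, ⟨hAc, hAe⟩, hcard⟩

theorem isElementaryAbelian_of_le {p : ℕ} {E F : Subgroup G} (hE : IsElementaryAbelian p E) (h : F ≤ E) :
    IsElementaryAbelian p F := by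
  refine ⟨⟨⟨?_⟩⟩, fun a ha => hE.2 a (h ha)⟩
  rintro ⟨a, ha⟩ ⟨b, hb⟩
  have hc' := hE.1.is_comm.comm (⟨a, h ha⟩ : E) ⟨b, h hb⟩
  apply Subtype.ext
  show a * b = b * a
  exact congrArg Subtype.val hc'

theorem isPGroup_of_elemAb {p : ℕ} {E : Subgroup G} (hE : IsElementaryAbelian p E) : IsPGroup p E := by
  intro g
  refine ⟨1, ?_⟩
  rw [pow_one]
  apply Subtype.ext
  exact hE.2 g g.2

theorem comm_of_elemAb {p : ℕ} {E : Subgroup G} (hE : IsElementaryAbelian p E) {a b : G}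
    (ha : a ∈ E) (hb : b ∈ E) : a * b = b * a :=
  congrArg Subtype.val (hE.1.is_comm.comm (⟨a, ha⟩ : E) ⟨b, hb⟩)

theorem le_centralizer_of_elemAb {p : ℕ} {E : Subgroup G} (hE : IsElementaryAbelian p E) :
    E ≤ centralizer (E : Set G) := by
  intro a ha b hb
  exact comm_of_elemAb hE hb ha

end Cfsg.Agent.Helper96.BGU
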