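import Mathlib
import Cfsg.Prelude.Def_OddOrderLocal
import Cfsg.Agent.Lib.Helper96.BGU
import Cfsg.Agent.Lib.Helper11.PGroup
import Cfsg.Agent.Lib.Helper49.UniqueOrderP

/-!
p-group facts for the uniqueness theorem: centralizers of normal subgroups of order `p ^ 2`,
noncyclic `p`-groups of odd order have rank at least 2.
-/

set_option autoImplicit false
open Cfsg Subgroup

namespace Cfsg.Agent.Helper96.BGU

variable {G : Type*} [Group G]

/-- If `E` of order `p ^ 2` is normalized by the `p`-group `S ≥ E`, then for `X ≤ S` the centralizer of `E` in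
`X` has index at most `p`. -/
theorem card_le_mul_card_inf_centralizer [Finite G] {p : ℕ} [hp : Fact p.Prime] (S E X : Subgroup G)
    (hS : IsPGroup p S) (hES : E ≤ S) (hEn : S ≤ normalizer (E : Set G)) (hEc : Nat.card E = p ^ 2)
    (hXS : X ≤ S) :
    Nat.card X ≤ p * Nat.card (X ⊓ centralizer (E : Set G) : Subgroup G) := by
  classical
  have hp1 : 1 < p := hp.out.one_lt
  -- central element of order p in E
  haveI : (E.subgroupOf S).Normal := (Subgroup.normal_subgroupOf_iff_le_normalizer hES).2 hEn
  have hEne : E.subgroupOf S ≠ ⊥ := by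
    intro h
    have h1 : Nat.card (E.subgroupOf S) = 1 := by rw [h]; exact Subgroup.card_bot
    rw [card_subgroupOf_of_le hES, hEc] at h1
    have : 1 < p ^ 2 := Nat.one_lt_pow (by norm_num) hp1
    omega
  obtain ⟨z, hzE, hzc, hzo⟩ := Cfsg.Agent.Helper11.exists_mem_center_orderOf_eq_of_normal hS (E.subgroupOf S) hEne
  have hzE' : (z : G) ∈ E := Subgroup.mem_subgroupOf.1 hzE
  have hzo' : orderOf (z : G) = p := by rw [← hzo]; exact Subgroup.orderOf_coe z
  have hzcomm : ∀ s ∈ S, s * (z : G) = (z : G) * s := by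
    intro s hs
    have := (Subgroup.mem_center_iff.1 hzc) ⟨s, hs⟩
    exact congrArg Subtype.val this
  -- E commutative
  have hEcomm : ∀ a ∈ E, ∀ b ∈ E, a * b = b * a := by
    intro a ha b hb
    have := IsPGroup.commutative_of_card_eq_prime_sq (G := E) hEc ⟨a, ha⟩ ⟨b, hb⟩
    exact congrArg Subtype.val this
  set Z : Subgroup G := zpowers (z : G) with hZ
  have hZE : Z ≤ E := by rw [hZ]; exact (Subgroup.zpowers_le).2 hzE'
  have hZc : Nat.card Z = p := by rw [hZ, Nat.card_zpowers, hzo']
  -- e in E outside Z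
  have hex : ∃ e ∈ E, e ∉ Z := by
    by_contra hcon
    push Not at hcon
    have : E ≤ Z := hcon
    have h1 := Subgroup.card_le_of_le this
    rw [hEc, hZc] at h1
    have : p < p ^ 2 := by nlinarith
    omega
  obtain ⟨e, heE, heZ⟩ := hex
  -- E = Z ⊔ zpowers e
  have hT : Z ⊔ zpowers e = E := by
    have hle : Z ⊔ zpowers e ≤ E := sup_le hZE ((Subgroup.zpowers_le).2 heE)
    have hdvd : Nat.card (Z ⊔ zpowers e : Subgroup G) ∣ p ^ 2 := hEc ▸ Subgroup.card_dvd_of_le hle
    obtain ⟨k, hk2, hk⟩ := (Nat.dvd_prime_pow hp.out).1 hdvd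
    have hlt : Nat.card Z < Nat.card (Z ⊔ zpowers e : Subgroup G) := by
      have hlt' : Z < Z ⊔ zpowers e := by
        refine lt_of_le_of_ne le_sup_left ?_
        intro h
        apply heZ
        rw [h]
        exact (le_sup_right : zpowers e ≤ Z ⊔ zpowers e) (Subgroup.mem_zpowers e)
      exact Set.ncard_lt_ncard (by exact_mod_cast hlt') (Set.toFinite _)
    rw [hZc, hk] at hlt
    have hk2' : k = 2 := by
      have : 1 < k := by
        by_contra hk1
        push Not at hk1
        have : p ^ k ≤ p ^ 1 := Nat.pow_le_pow_right hp.out.pos hk1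
        rw [pow_one] at this
        omega
      omega
    apply Subgroup.eq_of_le_of_card_ge hle
    rw [hk, hk2', hEc]
  -- centralizer of E in X is the centralizer of e in X
  have hcent : X ⊓ centralizer (E : Set G) = X ⊓ centralizer ({e} : Set G) := by
    apply le_antisymm
    · refine le_inf inf_le_left ?_
      intro x hx
      rw [Subgroup.mem_centralizer_iff]
      intro y hy
      rw [Set.mem_singleton_iff] at hy
      subst hy
      exact (Subgroup.mem_centralizer_iff.1 hx.2 y heE)
    · refine le_inf inf_le_left ?_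
      intro x hx
      have hxe : e * x = x * e := (Subgroup.mem_centralizer_iff.1 hx.2) e rfl
      have hxz : x * (z : G) = (z : G) * x := hzcomm x (hXS hx.1)
      have hle : Z ⊔ zpowers e ≤ centralizer ({x} : Set G) := by
        refine sup_le ?_ ?_
        · rw [hZ, Subgroup.zpowers_le, Subgroup.mem_centralizer_iff]
          intro y hy
          rw [Set.mem_singleton_iff] at hy
          subst hy
          exact hxz
        · rw [Subgroup.zpowers_le, Subgroup.mem_centralizer_iff]
          intro y hy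
          rw [Set.mem_singleton_iff] at hy
          subst hy
          exact hxe.symm
      rw [hT] at hle
      rw [Subgroup.mem_centralizer_iff]
      intro y hy
      have := Subgroup.mem_centralizer_iff.1 (hle hy) x rfl
      exact this.symm
  rw [hcent]
  -- action of X on G by conjugation
  letI : MulAction X G := MulAction.compHom G ((MulAut.conj : G →* MulAut G).comp X.subtype)
  have hsmul : ∀ (x : X) (g : G), x • g = (x : G) * g * (x : G)⁻¹ := fun x g => rfl
  have hXp : IsPGroup p X := hS.to_le hXS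
  obtain ⟨n, hn⟩ := hXp.index (MulAction.stabilizer X e)
  have horb : MulAction.orbit X e ⊆ (E : Set G) \ (Z : Set G) := by
    rintro _ ⟨x, rfl⟩
    show x • e ∈ _
    rw [hsmul]
    have hxS : (x : G) ∈ S := hXS x.2
    constructor
    · exact ((Subgroup.mem_normalizer_iff.1 (hEn hxS)) e).1 heE
    · intro hmem
      apply heZ
      have hmem' : (x : G) * e * (x : G)⁻¹ ∈ zpowers (z : G) := hmem
      rw [hZ]
      rw [Subgroup.mem_zpowers_iff] at hmem' ⊢
      obtain ⟨k, hk⟩ := hmem'
      refine ⟨k, ?_⟩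
      have h1 : (x : G) * (z : G) ^ k = (z : G) ^ k * (x : G) := by
        have := (Commute.zpow_right (show Commute (x : G) (z : G) from hzcomm x hxS) k)
        exact this
      have : e = (x : G)⁻¹ * ((z : G) ^ k) * (x : G) := by
        rw [hk]; group
      rw [this, mul_assoc, ← h1, ← mul_assoc, inv_mul_cancel, one_mul]
  have hcard_diff : ((E : Set G) \ (Z : Set G)).ncard = p ^ 2 - p := by
    rw [Set.ncard_diff (by exact_mod_cast hZE) (Set.toFinite _)]
    have h1 : (E : Set G).ncard = p ^ 2 := by rw [← hEc]; rfl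
    have h2 : (Z : Set G).ncard = p := by rw [← hZc]; rfl
    rw [h1, h2]
  have hidx : (MulAction.stabilizer X e).index ≤ p := by
    have h1 : (MulAction.stabilizer X e).index ≤ p ^ 2 - p := by
      rw [MulAction.index_stabilizer, ← hcard_diff]
      exact Set.ncard_le_ncard horb (Set.toFinite _)
    rw [hn] at h1 ⊢
    have hn2 : n < 2 := by
      by_contra h2
      push Not at h2
      have : p ^ 2 ≤ p ^ n := Nat.pow_le_pow_right hp.out.pos h2
      have : 0 < p := hp.out.pos
      have : p ≤ p ^ 2 := by nlinarith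
      omega
    calc p ^ n ≤ p ^ 1 := Nat.pow_le_pow_right hp.out.pos (by omega)
      _ = p := pow_one p
  have hstab : Nat.card (MulAction.stabilizer X e) = Nat.card (X ⊓ centralizer ({e} : Set G) : Subgroup G) := by
    have hmap : (MulAction.stabilizer X e).map X.subtype = X ⊓ centralizer ({e} : Set G) := by
      ext y
      constructor
      · rintro ⟨x, hx, rfl⟩
        refine ⟨x.2, ?_⟩
        show (x : G) ∈ centralizer ({e} : Set G)
        rw [Subgroup.mem_centralizer_iff]
        intro y' hy'
        rw [Set.mem_singleton_iff] at hy'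
        subst hy'
        have h1 : x • y' = y' := hx
        rw [hsmul] at h1
        have : (x : G) * y' = y' * (x : G) := by
          calc (x : G) * y' = ((x : G) * y' * (x : G)⁻¹) * (x : G) := by group
            _ = y' * (x : G) := by rw [h1]
        exact this.symm
      · rintro ⟨hyX, hyc⟩
        have hyc : y ∈ centralizer ({e} : Set G) := hyc
        refine ⟨⟨y, hyX⟩, ?_, rfl⟩
        show (⟨y, hyX⟩ : X) • e = e
        rw [hsmul]
        have : e * y = y * e := (Subgroup.mem_centralizer_iff.1 hyc) e rfl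
        show y * e * y⁻¹ = e
        rw [← this]; group
    rw [← hmap]
    exact Nat.card_congr ((MulAction.stabilizer X e).equivMapOfInjective X.subtype X.subtype_injective).toEquiv
  have hmul := (MulAction.stabilizer X e).card_mul_index
  rw [← hstab, ← hmul, mul_comm]
  exact Nat.mul_le_mul_right _ hidx

/-- A noncyclic `p`-group, `p` odd, contains an elementary abelian subgroup of order greater than `p`. -/
theorem exists_elemAb_of_not_isCyclic [Finite G] {p : ℕ} [hp : Fact p.Prime] (hp2 : p ≠ 2) (B : Subgroup G)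
    (hB : IsPGroup p B) (hBnc : ¬ IsCyclic B) :
    ∃ E : Subgroup G, E ≤ B ∧ IsElementaryAbelian p E ∧ p ^ 1 < Nat.card E := by
  classical
  -- two elements of order p not in a common cyclic subgroup
  have h1 : ¬ ∀ y z : B, orderOf y = p → orderOf z = p → z ∈ Subgroup.zpowers y := by
    intro h
    have hc := Cfsg.Agent.Helper49.isCyclic_of_unique_order_p hp2 h ⊤ (hB.to_subgroup ⊤)
    apply hBnc
    exact isCyclic_of_surjective (Subgroup.topEquiv : (⊤ : Subgroup B) ≃* B) Subgroup.topEquiv.surjective
  push Not at h1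
  obtain ⟨y, z, hy, hz, hzy⟩ := h1
  have hne : (⊤ : Subgroup B) ≠ ⊥ := by
    intro h
    have : y = 1 := by
      have : y ∈ (⊤ : Subgroup B) := Subgroup.mem_top y
      rw [h] at this; exact Subgroup.mem_bot.1 this
    rw [this, orderOf_one] at hy
    exact hp.out.one_lt.ne hy
  obtain ⟨c, -, hcc, hco⟩ := Cfsg.Agent.Helper11.exists_mem_center_orderOf_eq_of_normal hB (⊤ : Subgroup B) hne
  -- w of order p outside zpowers c
  have hw : ∃ w : B, orderOf w = p ∧ w ∉ Subgroup.zpowers c := by
    by_cases hyc : y ∈ Subgroup.zpowers c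
    · refine ⟨z, hz, ?_⟩
      intro hzc
      apply hzy
      have hle : Subgroup.zpowers y ≤ Subgroup.zpowers c := (Subgroup.zpowers_le).2 hyc
      have heq : Subgroup.zpowers y = Subgroup.zpowers c := by
        apply Subgroup.eq_of_le_of_card_ge hle
        rw [Nat.card_zpowers, Nat.card_zpowers, hy, hco]
      rw [heq]; exact hzc
    · exact ⟨y, hy, hyc⟩
  obtain ⟨w, hwo, hwc⟩ := hw
  have hcw : ∀ b : B, b * c = c * b := fun b => (Subgroup.mem_center_iff.1 hcc) b
  -- the subgroup generated in G
  set c' : G := (c : G) with hc'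
  set w' : G := (w : G) with hw'
  have hcB : c' ∈ B := c.2
  have hwB : w' ∈ B := w.2
  have hcp : c' ^ p = 1 := by
    have : c ^ p = 1 := by rw [← hco]; exact pow_orderOf_eq_one c
    have := congrArg (fun x : B => (x : G)) this
    simpa using this
  have hwp : w' ^ p = 1 := by
    have : w ^ p = 1 := by rw [← hwo]; exact pow_orderOf_eq_one w
    have := congrArg (fun x : B => (x : G)) this
    simpa using this
  have hcomm : c' * w' = w' * c' := by
    have := hcw w
    have := congrArg (fun x : B => (x : G)) this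
    simpa using this.symm
  -- E = { c^i w^j }
  have hmemE : ∀ x ∈ (zpowers c' ⊔ zpowers w' : Subgroup G), ∃ i j : ℤ, x = c' ^ i * w' ^ j := by
    intro x hx
    have hle : (zpowers c' ⊔ zpowers w' : Subgroup G) ≤ (Subgroup.closure {x : G | ∃ i j : ℤ, x = c' ^ i * w' ^ j}) := by
      refine sup_le ?_ ?_
      · rw [Subgroup.zpowers_le]
        exact Subgroup.subset_closure ⟨1, 0, by simp⟩
      · rw [Subgroup.zpowers_le]
        exact Subgroup.subset_closure ⟨0, 1, by simp⟩
    have hx' := hle hx
    refine Subgroup.closure_induction (p := fun x _ => ∃ i j : ℤ, x = c' ^ i * w' ^ j) ?_ ?_ ?_ ?_ hx'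
    · intro x hx; exact hx
    · exact ⟨0, 0, by simp⟩
    · rintro x y _ _ ⟨i, j, rfl⟩ ⟨k, l, rfl⟩
      refine ⟨i + k, j + l, ?_⟩
      have h1 : Commute (w' ^ j) (c' ^ k) := ((Commute.zpow_zpow (show Commute w' c' from hcomm.symm) j k))
      calc c' ^ i * w' ^ j * (c' ^ k * w' ^ l) = c' ^ i * (w' ^ j * c' ^ k) * w' ^ l := by group
        _ = c' ^ i * (c' ^ k * w' ^ j) * w' ^ l := by rw [h1.eq]
        _ = c' ^ (i + k) * w' ^ (j + l) := by rw [zpow_add, zpow_add]; group
    · rintro x _ ⟨i, j, rfl⟩
      refine ⟨-i, -j, ?_⟩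
      have h1 : Commute (w' ^ j) (c' ^ i) := ((Commute.zpow_zpow (show Commute w' c' from hcomm.symm) j i))
      calc (c' ^ i * w' ^ j)⁻¹ = (w' ^ j)⁻¹ * (c' ^ i)⁻¹ := by group
        _ = (c' ^ i)⁻¹ * (w' ^ j)⁻¹ := by
            have := h1.inv_inv
            exact this.eq
        _ = c' ^ (-i) * w' ^ (-j) := by rw [zpow_neg, zpow_neg]
  refine ⟨zpowers c' ⊔ zpowers w', sup_le ((Subgroup.zpowers_le).2 hcB) ((Subgroup.zpowers_le).2 hwB), ⟨⟨⟨?_⟩⟩, ?_⟩, ?_⟩
  · rintro ⟨a, ha⟩ ⟨b, hb⟩
    obtain ⟨i, j, rfl⟩ := hmemE a ha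
    obtain ⟨k, l, rfl⟩ := hmemE b hb
    apply Subtype.ext
    show c' ^ i * w' ^ j * (c' ^ k * w' ^ l) = c' ^ k * w' ^ l * (c' ^ i * w' ^ j)
    have h1 : Commute (w' ^ j) (c' ^ k) := ((Commute.zpow_zpow (show Commute w' c' from hcomm.symm) j k))
    have h2 : Commute (w' ^ l) (c' ^ i) := ((Commute.zpow_zpow (show Commute w' c' from hcomm.symm) l i))
    calc c' ^ i * w' ^ j * (c' ^ k * w' ^ l) = c' ^ i * (w' ^ j * c' ^ k) * w' ^ l := by group
      _ = c' ^ i * (c' ^ k * w' ^ j) * w' ^ l := by rw [h1.eq]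
      _ = c' ^ k * (c' ^ i * w' ^ l) * w' ^ j := by group
      _ = c' ^ k * (w' ^ l * c' ^ i) * w' ^ j := by rw [h2.eq]
      _ = c' ^ k * w' ^ l * (c' ^ i * w' ^ j) := by group
  · intro a ha
    obtain ⟨i, j, rfl⟩ := hmemE a ha
    have h1 : Commute (c' ^ i) (w' ^ j) := ((Commute.zpow_zpow (show Commute c' w' from hcomm) i j))
    rw [h1.mul_pow]
    have e1 : (c' ^ i) ^ p = 1 := by
      rw [← zpow_natCast, ← zpow_mul, mul_comm, zpow_mul, zpow_natCast, hcp, one_zpow]
    have e2 : (w' ^ j) ^ p = 1 := by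
      rw [← zpow_natCast, ← zpow_mul, mul_comm, zpow_mul, zpow_natCast, hwp, one_zpow]
    rw [e1, e2, one_mul]
  · -- card > p
    have hlt' : zpowers c' < zpowers c' ⊔ zpowers w' := by
      refine lt_of_le_of_ne le_sup_left ?_
      intro h
      apply hwc
      have hw_in : w' ∈ zpowers c' := by
        rw [h]; exact (le_sup_right : zpowers w' ≤ zpowers c' ⊔ zpowers w') (Subgroup.mem_zpowers w')
      rw [Subgroup.mem_zpowers_iff] at hw_in ⊢
      obtain ⟨k, hk⟩ := hw_in
      refine ⟨k, ?_⟩
      apply Subtype.ext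
      rw [Subgroup.coe_zpow]
      exact hk
    have hcz : Nat.card (zpowers c') = p := by
      rw [Nat.card_zpowers]
      rw [← hco]
      exact Subgroup.orderOf_coe c
    have := Set.ncard_lt_ncard (s := ((zpowers c' : Subgroup G) : Set G)) (by exact_mod_cast hlt') (Set.toFinite _)
    rw [pow_one, ← hcz]
    exact this

end Cfsg.Agent.Helper96.BGU
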