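import Mathlib
import Cfsg.Prelude.Def_OddOrderLocal
import Cfsg.Agent.Lib.Helper96.BGU2
import Cfsg.Agent.Lib.Helper22.RankTwo

/-!
B–G Corollary 9.3 and Theorem 9.6, abstractly from Corollary 9.2 (and Theorem 9.5).
-/

set_option autoImplicit false
open Cfsg Subgroup

namespace Cfsg.Agent.Helper96.BGU

variable {G : Type*} [Group G]

/-- The statement of B–G Corollary 9.2. -/
def H92 (G : Type*) [Group G] : Prop :=
  ∀ L K : Subgroup G, InUniqueMaximal L → K ≤ centralizer (L : Set G) → ¬ RankLE 1 K → InUniqueMaximal K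

theorem map_conj_le_sylow {p : ℕ} [Fact p.Prime] [Finite G] (S : Sylow p G) (g : G) {E : Subgroup G}
    (hE : E ≤ S) : E.map (MulAut.conj g).toMonoidHom ≤ ((g • S : Sylow p G) : Subgroup G) := by
  rintro _ ⟨x, hx, rfl⟩
  rw [Sylow.coe_subgroup_smul]
  exact Subgroup.smul_mem_pointwise_smul x (MulAut.conj g) (S : Subgroup G) (hE hx)

theorem sylow_smul_eq_map {p : ℕ} [Fact p.Prime] [Finite G] (S : Sylow p G) (g : G) :
    ((g • S : Sylow p G) : Subgroup G) = (S : Subgroup G).map (MulAut.conj g).toMonoidHom := by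
  rw [Sylow.coe_subgroup_smul]
  rfl

/-- normal elementary abelian subgroup of order `p ^ 2` in a Sylow subgroup of rank at least 3. -/
theorem exists_normal_sq {p : ℕ} [Fact p.Prime] [Finite G] (S : Sylow p G) (hr : ¬ PRankLE p 2 ↥(S : Subgroup G)) :
    ∃ E : Subgroup G, E ≤ S ∧ (S : Subgroup G) ≤ normalizer (E : Set G) ∧ Nat.card E = p ^ 2 ∧
      IsElementaryAbelian p E := by
  obtain ⟨U, hUn, hUe, hUc⟩ := Cfsg.Agent.Helper22.exists_normal_elemAb_sq p S.2 hr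
  refine ⟨U.map (S : Subgroup G).subtype, Subgroup.map_subtype_le _, ?_, ?_, ?_⟩
  · intro s hs
    rw [Subgroup.mem_normalizer_iff]
    intro x
    constructor
    · rintro ⟨u, hu, rfl⟩
      exact ⟨⟨s, hs⟩ * u * ⟨s, hs⟩⁻¹, hUn.conj_mem u hu ⟨s, hs⟩, rfl⟩
    · rintro ⟨u, hu, hux⟩
      have h1 := hUn.conj_mem u hu (⟨s, hs⟩⁻¹ : (S : Subgroup G))
      refine ⟨⟨s, hs⟩⁻¹ * u * ⟨s, hs⟩⁻¹⁻¹, h1, ?_⟩
      have : ((S : Subgroup G).subtype u) = s * x * s⁻¹ := hux
      show (s⁻¹ * (u : G) * s⁻¹⁻¹) = x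
      have h2 : (u : G) = s * x * s⁻¹ := this
      rw [h2]; group
  · rw [← hUc]
    exact (Nat.card_congr (U.equivMapOfInjective _ (S : Subgroup G).subtype_injective).toEquiv).symm
  · refine ⟨⟨⟨?_⟩⟩, ?_⟩
    · rintro ⟨_, ⟨a, ha, rfl⟩⟩ ⟨_, ⟨b, hb, rfl⟩⟩
      have hc' := hUe.1.is_comm.comm (⟨a, ha⟩ : U) ⟨b, hb⟩
      apply Subtype.ext
      have := congrArg (fun x : U => (((x : (S : Subgroup G)) : G))) hc'
      simpa using this
    · rintro _ ⟨a, ha, rfl⟩
      have := hUe.2 a ha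
      have h2 := congrArg (fun x : (S : Subgroup G) => (x : G)) this
      simpa using h2

/-- B–G Corollary 9.3 (from 9.2). -/
theorem bg93 [Finite G] (h92 : H92 G) (p : ℕ) [hp : Fact p.Prime] (hp2 : p ≠ 2) (A B : Subgroup G)
    (hAp : IsPGroup p A) (hAc : IsMulCommutative A) (hA3 : ¬ PRankLE p 2 ↥A) (hAU : InUniqueMaximal A)
    (hBp : IsPGroup p B) (hBnc : ¬ IsCyclic B) (hB3 : ¬ PRankLE p 2 ↥(centralizer (B : Set G))) :
    InUniqueMaximal B := by
  classical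
  have hp1 : 1 < p := hp.out.one_lt
  obtain ⟨A₃, hA₃A, hA₃e, hA₃c⟩ := exists_elemAb_of_not_pRankLE hA3
  obtain ⟨S, hAS⟩ := hAp.exists_le_sylow
  have hSr : ¬ PRankLE p 2 ↥(S : Subgroup G) := not_pRankLE_of_elemAb A₃ (hA₃A.trans hAS) hA₃e hA₃c
  obtain ⟨E, hES, hEn, hEc, hEe⟩ := exists_normal_sq S hSr
  -- K₁ = C_{A₃}(E)
  have hK₁c := card_le_mul_card_inf_centralizer (S : Subgroup G) E A₃ S.2 hES hEn hEc (hA₃A.trans hAS)
  have hK₁lt : p ^ 1 < Nat.card (A₃ ⊓ centralizer (E : Set G) : Subgroup G) := by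
    rw [pow_one]
    have : p ^ 2 < p * Nat.card (A₃ ⊓ centralizer (E : Set G) : Subgroup G) := lt_of_lt_of_le hA₃c hK₁c
    rw [sq] at this
    exact Nat.lt_of_mul_lt_mul_left this
  have hK₁e : IsElementaryAbelian p (A₃ ⊓ centralizer (E : Set G) : Subgroup G) :=
    isElementaryAbelian_of_le hA₃e inf_le_left
  have hAcomm : ∀ a ∈ A, ∀ b ∈ A, a * b = b * a := by
    intro a ha b hb
    exact congrArg Subtype.val (hAc.is_comm.comm (⟨a, ha⟩ : A) ⟨b, hb⟩)
  have hK₁U : InUniqueMaximal (A₃ ⊓ centralizer (E : Set G) : Subgroup G) := by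
    apply h92 A _ hAU
    · intro x hx a ha
      exact hAcomm a ha x (hA₃A hx.1)
    · exact not_rankLE_of_elemAb hp.out _ le_rfl hK₁e hK₁lt
  have hEU : InUniqueMaximal E := by
    apply h92 _ E hK₁U
    · intro x hx k hk
      exact ((Subgroup.mem_centralizer_iff.1 hk.2) x hx).symm
    · apply not_rankLE_of_elemAb hp.out E le_rfl hEe
      rw [hEc, pow_one]; nlinarith
  -- now B
  obtain ⟨B₃, hB₃C, hB₃e, hB₃c⟩ := exists_elemAb_of_not_pRankLE hB3
  have hT : IsPGroup p (B ⊔ B₃ : Subgroup G) := by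
    apply IsPGroup.to_sup_of_normal_left' hBp (isPGroup_of_elemAb hB₃e)
    exact hB₃C.trans (Subgroup.centralizer_le_normalizer _)
  obtain ⟨S', hTS'⟩ := hT.exists_le_sylow
  obtain ⟨g, hg⟩ := MulAction.exists_smul_eq G S S'
  set E' : Subgroup G := E.map (MulAut.conj g).toMonoidHom with hE'
  have hE'S' : E' ≤ S' := by rw [← hg]; exact map_conj_le_sylow S g hES
  have hE'n : (S' : Subgroup G) ≤ normalizer (E' : Set G) := by
    rw [← hg, sylow_smul_eq_map, hE']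
    have := Subgroup.map_equiv_normalizer_eq E (MulAut.conj g)
    rw [← this]
    exact Subgroup.map_mono hEn
  have hE'c : Nat.card E' = p ^ 2 := by
    rw [hE', ← hEc]
    exact Subgroup.card_map_of_injective (MulAut.conj g).injective
  have hE'U : InUniqueMaximal E' := inUniqueMaximal_conj g hEU
  have hB₃S' : B₃ ≤ S' := le_sup_right.trans hTS'
  have hK₂c := card_le_mul_card_inf_centralizer (S' : Subgroup G) E' B₃ S'.2 hE'S' hE'n hE'c hB₃S'
  have hK₂lt : p ^ 1 < Nat.card (B₃ ⊓ centralizer (E' : Set G) : Subgroup G) := by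
    rw [pow_one]
    have : p ^ 2 < p * Nat.card (B₃ ⊓ centralizer (E' : Set G) : Subgroup G) := lt_of_lt_of_le hB₃c hK₂c
    rw [sq] at this
    exact Nat.lt_of_mul_lt_mul_left this
  have hK₂e : IsElementaryAbelian p (B₃ ⊓ centralizer (E' : Set G) : Subgroup G) :=
    isElementaryAbelian_of_le hB₃e inf_le_left
  have hK₂U : InUniqueMaximal (B₃ ⊓ centralizer (E' : Set G) : Subgroup G) := by
    apply h92 E' _ hE'U inf_le_right
    exact not_rankLE_of_elemAb hp.out _ le_rfl hK₂e hK₂lt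
  apply h92 _ B hK₂U
  · intro b hb k hk
    exact ((Subgroup.mem_centralizer_iff.1 (hB₃C hk.1)) b hb).symm
  · obtain ⟨F, hFB, hFe, hFc⟩ := exists_elemAb_of_not_isCyclic hp2 B hBp hBnc
    exact not_rankLE_of_elemAb hp.out F hFB hFe hFc

end Cfsg.Agent.Helper96.BGU

namespace Cfsg.Agent.Helper96.BGU

variable {G : Type*} [Group G]

theorem ne_two_of_not_pRankLE [Finite G] (hodd : Odd (Nat.card G)) {p k : ℕ} [hp : Fact p.Prime] {H : Subgroup G}
    (h : ¬ PRankLE p k ↥H) : p ≠ 2 := by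
  rintro rfl
  obtain ⟨E, -, hEe, hEc⟩ := exists_elemAb_of_not_pRankLE h
  have hEp := isPGroup_of_elemAb hEe
  obtain ⟨n, hn⟩ := IsPGroup.iff_card.1 hEp
  have hn0 : n ≠ 0 := by
    rintro rfl
    rw [pow_zero] at hn
    rw [hn] at hEc
    have : 1 ≤ 2 ^ k := Nat.one_le_two_pow
    omega
  have h2 : 2 ∣ Nat.card E := by rw [hn]; exact dvd_pow_self 2 hn0
  have h3 : 2 ∣ Nat.card G := h2.trans (Subgroup.card_subgroup_dvd_card E)
  exact (Nat.not_even_iff_odd.2 hodd) (even_iff_two_dvd.2 h3)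

end Cfsg.Agent.Helper96.BGU
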