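import Mathlib
import Cfsg.Prelude.Def_OddOrderLocal
import Cfsg.Agent.Lib.Helper96.BGU3
import Cfsg.Agent.S1452

/-!
B–G Lemma 9.4 and Theorem 9.6, abstractly from Theorem 8.1, Corollary 9.2 and Lemma 9.5.
-/

set_option autoImplicit false
open Cfsg Subgroup

namespace Cfsg.Agent.Helper96.BGU

variable {G : Type*} [Group G]

/-- The statement of B–G Lemma 9.5. -/
def H95 (G : Type*) [Group G] : Prop :=
  ∀ (p : ℕ) [Fact p.Prime] (P : Sylow p G) (A : Subgroup G), IsSCN (P : Subgroup G) A → ¬ PRankLE p 2 ↥A →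
    InUniqueMaximal A

/-- The statement of B–G Theorem 8.1. -/
def H81 (G : Type*) [Group G] : Prop :=
  ∀ (M : Subgroup G), IsCoatom M → ∀ (p : ℕ) [Fact p.Prime] (A₀ : Subgroup G), A₀ ≤ fittingOf M →
    IsElementaryAbelian p A₀ → p ^ 3 ≤ Nat.card A₀ →
    (∀ B : Subgroup G, B ≤ fittingOf M → IsElementaryAbelian p B → A₀ ≤ B → B = A₀) →
    (¬ IsPGroup p ↥(fittingOf M) → InUniqueMaximal (fittingOf M ⊓ centralizer (A₀ : Set G))) ∧
      (IsPGroup p ↥(fittingOf M) → ∀ P : Sylow p M,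
        ¬ p ∣ ((P : Subgroup M).map M.subtype).index ∧
        ∀ A : Subgroup G, IsSCN ((P : Subgroup M).map M.subtype) A → ¬ PRankLE p 2 ↥A →
          A ≤ fittingOf M ∧ InUniqueMaximal A)

theorem not_isCyclic_of_elemAb [Finite G] {p : ℕ} [hp : Fact p.Prime] {E : Subgroup G}
    (hE : IsElementaryAbelian p E) (hc : p ^ 1 < Nat.card E) : ¬ IsCyclic E := by
  intro hcyc
  obtain ⟨g, hg⟩ := hcyc.exists_generator
  have h1 : g ^ p = 1 := by
    apply Subtype.ext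
    exact hE.2 g g.2
  have h2 : orderOf g ∣ p := orderOf_dvd_of_pow_eq_one h1
  have h3 : Nat.card E = orderOf g := by
    rw [← Nat.card_zpowers]
    have : Subgroup.zpowers g = ⊤ := (Subgroup.eq_top_iff' _).2 hg
    rw [this]
    exact (Nat.card_congr (Subgroup.topEquiv : (⊤ : Subgroup E) ≃* E).toEquiv).symm
  have h4 : orderOf g ≤ p := Nat.le_of_dvd hp.out.pos h2
  rw [pow_one] at hc
  omega

theorem not_isCyclic_of_not_pRankLE [Finite G] {p k : ℕ} [hp : Fact p.Prime] (hk : 1 ≤ k) {A : Subgroup G}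
    (h : ¬ PRankLE p k ↥A) : ¬ IsCyclic A := by
  intro hcyc
  obtain ⟨E, hEA, hEe, hEc⟩ := exists_elemAb_of_not_pRankLE h
  have h1 : p ^ 1 < Nat.card E := lt_of_le_of_lt (Nat.pow_le_pow_right hp.out.pos hk) hEc
  apply not_isCyclic_of_elemAb hEe h1
  have : IsCyclic (E.subgroupOf A) := Subgroup.isCyclic _
  exact isCyclic_of_surjective (Subgroup.subgroupOfEquivOfLe hEA) (Subgroup.subgroupOfEquivOfLe hEA).surjective

/-- `SCN_3(P)` is nonempty for a Sylow subgroup of rank at least 3 (p odd). -/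
theorem exists_scn3 [Finite G] {p : ℕ} [hp : Fact p.Prime] (hp2 : p ≠ 2) (P : Sylow p G)
    (hr : ¬ PRankLE p 2 ↥(P : Subgroup G)) :
    ∃ A : Subgroup G, IsSCN (P : Subgroup G) A ∧ ¬ PRankLE p 2 ↥A := by
  obtain ⟨U, hUn, hUe, hUc⟩ := Cfsg.Agent.Helper22.exists_normal_elemAb_sq p P.2 hr
  haveI := hUn
  obtain ⟨A, -, hAn, hAC, hAr⟩ := Cfsg.Agent.S1452.result p hp2 P.2 hr U hUe hUc
  refine ⟨A.map (P : Subgroup G).subtype, ⟨Subgroup.map_subtype_le _, ?_, ?_⟩, ?_⟩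
  · intro s hs
    rw [Subgroup.mem_normalizer_iff]
    intro x
    constructor
    · rintro ⟨u, hu, rfl⟩
      exact ⟨⟨s, hs⟩ * u * ⟨s, hs⟩⁻¹, hAn.conj_mem u hu ⟨s, hs⟩, rfl⟩
    · rintro ⟨u, hu, hux⟩
      have h1 := hAn.conj_mem u hu (⟨s, hs⟩⁻¹ : (P : Subgroup G))
      refine ⟨⟨s, hs⟩⁻¹ * u * ⟨s, hs⟩⁻¹⁻¹, h1, ?_⟩
      have h2 : (u : G) = s * x * s⁻¹ := hux
      show (s⁻¹ * (u : G) * s⁻¹⁻¹) = x
      rw [h2]; group
  · ext x
    constructor
    · rintro ⟨hxP, hxC⟩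
      have hmem : (⟨x, hxP⟩ : (P : Subgroup G)) ∈ centralizer (A : Set (P : Subgroup G)) := by
        rw [Subgroup.mem_centralizer_iff]
        intro a ha
        apply Subtype.ext
        have := (Subgroup.mem_centralizer_iff.1 hxC) (a : G) ⟨a, ha, rfl⟩
        exact this
      rw [hAC] at hmem
      exact ⟨⟨x, hxP⟩, hmem, rfl⟩
    · rintro ⟨a, ha, rfl⟩
      refine ⟨a.2, ?_⟩
      show ((P : Subgroup G).subtype a) ∈ centralizer _
      rw [Subgroup.mem_centralizer_iff]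
      rintro _ ⟨b, hb, rfl⟩
      have hmem : a ∈ centralizer (A : Set (P : Subgroup G)) := by rw [hAC]; exact ha
      have := (Subgroup.mem_centralizer_iff.1 hmem) b hb
      exact congrArg Subtype.val this
  · unfold PRankLE at hAr ⊢
    push Not at hAr ⊢
    obtain ⟨F, hFc, hFe, hFcard⟩ := hAr
    -- F : Subgroup ↥A, A : Subgroup ↥P
    refine ⟨((F.map A.subtype).map (P : Subgroup G).subtype).subgroupOf (A.map (P : Subgroup G).subtype), ?_, ?_, ?_⟩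
    · refine ⟨⟨?_⟩⟩
      rintro ⟨⟨x, hxA⟩, hx⟩ ⟨⟨y, hyA⟩, hy⟩
      rw [Subgroup.mem_subgroupOf] at hx hy
      obtain ⟨_, ⟨f, hf, rfl⟩, rfl⟩ := hx
      obtain ⟨_, ⟨f', hf', rfl⟩, rfl⟩ := hy
      have hc' := hFc.is_comm.comm (⟨f, hf⟩ : F) ⟨f', hf'⟩
      apply Subtype.ext; apply Subtype.ext
      have := congrArg (fun z : F => (((z : A) : (P : Subgroup G)) : G)) hc'
      simpa using this
    · rintro ⟨x, hxA⟩ hx
      rw [Subgroup.mem_subgroupOf] at hx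
      obtain ⟨_, ⟨f, hf, rfl⟩, rfl⟩ := hx
      apply Subtype.ext
      have := hFe f hf
      have := congrArg (fun z : A => ((z : (P : Subgroup G)) : G)) this
      simpa using this
    · have hle : (F.map A.subtype).map (P : Subgroup G).subtype ≤ A.map (P : Subgroup G).subtype :=
        Subgroup.map_mono (Subgroup.map_subtype_le _)
      rw [card_subgroupOf_of_le hle]
      rw [Subgroup.card_map_of_injective (P : Subgroup G).subtype_injective,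
        Subgroup.card_map_of_injective A.subtype_injective]
      exact hFcard

theorem scn_comm {P A : Subgroup G} (h : IsSCN P A) : IsMulCommutative A := by
  refine ⟨⟨?_⟩⟩
  rintro ⟨a, ha⟩ ⟨b, hb⟩
  have hb' : b ∈ P ⊓ centralizer (A : Set G) := by rw [h.2.2]; exact hb
  apply Subtype.ext
  show a * b = b * a
  exact ((Subgroup.mem_centralizer_iff.1 hb'.2) a ha)

/-- B–G Theorem 9.6 (from 9.2, 9.5). -/
theorem bg96 [Finite G] (hodd : Odd (Nat.card G)) (h92 : H92 G) (h95 : H95 G) (K : Subgroup G) (hK : K ≠ ⊤)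
    (hK2 : ¬ RankLE 1 K) (hK3 : ¬ RankLE 2 K ∨ ¬ RankLE 2 (centralizer (K : Set G))) :
    InUniqueMaximal K := by
  classical
  -- common part: an elementary abelian q-subgroup of rank 3 is a uniqueness subgroup
  have key : ∀ (X : Subgroup G), ¬ RankLE 2 X → ∃ B₃ : Subgroup G, B₃ ≤ X ∧ InUniqueMaximal B₃ := by
    intro X hX
    unfold RankLE at hX
    push Not at hX
    obtain ⟨q, hq, hXq⟩ := hX
    haveI : Fact q.Prime := ⟨hq⟩
    have hq2 : q ≠ 2 := ne_two_of_not_pRankLE hodd hXq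
    obtain ⟨B₃, hB₃X, hB₃e, hB₃c⟩ := exists_elemAb_of_not_pRankLE hXq
    refine ⟨B₃, hB₃X, ?_⟩
    obtain ⟨P, hBP⟩ := (isPGroup_of_elemAb hB₃e).exists_le_sylow
    have hPr : ¬ PRankLE q 2 ↥(P : Subgroup G) := not_pRankLE_of_elemAb B₃ hBP hB₃e hB₃c
    obtain ⟨A, hA, hAr⟩ := exists_scn3 hq2 P hPr
    have hAU := h95 q P A hA hAr
    have hAp : IsPGroup q A := P.2.to_le hA.1
    apply bg93 h92 q hq2 A B₃ hAp (scn_comm hA) hAr hAU (isPGroup_of_elemAb hB₃e)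
    · exact not_isCyclic_of_elemAb hB₃e
        (lt_of_le_of_lt (Nat.pow_le_pow_right hq.pos (by norm_num)) hB₃c)
    · exact not_pRankLE_of_elemAb B₃ (le_centralizer_of_elemAb hB₃e) hB₃e hB₃c
  rcases hK3 with h | h
  · obtain ⟨B₃, hB₃K, hB₃U⟩ := key K h
    exact inUniqueMaximal_of_le hB₃U hB₃K hK
  · obtain ⟨B₃, hB₃C, hB₃U⟩ := key _ h
    apply h92 B₃ K hB₃U _ hK2
    intro k hk b hb
    exact ((Subgroup.mem_centralizer_iff.1 (hB₃C hb)) k hk).symm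

/-- Every elementary abelian `p`-subgroup of `F` lies in a maximal one. -/
theorem exists_max_elemAb [Finite G] (p : ℕ) (F F₃ : Subgroup G) (hF₃ : F₃ ≤ F) (hF₃e : IsElementaryAbelian p F₃) :
    ∃ A₀ : Subgroup G, F₃ ≤ A₀ ∧ A₀ ≤ F ∧ IsElementaryAbelian p A₀ ∧
      ∀ B : Subgroup G, B ≤ F → IsElementaryAbelian p B → A₀ ≤ B → B = A₀ := by
  classical
  let 𝒮 : Set (Subgroup G) := {B | B ≤ F ∧ IsElementaryAbelian p B ∧ F₃ ≤ B}
  haveI : Nonempty 𝒮 := ⟨⟨F₃, hF₃, hF₃e, le_rfl⟩⟩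
  obtain ⟨⟨A₀, hA₀F, hA₀e, hA₀3⟩, hmax⟩ := Finite.exists_max (fun B : 𝒮 => Nat.card (B : Subgroup G))
  refine ⟨A₀, hA₀3, hA₀F, hA₀e, ?_⟩
  intro B hBF hBe hAB
  have h1 := hmax ⟨B, hBF, hBe, hA₀3.trans hAB⟩
  exact (Subgroup.eq_of_le_of_card_ge hAB h1).symm

/-- B–G Lemma 9.4 (from 8.1, 9.2). -/
theorem bg94 [Finite G] (hodd : Odd (Nat.card G)) (h92 : H92 G) (h81 : H81 G) (M : Subgroup G) (hM : IsCoatom M)
    (p : ℕ) [hp : Fact p.Prime] (hF : ¬ PRankLE p 2 ↥(fittingOf M)) (A : Subgroup G) (hAp : IsPGroup p A)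
    (hAc : IsMulCommutative A) (hA3 : ¬ PRankLE p 2 ↥A) : InUniqueMaximal A := by
  classical
  have hp2 : p ≠ 2 := ne_two_of_not_pRankLE hodd hA3
  obtain ⟨F₃, hF₃F, hF₃e, hF₃c⟩ := exists_elemAb_of_not_pRankLE hF
  obtain ⟨A₀, hF₃A₀, hA₀F, hA₀e, hA₀max⟩ := exists_max_elemAb p (fittingOf M) F₃ hF₃F hF₃e
  have hA₀lt : p ^ 2 < Nat.card A₀ := lt_of_lt_of_le hF₃c (Subgroup.card_le_of_le hF₃A₀)
  have hA₀3 : p ^ 3 ≤ Nat.card A₀ := by
    obtain ⟨n, hn⟩ := IsPGroup.iff_card.1 (isPGroup_of_elemAb hA₀e)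
    rw [hn] at hA₀lt ⊢
    have : 2 < n := (Nat.pow_lt_pow_iff_right hp.out.one_lt).1 hA₀lt
    exact Nat.pow_le_pow_right hp.out.pos this
  -- the tail: from an abelian uniqueness subgroup of rank 3 to A
  have tail : ∀ A₁ : Subgroup G, IsPGroup p A₁ → IsMulCommutative A₁ → ¬ PRankLE p 2 ↥A₁ → InUniqueMaximal A₁ →
      InUniqueMaximal A := by
    intro A₁ h1 h2 h3 h4
    apply bg93 h92 p hp2 A₁ A h1 h2 h3 h4 hAp (not_isCyclic_of_not_pRankLE (by norm_num) hA3)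
    obtain ⟨A₃, hA₃A, hA₃e, hA₃c⟩ := exists_elemAb_of_not_pRankLE hA3
    refine not_pRankLE_of_elemAb A₃ ?_ hA₃e hA₃c
    intro x hx a ha
    exact congrArg Subtype.val (hAc.is_comm.comm (⟨a, ha⟩ : A) ⟨x, hA₃A hx⟩)
  obtain ⟨ha, hb⟩ := h81 M hM p A₀ hA₀F hA₀e hA₀3 hA₀max
  by_cases hFp : IsPGroup p ↥(fittingOf M)
  · -- F(M) is a p-group
    have hMF₃ : F₃ ≤ M := hF₃F.trans (Subgroup.map_subtype_le _)
    have hF₃p : IsPGroup p (F₃.subgroupOf M) :=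
      (isPGroup_of_elemAb hF₃e).of_equiv (Subgroup.subgroupOfEquivOfLe hMF₃).symm
    obtain ⟨P, hP⟩ := hF₃p.exists_le_sylow
    obtain ⟨hidx, hscn⟩ := hb hFp P
    have hP'p : IsPGroup p ((P : Subgroup M).map M.subtype) := P.2.map _
    set P'' : Sylow p G := hP'p.toSylow hidx with hP''
    have hcoe : (P'' : Subgroup G) = (P : Subgroup M).map M.subtype := IsPGroup.toSylow_coe hP'p hidx
    have hF₃P : F₃ ≤ (P'' : Subgroup G) := by
      rw [hcoe]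
      intro x hx
      exact ⟨⟨x, hMF₃ hx⟩, hP (Subgroup.mem_subgroupOf.2 hx), rfl⟩
    have hPr : ¬ PRankLE p 2 ↥(P'' : Subgroup G) := not_pRankLE_of_elemAb F₃ hF₃P hF₃e hF₃c
    obtain ⟨A₁, hA₁, hA₁r⟩ := exists_scn3 hp2 P'' hPr
    have hA₁' : IsSCN ((P : Subgroup M).map M.subtype) A₁ := by rw [← hcoe]; exact hA₁
    obtain ⟨-, hA₁U⟩ := hscn A₁ hA₁' hA₁r
    exact tail A₁ (P''.2.to_le hA₁.1) (scn_comm hA₁) hA₁r hA₁U
  · -- F(M) is not a p-group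
    have hLU := ha hFp
    have hA₀U : InUniqueMaximal A₀ := by
      apply h92 _ A₀ hLU
      · intro a ha' x hx
        exact ((Subgroup.mem_centralizer_iff.1 hx.2) a ha').symm
      · exact not_rankLE_of_elemAb hp.out A₀ le_rfl hA₀e
          (lt_of_le_of_lt (Nat.pow_le_pow_right hp.out.pos (by norm_num)) hA₀lt)
    exact tail A₀ (isPGroup_of_elemAb hA₀e) hA₀e.1 (not_pRankLE_of_elemAb A₀ le_rfl hA₀e hA₀lt) hA₀U

end Cfsg.Agent.Helper96.BGU
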