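import Mathlib
import Cfsg.Agent.Lib.Helper96.BGU4
import Cfsg.Agent.Lib.Helper15.BGU.Main
import Cfsg.Agent.Lib.Helper54.BenderLocalD
import Cfsg.Agent.S1393
import Cfsg.Agent.S1395
import Cfsg.Agent.S1396
import Cfsg.Agent.S1482

/-!
# Bender–Glauberman Theorem 8.1 (helper96)

Common engine: if `A ≤ F(M)` (M maximal) satisfies the transitivity hypothesis, has centre of rank
at least 3, `π(F(M)) ⊆ π(A)` and `A` is subnormal in `F(M)`, then every `A`-invariant
`π(A)'`-subgroup of `G` is trivial.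
-/

set_option autoImplicit false
set_option linter.unusedSectionVars false
set_option linter.unusedVariables false

namespace Cfsg.Agent.Helper96.BGU

open Cfsg Subgroup

variable {G : Type*} [Group G]

/-- every subgroup of a finite nilpotent group is subnormal -/
theorem isSubnormal_of_isNilpotent [Finite G] [Group.IsNilpotent G] (H : Subgroup G) :
    H.IsSubnormal := by
  induction' hn : Nat.card G - Nat.card H using Nat.strong_induction_on with n ih generalizing H
  by_cases hH : H = ⊤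
  · rw [hH]; exact IsSubnormal.top
  · have hlt : H < ⊤ := lt_top_iff_ne_top.mpr hH
    have h2 := Group.normalizerCondition_of_isNilpotent (G := G) H hlt
    have hcard : Nat.card H < Nat.card (normalizer (H : Set G)) := by
      by_contra hge
      rw [not_lt] at hge
      exact (ne_of_lt h2) (Subgroup.eq_of_le_of_card_ge le_normalizer hge)
    have hle : Nat.card (normalizer (H : Set G)) ≤ Nat.card G := Subgroup.card_le_card_group _
    have hN := ih (Nat.card G - Nat.card (normalizer (H : Set G))) (by omega)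
      (normalizer (H : Set G)) rfl
    exact IsSubnormal.step H _ le_normalizer hN normal_in_normalizer

theorem isSubnormal_subgroupOf_of_isNilpotent [Finite G] (A F : Subgroup G)
    (hF : Group.IsNilpotent F) : (A.subgroupOf F).IsSubnormal :=
  isSubnormal_of_isNilpotent (G := F) (A.subgroupOf F)

theorem eq_of_coatom_le {M L : Subgroup G} (hM : IsCoatom M) (h : M ≤ L) (hL : L ≠ ⊤) : L = M := by
  by_contra hne
  exact hL (hM.2 L (lt_of_le_of_ne h (Ne.symm hne)))

/-- `N_G(F(M)) = M` and `C_G(F(M)) ≤ F(M)` for a maximal subgroup `M` with `F(M) ≠ 1`. -/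
theorem fitting_facts [Finite G] (hG : IsMinSimpleOddOrder G) {M : Subgroup G} (hM : IsCoatom M)
    (hF1 : fittingOf M ≠ ⊥) :
    normalizer (fittingOf M : Set G) = M ∧ centralizer (fittingOf M : Set G) ≤ fittingOf M := by
  haveI := hG.2.1
  have hFM : fittingOf M ≤ M := Helper54.BenderLocal.fittingOf_le M
  have hFtop : fittingOf M ≠ ⊤ := fun h => hM.1 (top_le_iff.mp (h ▸ hFM))
  have hN : normalizer (fittingOf M : Set G) = M :=
    eq_of_coatom_le hM (Helper54.BenderLocal.le_normalizer_fittingOf M)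
      (Helper54.normalizer_ne_top_of_isSimpleGroup _ hF1 hFtop)
  refine ⟨hN, ?_⟩
  have hC : centralizer (fittingOf M : Set G) ≤ M := by
    have := centralizer_le_normalizer (fittingOf M : Set G)
    rwa [hN] at this
  have hsolv : Group.IsSolvable M := hG.2.2.2 M hM.1
  have h1 := Helper54.BenderLocal.inf_centralizer_fittingOf_le M M hsolv (inf_le_left.trans le_normalizer)
  intro x hx
  exact h1 (mem_inf.mpr ⟨hC hx, mem_inf.mpr ⟨hC hx, hx⟩⟩)


theorem bot_normalized (F : Subgroup G) : F ≤ normalizer (((⊥ : Subgroup G) : Subgroup G) : Set G) := by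
  rw [Subgroup.normalizer_eq_top_iff.mpr inferInstance]
  exact le_top

/-- the engine: `A`-invariant `q`-subgroups are trivial -/
theorem inv_q_eq_bot [Finite G] (hG : IsMinSimpleOddOrder G) {M : Subgroup G} (hM : IsCoatom M)
    {A : Subgroup G} (hA : TransitivityHypothesis A)
    (hZ : ¬ RankLE 2 ↥(A ⊓ centralizer (A : Set G)))
    (hAF : A ≤ fittingOf M)
    (hπ : ∀ r : ℕ, r.Prime → r ∣ Nat.card (fittingOf M) → r ∣ Nat.card A)
    (hsn : (A.subgroupOf (fittingOf M)).IsSubnormal)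
    (q : ℕ) [hq : Fact q.Prime] (hqA : ¬ q ∣ Nat.card A) (Q : Subgroup G) (hQq : IsPGroup q Q)
    (hAQ : A ≤ normalizer (Q : Set G)) : Q = ⊥ := by
  have hsimp : IsSimpleGroup G := hG.2.1
  set F := fittingOf M with hF
  have hA1 : A ≠ ⊥ := hA.1
  have hF1 : F ≠ ⊥ := fun h => hA1 (le_bot_iff.mp (h ▸ hAF))
  have hFM : F ≤ M := Helper54.BenderLocal.fittingOf_le M
  have hMtop : M ≠ ⊤ := hM.1
  have hFtop : F ≠ ⊤ := fun h => hMtop (top_le_iff.mp (h ▸ hFM))
  obtain ⟨hNF, hCF⟩ := fitting_facts hG hM hF1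
  have htr := Cfsg.Agent.S1393.result hG A hA hZ q hq.out hqA
  obtain ⟨-, hb, hc, -⟩ := Cfsg.Agent.S1395.result hG A hA q hq.out hqA F hFtop hπ hAF hsn htr
  -- the core of `C_G(F)` is trivial
  have hK : piCoreOf (primesNotDvd (Nat.card A)) (centralizer (F : Set G)) = ⊥ := by
    have hKF : piCoreOf (primesNotDvd (Nat.card A)) (centralizer (F : Set G)) ≤ F :=
      (Helper54.piCoreOf_le _ _).trans hCF
    have hKpi := Helper54.isPi_piCoreOf (primesNotDvd (Nat.card A)) (centralizer (F : Set G))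
    apply Subgroup.card_eq_one.mp
    by_contra h1
    obtain ⟨r, hr, hrd⟩ := Nat.exists_prime_and_dvd h1
    exact (hKpi r hr hrd).2 (hπ r hr (hrd.trans (Subgroup.card_dvd_of_le hKF)))
  obtain ⟨Q₀, hQ₀, -⟩ := Helper54.exists_isMaxInvQ_ge (E := F) (q := q) (R := ⊥) IsPGroup.of_bot
    (bot_normalized F)
  have hQ₀mem := Helper54.mem_maxInvSubgroups_of_isMaxInvQ F q Q₀ hQ₀
  -- `M` normalizes `Q₀`
  have hMQ₀ : M ≤ normalizer (Q₀ : Set G) := by
    intro m hm
    have hmF : m ∈ normalizer (F : Set G) := by rw [hNF]; exact hm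
    have h1 : Helper54.IsMaxInvQ F q (Helper22.conjS m Q₀) := Helper54.IsMaxInvQ.conj hmF hQ₀
    have h2 := Helper54.mem_maxInvSubgroups_of_isMaxInvQ F q _ h1
    obtain ⟨k, hk, hkeq⟩ := hb Q₀ hQ₀mem _ h2
    rw [hK, Subgroup.mem_bot] at hk
    subst hk
    have h3 : Helper22.conjS m Q₀ = Q₀ := by
      rw [hkeq]; exact Helper22.conjS_one Q₀
    exact Helper22.mem_normalizer_iff_conjS.mpr h3
  have hQ₀bot : Q₀ = ⊥ := by
    by_contra hne
    have hQ₀top : Q₀ ≠ ⊤ := Helper54.ne_top_of_isPGroup_of_not_dvd hA1 hqA Q₀ hQ₀.1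
    have hNQ : normalizer (Q₀ : Set G) = M :=
      eq_of_coatom_le hM hMQ₀ (Helper54.normalizer_ne_top_of_isSimpleGroup _ hne hQ₀top)
    have hQ₀M : Q₀ ≤ M := by
      have : Q₀ ≤ normalizer (Q₀ : Set G) := le_normalizer
      rwa [hNQ] at this
    -- `Q₀` is a normal nilpotent subgroup of `M`
    have hn : (Q₀.subgroupOf M).Normal :=
      (Subgroup.normal_subgroupOf_iff_le_normalizer hQ₀M).mpr hMQ₀
    have hnil : Group.IsNilpotent (Q₀.subgroupOf M) :=
      (hQ₀.1.of_equiv (Subgroup.subgroupOfEquivOfLe hQ₀M).symm).isNilpotent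
    have hle : Q₀.subgroupOf M ≤ fittingSubgroup M := Helper22.le_fittingSubgroup hn hnil
    have hQ₀F : Q₀ ≤ F := by
      have := Subgroup.map_mono (f := M.subtype) hle
      rwa [Subgroup.map_subgroupOf_eq_of_le hQ₀M] at this
    obtain ⟨n, hn'⟩ := IsPGroup.iff_card.mp hQ₀.1
    have hn0 : n ≠ 0 := by
      rintro rfl
      rw [pow_zero] at hn'
      exact hne (Subgroup.card_eq_one.mp hn')
    have hqQ : q ∣ Nat.card Q₀ := by rw [hn']; exact dvd_pow_self q hn0
    exact hqA (hπ q hq.out (hqQ.trans (Subgroup.card_dvd_of_le hQ₀F)))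
  have hmemA := hc hQ₀mem
  rw [hQ₀bot] at hmemA
  have hmax := Helper54.isMaxInvQ_of_mem_maxInvSubgroups A q ⊥ hmemA
  exact hmax.2.2 Q hQq hAQ bot_le

/-- the engine: `A`-invariant `π(A)'`-subgroups are trivial -/
theorem inv_eq_bot [Finite G] (hG : IsMinSimpleOddOrder G) {M : Subgroup G} (hM : IsCoatom M)
    {A : Subgroup G} (hA : TransitivityHypothesis A)
    (hZ : ¬ RankLE 2 ↥(A ⊓ centralizer (A : Set G)))
    (hAF : A ≤ fittingOf M)
    (hπ : ∀ r : ℕ, r.Prime → r ∣ Nat.card (fittingOf M) → r ∣ Nat.card A)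
    (hsn : (A.subgroupOf (fittingOf M)).IsSubnormal)
    (Y : Subgroup G) (hY : ∀ r : ℕ, r.Prime → r ∣ Nat.card Y → ¬ r ∣ Nat.card A)
    (hAY : A ≤ normalizer (Y : Set G)) : Y = ⊥ := by
  have hAtop : A ≠ ⊤ := hA.2.1
  have hsolvA : Group.IsSolvable A := hG.2.2.2 A hAtop
  have hcop : (Nat.card A).Coprime (Nat.card Y) := by
    apply Nat.coprime_of_dvd
    intro r hr hrA hrY
    exact hY r hr hrY hrA
  apply Subgroup.card_eq_one.mp
  by_contra h1
  obtain ⟨q, hq, hqd⟩ := Nat.exists_prime_and_dvd h1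
  haveI : Fact q.Prime := ⟨hq⟩
  obtain ⟨Q, hQY, hQcard, hAQ⟩ :=
    Helper52.exists_invariant_sylow A Y hAY hcop (Or.inl hsolvA) q
  have hQq : IsPGroup q Q := Helper15.BGU.isPGroup_of_card_sylCard q hQcard
  have hQbot := inv_q_eq_bot hG hM hA hZ hAF hπ hsn q (hY q hq hqd) Q hQq hAQ
  rw [hQbot, Subgroup.card_bot, Helper52.sylCard] at hQcard
  have h2 : (Nat.card Y).factorization q = 0 := by
    by_contra h0
    have : q ∣ q ^ (Nat.card Y).factorization q := dvd_pow_self q h0
    rw [← hQcard] at this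
    exact hq.one_lt.ne' (Nat.dvd_one.mp this)
  have h3 : 0 < (Nat.card Y).factorization q :=
    hq.factorization_pos_of_dvd Nat.card_pos.ne' hqd
  omega

end Cfsg.Agent.Helper96.BGU
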