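import Mathlib
import Cfsg.Agent.Lib.Helper96.BGU5

/-!
# Bender–Glauberman Theorem 8.1 (b) (helper96)
-/

set_option autoImplicit false
set_option linter.unusedSectionVars false
set_option linter.unusedVariables false
set_option linter.style.haveILetI false

namespace Cfsg.Agent.Helper96.BGU

open Cfsg Subgroup

variable {G : Type*} [Group G]

theorem le_centralizer_of_disjoint_of_normalize {H K : Subgroup G}
    (hHK : H ≤ normalizer (K : Set G)) (hKH : K ≤ normalizer (H : Set G)) (hd : H ⊓ K = ⊥) :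
    H ≤ centralizer (K : Set G) := by
  intro h hh
  rw [mem_centralizer_iff]
  intro k hk
  have h1 : h * k * h⁻¹ * k⁻¹ ∈ H ⊓ K := by
    refine mem_inf.mpr ⟨?_, ?_⟩
    · have : k * h⁻¹ * k⁻¹ ∈ H := (mem_normalizer_iff.mp (hKH hk) h⁻¹).mp (H.inv_mem hh)
      have e : h * k * h⁻¹ * k⁻¹ = h * (k * h⁻¹ * k⁻¹) := by group
      rw [e]; exact H.mul_mem hh this
    · have : h * k * h⁻¹ ∈ K := (mem_normalizer_iff.mp (hHK hh) k).mp hk
      exact K.mul_mem this (K.inv_mem hk)
  rw [hd, mem_bot] at h1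
  calc k * h = (h * k * h⁻¹ * k⁻¹)⁻¹ * (h * k) := by group
    _ = h * k := by rw [h1]; simp

theorem p_dvd_card_of_isPGroup_ne_bot [Finite G] {p : ℕ} [hp : Fact p.Prime] {R : Subgroup G}
    (hR : IsPGroup p R) (h1 : R ≠ ⊥) : p ∣ Nat.card R := by
  obtain ⟨n, hn⟩ := IsPGroup.iff_card.mp hR
  have hn0 : n ≠ 0 := by
    rintro rfl
    rw [pow_zero] at hn
    exact h1 (Subgroup.card_eq_one.mp hn)
  rw [hn]; exact dvd_pow_self p hn0

/-- if `F(M)` is a nontrivial `p`-group then `O_{p'}(M) = 1`. -/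
theorem coreIn_eq_bot_of_fitting_pgroup [Finite G] (hG : IsMinSimpleOddOrder G) {M : Subgroup G}
    (hM : IsCoatom M) (p : ℕ) [hp : Fact p.Prime] (hF1 : fittingOf M ≠ ⊥)
    (hFp : IsPGroup p (fittingOf M)) : Helper15.BGU.coreIn p M = ⊥ := by
  set F := fittingOf M with hF
  set K := Helper15.BGU.coreIn p M with hK
  obtain ⟨hNF, hCF⟩ := fitting_facts hG hM hF1
  have hKM : K ≤ M := Helper15.BGU.coreIn_le p M
  have hFM : F ≤ M := Helper54.BenderLocal.fittingOf_le M
  have hMK : M ≤ normalizer (K : Set G) := Helper15.BGU.le_normalizer_coreIn p M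
  have hMF : M ≤ normalizer (F : Set G) := Helper54.BenderLocal.le_normalizer_fittingOf M
  have hcop : (Nat.card K).Coprime (Nat.card F) := by
    obtain ⟨n, hn⟩ := IsPGroup.iff_card.mp hFp
    rw [hn]
    exact Nat.Coprime.pow_right n (Helper15.BGU.coreIn_coprime p M)
  have hd : K ⊓ F = ⊥ := (Subgroup.disjoint_of_coprime_natCard hcop).eq_bot
  have h1 : K ≤ centralizer (F : Set G) :=
    le_centralizer_of_disjoint_of_normalize (hKM.trans hMF) (hFM.trans hMK) hd
  have h2 : K ≤ K ⊓ F := le_inf le_rfl (h1.trans hCF)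
  rw [hd] at h2
  exact le_bot_iff.mp h2

/-- if `O_{p'}(M) = 1` then `O_{p',p}(M) ≤ F(M)`. -/
theorem ppIn_le_fittingOf [Finite G] {M : Subgroup G} (p : ℕ) [hp : Fact p.Prime]
    (hbot : Helper15.BGU.coreIn p M = ⊥) : Helper15.BGU.ppIn p M ≤ fittingOf M := by
  have h0 : pPrimeCore p ↥M = ⊥ := (Helper15.BGU.coreIn_eq_bot_iff p M).mp hbot
  have hn : (pPrimePCore p ↥M).Normal := Helper15.BGU.pPrimePCore_normal_h15 p
  have hpg : IsPGroup p (pPrimePCore p ↥M) := by
    unfold pPrimePCore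
    apply IsPGroup.comap_of_ker_isPGroup
    · exact Helper22.isPGroup_pCore p
    · rw [QuotientGroup.ker_mk', h0]
      exact IsPGroup.of_bot
  have hle : pPrimePCore p ↥M ≤ fittingSubgroup ↥M := Helper22.le_fittingSubgroup hn hpg.isNilpotent
  exact Subgroup.map_mono hle


/-- **BG Theorem 8.1 (b).** -/
theorem bg81b [Finite G] (hG : IsMinSimpleOddOrder G) (M : Subgroup G) (hM : IsCoatom M)
    (p : ℕ) [hp : Fact p.Prime] (A₀ : Subgroup G) (hA₀ : A₀ ≤ fittingOf M)
    (hA₀e : IsElementaryAbelian p A₀) (hA₀3 : p ^ 3 ≤ Nat.card A₀)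
    (hFp : IsPGroup p (fittingOf M)) (P : Sylow p M) :
    ¬ p ∣ ((P : Subgroup M).map M.subtype).index ∧
      ∀ A : Subgroup G, IsSCN ((P : Subgroup M).map M.subtype) A → ¬ PRankLE p 2 ↥A →
        A ≤ fittingOf M ∧ InUniqueMaximal A := by
  have hsimp : IsSimpleGroup G := hG.2.1
  have hpp := hp.out
  set F := fittingOf M with hF
  set R := (P : Subgroup M).map M.subtype with hR
  have hMtop := hM.1
  have hsolvM : Group.IsSolvable M := hG.2.2.2 M hMtop
  have hoddM : Odd (Nat.card M) := Odd.of_dvd_nat hG.1 (Subgroup.card_subgroup_dvd_card M)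
  have hRM : R ≤ M := Subgroup.map_subtype_le _
  have hRcard : Nat.card R = Helper52.sylCard p M := Helper52.card_sylow_map p M P
  have hRp : IsPGroup p R := Helper15.BGU.isPGroup_of_card_sylCard p hRcard
  have hFM : F ≤ M := Helper54.BenderLocal.fittingOf_le M
  have hA₀1 : 1 < Nat.card A₀ :=
    lt_of_lt_of_le (Nat.one_lt_pow (by norm_num) hpp.one_lt) hA₀3
  have hA₀ne : A₀ ≠ ⊥ := by
    intro h
    rw [h, Subgroup.card_bot] at hA₀1
    omega
  have hF1 : F ≠ ⊥ := by
    intro h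
    rw [h] at hA₀
    exact hA₀ne (le_bot_iff.mp hA₀)
  have hA₀p : IsPGroup p A₀ := isPGroup_of_elemAb hA₀e
  have hpA₀ : p ∣ Nat.card A₀ := p_dvd_card_of_isPGroup_ne_bot hA₀p hA₀ne
  have hpM : p ∣ Nat.card M := hpA₀.trans (Subgroup.card_dvd_of_le (hA₀.trans hFM))
  have hpG : p ∣ Nat.card G := hpM.trans (Subgroup.card_subgroup_dvd_card M)
  have hp2 : p ≠ 2 := by
    rintro rfl
    exact (Nat.not_even_iff_odd.mpr hG.1) (even_iff_two_dvd.mpr hpG)
  have hR1 : R ≠ ⊥ := by
    intro h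
    rw [h, Subgroup.card_bot, Helper52.sylCard] at hRcard
    have h0 : (Nat.card M).factorization p ≠ 0 :=
      (hpp.factorization_pos_of_dvd Nat.card_pos.ne' hpM).ne'
    have : p ∣ p ^ (Nat.card M).factorization p := dvd_pow_self p h0
    rw [← hRcard] at this
    exact hpp.one_lt.ne' (Nat.dvd_one.mp this)
  have hRtop : R ≠ ⊤ := fun h => hMtop (top_le_iff.mp (h ▸ hRM))
  -- `O_{p'}(M) = 1`
  have hX : Helper15.BGU.coreIn p M = ⊥ := coreIn_eq_bot_of_fitting_pgroup hG hM p hF1 hFp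
  -- Puig
  have hpuig := Helper15.BGU.puig_normal p hp2 hsolvM hoddM hRM hRcard hX
  have hZ1 : Helper54.Puig.zIn R ≠ ⊥ := Helper15.BGU.zIn_ne_bot p hRp hR1
  have hZR : Helper54.Puig.zIn R ≤ R := inf_le_left.trans (Helper54.Puig.upIn_le R)
  have hZtop : Helper54.Puig.zIn R ≠ ⊤ := fun h => hRtop (top_le_iff.mp (h ▸ hZR))
  have hNZ : normalizer (Helper54.Puig.zIn R : Set G) = M :=
    eq_of_coatom_le hM hpuig (Helper54.normalizer_ne_top_of_isSimpleGroup _ hZ1 hZtop)
  have hNR : normalizer (R : Set G) ≤ M := by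
    rw [← hNZ]; exact Helper54.Puig.normalizer_le_normalizer_zIn R
  have hRG : Nat.card R = Helper52.sylCard p (⊤ : Subgroup G) := by
    apply Helper15.BGU.syl_upgrade p (M' := M) le_top
    · rw [top_inf_eq]; exact hRcard
    · exact inf_le_left.trans hNR
  have hRcardG : Nat.card R = p ^ (Nat.card G).factorization p := by
    rw [hRG, Helper52.sylCard, Subgroup.card_top]
  set PS : Sylow p G := Sylow.ofCard R hRcardG with hPS
  have hPScoe : (PS : Subgroup G) = R := Sylow.coe_ofCard R hRcardG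
  refine ⟨?_, ?_⟩
  · rw [← hPScoe]
    exact PS.not_dvd_index
  · intro A hscn hA3
    have hAc : IsMulCommutative A := scn_comm hscn
    have hAR : A ≤ R := hscn.1
    have hAp : IsPGroup p A := hRp.to_le hAR
    have hApp : A ≤ Helper15.BGU.ppIn p M :=
      Helper15.BGU.le_ppIn_of_abelian_normal p hsolvM hoddM hRM hRcard hAR hAc hscn.2.1
    have hAF : A ≤ F := hApp.trans (ppIn_le_fittingOf p hX)
    refine ⟨hAF, ?_⟩
    have hnr1 : ¬ PRankLE p 1 ↥A := by
      intro h
      apply hA3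
      intro C hC1 hC2
      exact (h C hC1 hC2).trans (Nat.pow_le_pow_right hpp.pos (by norm_num))
    have hA : TransitivityHypothesis A := by
      apply Cfsg.Agent.S1396.result hG p hpG A hAp hAc
      right
      refine ⟨PS, ?_, hnr1⟩
      rw [hPScoe]
      exact hscn
    have hAcent : A ≤ centralizer (A : Set G) :=
      Subgroup.le_centralizer_iff_isMulCommutative.mpr hAc
    have hZ : ¬ RankLE 2 ↥(A ⊓ centralizer (A : Set G)) := by
      rw [inf_of_le_left hAcent]
      intro h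
      exact hA3 (h p hpp)
    have hA1 : A ≠ ⊥ := hA.1
    have hpA : p ∣ Nat.card A := p_dvd_card_of_isPGroup_ne_bot hAp hA1
    have hπ : ∀ r : ℕ, r.Prime → r ∣ Nat.card F → r ∣ Nat.card A := by
      intro r hr hrd
      obtain ⟨n, hn⟩ := IsPGroup.iff_card.mp hFp
      rw [hn] at hrd
      have : r = p := (Nat.prime_dvd_prime_iff_eq hr hpp).mp (hr.dvd_of_dvd_pow hrd)
      rw [this]; exact hpA
    have hsn : (A.subgroupOf F).IsSubnormal :=
      isSubnormal_subgroupOf_of_isNilpotent A F hFp.isNilpotent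
    have hAM : A ≤ M := hAF.trans hFM
    have c : Helper15.BGU.Ctx G p M A :=
      { hG := hG
        hM := hM
        hBM := hAM
        hB1 := hA1
        hBp := hAp
        hb := by
          intro Y hY hAY
          have hYbot : Y = ⊥ := by
            apply inv_eq_bot hG hM hA hZ hAF hπ hsn Y ?_ hAY
            intro r hr hrY hrA
            obtain ⟨n, hn⟩ := IsPGroup.iff_card.mp hAp
            rw [hn] at hrA
            have hrp : r = p := (Nat.prime_dvd_prime_iff_eq hr hpp).mp (hr.dvd_of_dvd_pow hrA)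
            rw [hrp] at hrY
            have := Nat.Coprime.eq_one_of_dvd hY.symm hrY
            exact hpp.one_lt.ne' this
          rw [hYbot]; exact bot_le }
    exact inUniqueMaximal_of_forall_le hM hAM (fun L hL hAL => (c.unique hL hAL).le)

end Cfsg.Agent.Helper96.BGU
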