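import Mathlib
import Cfsg.Agent.Lib.Helper96.BGU6

/-!
# Bender–Glauberman Theorem 8.1 (a) (helper96)
-/

set_option autoImplicit false
set_option linter.unusedSectionVars false
set_option linter.unusedVariables false
set_option linter.style.haveILetI false

namespace Cfsg.Agent.Helper96.BGU

open Cfsg Subgroup

variable {G : Type*} [Group G]

/-- a coprime-invariant subgroup all of whose invariant Sylow subgroups lie in `K` lies in `K` -/
theorem le_of_invariant_sylows [Finite G] (A Y K : Subgroup G) (hAY : A ≤ normalizer (Y : Set G))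
    (hcop : (Nat.card A).Coprime (Nat.card Y)) (hsolv : Group.IsSolvable A)
    (h : ∀ q : ℕ, q.Prime → q ∣ Nat.card Y → ∀ Q : Subgroup G, Q ≤ Y → IsPGroup q Q →
      A ≤ normalizer (Q : Set G) → Q ≤ K) : Y ≤ K := by
  have hdvd : Nat.card Y ∣ Nat.card (Y ⊓ K : Subgroup G) := by
    rw [← Nat.factorization_prime_le_iff_dvd Nat.card_pos.ne' Nat.card_pos.ne']
    intro q hq
    haveI : Fact q.Prime := ⟨hq⟩
    obtain ⟨Q, hQY, hQcard, hAQ⟩ := Helper52.exists_invariant_sylow A Y hAY hcop (Or.inl hsolv) q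
    by_cases hqd : q ∣ Nat.card Y
    · have hQq : IsPGroup q Q := Helper15.BGU.isPGroup_of_card_sylCard q hQcard
      have hQK := h q hq hqd Q hQY hQq hAQ
      have h1 : Nat.card Q ∣ Nat.card (Y ⊓ K : Subgroup G) :=
        Subgroup.card_dvd_of_le (le_inf hQY hQK)
      rw [hQcard, Helper52.sylCard] at h1
      exact (hq.pow_dvd_iff_le_factorization Nat.card_pos.ne').1 h1
    · rw [Nat.factorization_eq_zero_of_not_dvd hqd]
      exact Nat.zero_le _
  have hle : Nat.card Y ≤ Nat.card (Y ⊓ K : Subgroup G) := Nat.le_of_dvd Nat.card_pos hdvd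
  have heq : Y ⊓ K = Y := Subgroup.eq_of_le_of_card_ge inf_le_left hle
  rw [← heq]
  exact inf_le_right

/-- a maximal subgroup of a minimal simple group whose order has two prime divisors is not
properly contained in a local subgroup -/
theorem local_max_of_coatom [Finite G] (hG : IsMinSimpleOddOrder G) {M : Subgroup G}
    (hM : IsCoatom M) {p t : ℕ} (hp : p.Prime) (ht : t.Prime) (hpt : p ≠ t)
    (hpG : p ∣ Nat.card G) (htG : t ∣ Nat.card G) :
    ∀ L : Subgroup G, IsLocalSubgroup L → M ≤ L → L = M := by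
  have hsimp : IsSimpleGroup G := hG.2.1
  rintro L ⟨r, T, hr, hTr, hT1, rfl⟩ hML
  haveI : Fact r.Prime := ⟨hr⟩
  have hTtop : T ≠ ⊤ := by
    rintro rfl
    obtain ⟨n, hn⟩ := IsPGroup.iff_card.mp hTr
    rw [Subgroup.card_top] at hn
    rw [hn] at hpG htG
    have h1 : p = r := (Nat.prime_dvd_prime_iff_eq hp hr).mp (hp.dvd_of_dvd_pow hpG)
    have h2 : t = r := (Nat.prime_dvd_prime_iff_eq ht hr).mp (ht.dvd_of_dvd_pow htG)
    exact hpt (h1.trans h2.symm)
  exact eq_of_coatom_le hM hML (Helper54.normalizer_ne_top_of_isSimpleGroup _ hT1 hTtop)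


/-- **BG Theorem 8.1 (a).** -/
theorem bg81a [Finite G] (hG : IsMinSimpleOddOrder G) (M : Subgroup G) (hM : IsCoatom M)
    (p : ℕ) [hp : Fact p.Prime] (A₀ : Subgroup G) (hA₀ : A₀ ≤ fittingOf M)
    (hA₀e : IsElementaryAbelian p A₀) (hA₀3 : p ^ 3 ≤ Nat.card A₀)
    (hFp : ¬ IsPGroup p (fittingOf M)) :
    InUniqueMaximal (fittingOf M ⊓ centralizer (A₀ : Set G)) := by
  have hsimp : IsSimpleGroup G := hG.2.1
  have hpp := hp.out
  set F := fittingOf M with hF
  set A := F ⊓ centralizer (A₀ : Set G) with hAdef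
  have hMtop := hM.1
  have hFM : F ≤ M := Helper54.BenderLocal.fittingOf_le M
  have hAF : A ≤ F := inf_le_left
  have hA₀A : A₀ ≤ A := le_inf hA₀ (le_centralizer_of_elemAb hA₀e)
  have hA₀1 : 1 < Nat.card A₀ :=
    lt_of_lt_of_le (Nat.one_lt_pow (by norm_num) hpp.one_lt) hA₀3
  have hA₀ne : A₀ ≠ ⊥ := by
    intro h
    rw [h, Subgroup.card_bot] at hA₀1
    omega
  have hF1 : F ≠ ⊥ := by
    intro h
    rw [h] at hA₀
    exact hA₀ne (le_bot_iff.mp hA₀)
  have hA₀p : IsPGroup p A₀ := isPGroup_of_elemAb hA₀e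
  have hpA₀ : p ∣ Nat.card A₀ := p_dvd_card_of_isPGroup_ne_bot hA₀p hA₀ne
  have hpF : p ∣ Nat.card F := hpA₀.trans (Subgroup.card_dvd_of_le hA₀)
  have hpG : p ∣ Nat.card G := hpF.trans (Subgroup.card_subgroup_dvd_card F)
  obtain ⟨t, ht, htF, htp⟩ : ∃ t : ℕ, t.Prime ∧ t ∣ Nat.card F ∧ t ≠ p := by
    by_contra hcon
    push Not at hcon
    apply hFp
    have h1 : Nat.card F = p ^ (Nat.card F).primeFactorsList.length :=
      Nat.eq_prime_pow_of_unique_prime_dvd Nat.card_pos.ne' (fun {d} hd hdvd => hcon d hd hdvd)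
    exact IsPGroup.of_card h1
  have htG : t ∣ Nat.card G := htF.trans (Subgroup.card_subgroup_dvd_card F)
  have hF2 : 2 ≤ (Nat.card F).primeFactors.card := by
    have hsub : ({p, t} : Finset ℕ) ⊆ (Nat.card F).primeFactors := by
      intro x hx
      rw [Finset.mem_insert, Finset.mem_singleton] at hx
      rcases hx with rfl | rfl
      · exact Nat.mem_primeFactors.mpr ⟨hpp, hpF, Nat.card_pos.ne'⟩
      · exact Nat.mem_primeFactors.mpr ⟨ht, htF, Nat.card_pos.ne'⟩
    have := Finset.card_le_card hsub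
    rwa [Finset.card_pair (Ne.symm htp)] at this
  have hmax := local_max_of_coatom hG hM hpp ht (Ne.symm htp) hpG htG
  obtain ⟨hNF, hCF⟩ := fitting_facts hG hM hF1
  have hCA : F ⊓ centralizer (A : Set G) ≤ A :=
    le_inf inf_le_left (inf_le_right.trans (centralizer_le hA₀A))
  have hZA : F ⊓ centralizer (F : Set G) ≤ A :=
    le_inf inf_le_left (inf_le_right.trans (centralizer_le hA₀))
  have hDA : M ⊓ centralizer (F : Set G) ≤ A :=
    fun x hx => hZA (mem_inf.mpr ⟨hCF (mem_inf.mp hx).2, (mem_inf.mp hx).2⟩)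
  have hπ : ∀ r : ℕ, r.Prime → r ∣ Nat.card F → r ∣ Nat.card A := by
    intro r hr hrF
    haveI : Fact r.Prime := ⟨hr⟩
    obtain ⟨Z, hZne, hZr, hZA', -⟩ := Helper54.BenderLocal.exists_Z M A hmax hAF hCA r hrF
    exact (p_dvd_card_of_isPGroup_ne_bot hZr hZne).trans (Subgroup.card_dvd_of_le hZA')
  have hset : primesNotDvd (Nat.card A) = primesNotDvd (Nat.card F) := by
    ext r
    constructor
    · rintro ⟨hr, hrA⟩
      exact ⟨hr, fun h => hrA (hπ r hr h)⟩
    · rintro ⟨hr, hrF⟩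
      exact ⟨hr, fun h => hrF (h.trans (Subgroup.card_dvd_of_le hAF))⟩
  have hA1 : A ≠ ⊥ := fun h => hA₀ne (le_bot_iff.mp (h ▸ hA₀A))
  have hAM : A ≤ M := hAF.trans hFM
  have hAtop : A ≠ ⊤ := fun h => hMtop (top_le_iff.mp (h ▸ hAM))
  have hsolvA : Group.IsSolvable A := hG.2.2.2 A hAtop
  have hA : TransitivityHypothesis A := by
    refine ⟨hA1, hAtop, fun X hX hAX => ?_⟩
    have hXsolv : Group.IsSolvable X := hG.2.2.2 X hX
    apply le_antisymm
    · apply sSup_le
      rintro Y ⟨hYX, hYpi, hAY⟩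
      have hcop : (Nat.card A).Coprime (Nat.card Y) :=
        (Helper54.coprime_of_isPi_primesNotDvd A Y hYpi).symm
      apply le_of_invariant_sylows A Y _ hAY hcop hsolvA
      intro q hq hqY Q hQY hQq hAQ
      haveI : Fact q.Prime := ⟨hq⟩
      have hqF : ¬ q ∣ Nat.card F := by
        have := hYpi q hq hqY
        rw [hset] at this
        exact this.2
      have := Helper54.BenderLocal.le_piCoreOf_of_invariant M A X hmax hF2 hAF hCA hXsolv
        (hAX.trans le_normalizer) (hDA.trans (hAX.trans le_normalizer)) q hqF Q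
        (hQY.trans hYX) hQq hAQ
      rw [hset]; exact this
    · apply le_sSup
      exact ⟨Helper54.piCoreOf_le _ X, Helper54.isPi_piCoreOf _ X,
        hAX.trans (Helper54.le_normalizer_piCoreOf _ X)⟩
  have hZ : ¬ RankLE 2 ↥(A ⊓ centralizer (A : Set G)) := by
    apply not_rankLE_of_elemAb hpp A₀ ?_ hA₀e ?_
    · refine le_inf hA₀A ?_
      intro a ha
      rw [mem_centralizer_iff]
      intro x hx
      have hx' : x ∈ F ⊓ centralizer (A₀ : Set G) := hx
      have := (mem_centralizer_iff.mp (mem_inf.mp hx').2) a ha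
      exact this.symm
    · calc p ^ 2 < p ^ 3 := Nat.pow_lt_pow_right hpp.one_lt (by norm_num)
        _ ≤ Nat.card A₀ := hA₀3
  have hsn := isSubnormal_subgroupOf_of_isNilpotent A F
    (Helper54.BenderLocal.isNilpotent_fittingOf M)
  have hinv : ∀ Y ∈ invSubgroups ⊤ A (primesNotDvd (Nat.card F)), Y = ⊥ := by
    rintro Y ⟨-, hYpi, hAY⟩
    apply inv_eq_bot hG hM hA hZ hAF hπ hsn Y ?_ hAY
    intro r hr hrY hrA
    exact (hYpi r hr hrY).2 (hrA.trans (Subgroup.card_dvd_of_le hAF))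
  have huniq := Cfsg.Agent.S1482.result hG M hM hF2 A hAF hZA hinv
  exact inUniqueMaximal_of_forall_le hM hAM (fun L hL hAL => (huniq L hL hAL).le)

end Cfsg.Agent.Helper96.BGU
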