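import Mathlib
import Cfsg.Prelude.Def_Solvable
import Cfsg.Agent.Lib.Helper96.Frobenius
import Cfsg.Agent.S0037

set_option autoImplicit false
set_option linter.unusedSectionVars false

namespace Cfsg.Agent.Helper96

open Pointwise
open Cfsg.Agent.S0037

variable {G : Type*} [Group G]

/-- (Adapted from helper1's proof of S0037.) If every nonidentity element of a subgroup `H₀`
lies in a conjugate of the Frobenius complement `H`, then `H₀` lies in one conjugate of `H`. -/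
theorem exists_conj_le_of_forall_conj_mem [Finite G] {H : Subgroup G}
    (hH : Cfsg.IsFrobeniusComplement H) (H₀ : Subgroup G)
    (hstep : ∀ x ∈ H₀, x ≠ 1 → ∃ g : G, g⁻¹ * x * g ∈ H) :
    ∃ g : G, H₀ ≤ MulAut.conj g • H := by
  classical
  by_cases hbot : H₀ = ⊥
  · exact ⟨1, by rw [hbot]; exact bot_le⟩
  by_contra hcon
  push Not at hcon
  have hcon' : ∀ g : G, ¬ H₀ ≤ MulAut.conj g • H := hcon
  -- a first nonidentity element
  obtain ⟨x1, hx1, hx1'⟩ : ∃ x ∈ H₀, x ≠ 1 := by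
    by_contra h
    push Not at h
    exact hbot ((Subgroup.eq_bot_iff_forall _).mpr h)
  obtain ⟨g1, hg1⟩ := hstep x1 hx1 hx1'
  have hD1bot : H₀ ⊓ MulAut.conj g1 • H ≠ ⊥ := by
    intro h
    have : x1 ∈ H₀ ⊓ MulAut.conj g1 • H := ⟨hx1, (mem_conj_smul_iff H g1 x1).mpr hg1⟩
    rw [h, Subgroup.mem_bot] at this
    exact hx1' this
  have hF1 := isFrobeniusComplement_inf hH H₀ g1 hD1bot (hcon' g1)
  set D1 : Subgroup H₀ := (H₀ ⊓ MulAut.conj g1 • H).subgroupOf H₀ with hD1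
  have hK1card := card_frobeniusKernel hF1
  have := Fintype.ofFinite H₀
  -- a nonidentity element of the first kernel
  have hidx1 : 2 ≤ D1.index := by
    have h0 : D1.index ≠ 0 := Subgroup.index_ne_zero_of_finite
    have h1 : D1.index ≠ 1 := fun h => hF1.2.1 (Subgroup.index_eq_one.mp h)
    omega
  obtain ⟨y, hyK, hy1⟩ : ∃ y : H₀, y ∈ Cfsg.frobeniusKernel D1 ∧ y ≠ 1 := by
    by_contra h
    push Not at h
    have hsub : Cfsg.frobeniusKernel D1 ⊆ {1} := fun z hz => h z hz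
    have h2 : Nat.card (Cfsg.frobeniusKernel D1) ≤ 1 := by
      have := Set.ncard_le_ncard hsub (Set.finite_singleton 1)
      rw [Set.ncard_singleton] at this
      rwa [Nat.card_coe_set_eq]
    rw [hK1card] at h2
    omega
  obtain ⟨g2, hg2⟩ := hstep (y : G) y.2 (fun h => hy1 (Subtype.ext h))
  have hD2bot : H₀ ⊓ MulAut.conj g2 • H ≠ ⊥ := by
    intro h
    have : (y : G) ∈ H₀ ⊓ MulAut.conj g2 • H := ⟨y.2, (mem_conj_smul_iff H g2 y).mpr hg2⟩
    rw [h, Subgroup.mem_bot] at this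
    exact hy1 (Subtype.ext this)
  have hF2 := isFrobeniusComplement_inf hH H₀ g2 hD2bot (hcon' g2)
  set D2 : Subgroup H₀ := (H₀ ⊓ MulAut.conj g2 • H).subgroupOf H₀ with hD2
  have hK2card := card_frobeniusKernel hF2
  have hidx2 : 2 ≤ D2.index := by
    have h0 : D2.index ≠ 0 := Subgroup.index_ne_zero_of_finite
    have h1 : D2.index ≠ 1 := fun h => hF2.2.1 (Subgroup.index_eq_one.mp h)
    omega
  -- the two kernels cover `H₀`
  have hcover : ∀ z : H₀, z ∈ Cfsg.frobeniusKernel D1 ∨ z ∈ Cfsg.frobeniusKernel D2 := by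
    intro z
    by_contra h
    push Not at h
    obtain ⟨hz1, hz2⟩ := h
    rw [not_mem_frobeniusKernel_iff] at hz1 hz2
    obtain ⟨hzne, u1, hu1⟩ := hz1
    obtain ⟨-, u2, hu2⟩ := hz2
    rw [hD1, Subgroup.mem_subgroupOf] at hu1
    rw [hD2, Subgroup.mem_subgroupOf] at hu2
    have hu1' := (mem_conj_smul_iff H g1 _).mp hu1.2
    have hu2' := (mem_conj_smul_iff H g2 _).mp hu2.2
    have hzne' : (z : G) ≠ 1 := fun h => hzne (Subtype.ext h)
    -- `(u1 g1)⁻¹ (u2 g2) ∈ H`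
    have h3 : ((u1 : G) * g1)⁻¹ * ((u2 : G) * g2) ∈ H := by
      apply inv_mul_mem_of_common hH hzne'
      · have e : ((u1 : G) * g1)⁻¹ * (z : G) * ((u1 : G) * g1) = g1⁻¹ * ((u1⁻¹ * z * u1 : H₀) : G) * g1 := by
          simp only [Subgroup.coe_mul, Subgroup.coe_inv]; group
        rw [e]; exact hu1'
      · have e : ((u2 : G) * g2)⁻¹ * (z : G) * ((u2 : G) * g2) = g2⁻¹ * ((u2⁻¹ * z * u2 : H₀) : G) * g2 := by
          simp only [Subgroup.coe_mul, Subgroup.coe_inv]; group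
        rw [e]; exact hu2'
    -- then `y` lies in an `H₀`-conjugate of `D1`
    have hy2 : y ∉ Cfsg.frobeniusKernel D1 := by
      rw [not_mem_frobeniusKernel_iff]
      refine ⟨hy1, u2⁻¹ * u1, ?_⟩
      rw [hD1, Subgroup.mem_subgroupOf]
      refine Subgroup.mem_inf.mpr ⟨SetLike.coe_mem _, (mem_conj_smul_iff H g1 _).mpr ?_⟩
      -- `g1⁻¹ (u2⁻¹ u1)⁻¹ y (u2⁻¹ u1) g1 = w⁻¹ (g2⁻¹ y g2) w` with `w = g2⁻¹ u2⁻¹ u1 g1 ∈ H`
      set w : G := ((u1 : G) * g1)⁻¹ * ((u2 : G) * g2) with hw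
      have e : g1⁻¹ * (((u2⁻¹ * u1)⁻¹ * y * (u2⁻¹ * u1) : H₀) : G) * g1 = w * (g2⁻¹ * (y : G) * g2) * w⁻¹ := by
        simp only [Subgroup.coe_mul, Subgroup.coe_inv, hw]; group
      rw [e]
      exact H.mul_mem (H.mul_mem h3 hg2) (H.inv_mem h3)
    exact hy2 hyK
  -- counting
  have hcardD1 := D1.index_mul_card
  have hcardD2 := D2.index_mul_card
  have hD1card : 2 ≤ Nat.card D1 := by
    have h0 : 0 < Nat.card D1 := Nat.card_pos
    have h1 : Nat.card D1 ≠ 1 := fun h => hF1.1 (Subgroup.card_eq_one.mp h)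
    omega
  have hD2card : 2 ≤ Nat.card D2 := by
    have h0 : 0 < Nat.card D2 := Nat.card_pos
    have h1 : Nat.card D2 ≠ 1 := fun h => hF2.1 (Subgroup.card_eq_one.mp h)
    omega
  set K1 : Finset H₀ := (Cfsg.frobeniusKernel D1).toFinset with hK1
  set K2 : Finset H₀ := (Cfsg.frobeniusKernel D2).toFinset with hK2
  have hK1c : K1.card = D1.index := by
    rw [← hK1card, hK1, Set.toFinset_card, Nat.card_eq_fintype_card]
  have hK2c : K2.card = D2.index := by
    rw [← hK2card, hK2, Set.toFinset_card, Nat.card_eq_fintype_card]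
  have hunion : K1 ∪ K2 = Finset.univ := by
    rw [Finset.eq_univ_iff_forall]
    intro z
    rw [Finset.mem_union, hK1, hK2, Set.mem_toFinset, Set.mem_toFinset]
    exact hcover z
  have hinter : 1 ≤ (K1 ∩ K2).card := by
    apply Finset.card_pos.mpr
    refine ⟨1, ?_⟩
    rw [Finset.mem_inter, hK1, hK2, Set.mem_toFinset, Set.mem_toFinset]
    exact ⟨(mem_frobeniusKernel_iff D1 1).mpr (Or.inl rfl), (mem_frobeniusKernel_iff D2 1).mpr (Or.inl rfl)⟩
  have hsum := Finset.card_union_add_card_inter K1 K2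
  rw [hunion, Finset.card_univ, ← Nat.card_eq_fintype_card, hK1c, hK2c] at hsum
  -- `h0 + 1 ≤ i1 + i2`, `2 i1 ≤ h0`, `2 i2 ≤ h0`
  have h1 : 2 * D1.index ≤ Nat.card H₀ := by
    rw [← hcardD1]; nlinarith
  have h2 : 2 * D2.index ≤ Nat.card H₀ := by
    rw [← hcardD2]; nlinarith
  omega


end Cfsg.Agent.Helper96
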