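import Mathlib
import Cfsg.Prelude.Def_Solvable
import Cfsg.Agent.Lib.Helper96.Frobenius
import Cfsg.Agent.Lib.Helper96.FrobeniusThm

set_option autoImplicit false
set_option linter.unusedSectionVars false

namespace Cfsg.Agent.Helper96

open scoped BigOperators

universe u
variable {G : Type u} [Group G]

/-- The parametrisation of the complement of the Frobenius kernel, as an equivalence. -/
noncomputable def complKernelEquiv {H : Subgroup G} (hH : Cfsg.IsFrobeniusComplement H) :
    ((G ⧸ H) × {h : H // h ≠ 1}) ≃ {x : G // x ∉ Cfsg.frobeniusKernel H} :=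
  Equiv.ofBijective (fun p => ⟨complKernelMap H p, complKernelMap_not_mem H p⟩)
    ⟨fun _ _ hpq => complKernelMap_injective hH (congrArg Subtype.val hpq),
     fun ⟨x, hx⟩ => by
      obtain ⟨p, hp⟩ := complKernelMap_surjective H x hx
      exact ⟨p, Subtype.ext hp⟩⟩

theorem complKernelEquiv_apply {H : Subgroup G} (hH : Cfsg.IsFrobeniusComplement H)
    (p : (G ⧸ H) × {h : H // h ≠ 1}) :
    ((complKernelEquiv hH p : {x : G // x ∉ Cfsg.frobeniusKernel H}) : G)
      = p.1.out * (p.2.1 : G) * (p.1.out)⁻¹ := rfl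

open Classical in
/-- Product formula over the Frobenius partition. -/
theorem frob_prod_formula [Fintype G] {H : Subgroup G} [Fintype H]
    (hH : Cfsg.IsFrobeniusComplement H) {M : Type*} [CommMonoid M] (f : G → M) :
    (∏ b ∈ Finset.univ.filter (· ∈ Cfsg.frobeniusKernel H), f b) *
      ∏ c : G ⧸ H, ∏ h : H, f (c.out * (h : G) * (c.out)⁻¹)
      = f 1 ^ H.index * ∏ b : G, f b := by
  have h1 : ∀ c : G ⧸ H, ∏ h : H, f (c.out * (h : G) * (c.out)⁻¹)
      = f 1 * ∏ h : {h : H // h ≠ 1}, f (c.out * (h.1 : G) * (c.out)⁻¹) := by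
    intro c
    rw [← Finset.mul_prod_erase Finset.univ _ (Finset.mem_univ (1 : H))]
    congr 1
    · simp
    · rw [← Finset.prod_subtype (Finset.univ.erase (1 : H)) (by simp)
        (fun h : H => f (c.out * (h : G) * (c.out)⁻¹))]
  simp_rw [h1]
  rw [Finset.prod_mul_distrib, Finset.prod_const, Finset.card_univ]
  have hidx : Fintype.card (G ⧸ H) = H.index := by
    rw [← Nat.card_eq_fintype_card]; rfl
  rw [hidx]
  have h2 : ∏ c : G ⧸ H, ∏ h : {h : H // h ≠ 1}, f (c.out * (h.1 : G) * (c.out)⁻¹)
      = ∏ b ∈ Finset.univ.filter (· ∉ Cfsg.frobeniusKernel H), f b := by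
    rw [← Fintype.prod_prod_type' (f := fun (c : G ⧸ H) (h : {h : H // h ≠ 1}) =>
      f (c.out * (h.1 : G) * (c.out)⁻¹))]
    rw [Finset.prod_subtype (p := fun x => x ∉ Cfsg.frobeniusKernel H)
      (Finset.univ.filter (· ∉ Cfsg.frobeniusKernel H)) (by simp) f]
    exact Fintype.prod_equiv (complKernelEquiv hH) _ _ (fun p => rfl)
  rw [h2, ← Finset.prod_filter_mul_prod_filter_not Finset.univ (· ∈ Cfsg.frobeniusKernel H) f]
  rw [mul_left_comm]

/-- The norm over a subgroup is invariant under that subgroup. -/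
theorem smul_norm_eq {F : Type*} [Group F] {V : Type*} [CommGroup V] [MulDistribMulAction F V]
    (C : Subgroup F) [Fintype C] (v : V) (c : F) (hc : c ∈ C) :
    c • ∏ x : C, (x : F) • v = ∏ x : C, (x : F) • v := by
  rw [Finset.smul_prod']
  refine Fintype.prod_equiv (Equiv.mulLeft (⟨c, hc⟩ : C)) _ _ ?_
  intro x
  simp [mul_smul]

/-- Abstract form: a Frobenius group acting on a finite abelian group `V` of order prime to the
index of the complement, such that neither the kernel nor the complement has nontrivial fixed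
points, forces `V` to be trivial. -/
theorem frob_action_trivial {F : Type u} [Group F] [Fintype F] {H : Subgroup F}
    (hH : Cfsg.IsFrobeniusComplement H)
    {V : Type*} [CommGroup V] [Finite V] [MulDistribMulAction F V]
    (hcop : (Nat.card V).Coprime H.index)
    (hK : ∀ v : V, (∀ k ∈ Cfsg.frobeniusKernel H, k • v = v) → v = 1)
    (hHf : ∀ v : V, (∀ h ∈ H, h • v = v) → v = 1) (v : V) : v = 1 := by
  classical
  have : Fintype H := Fintype.ofFinite H
  obtain ⟨N, hN, hNn, hNc⟩ := frobenius_kernel_normal_complement hH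
  have : Fintype N := Fintype.ofFinite N
  have hmem : ∀ x : F, x ∈ Cfsg.frobeniusKernel H ↔ x ∈ N := by
    intro x; rw [← hN]; rfl
  have hform := frob_prod_formula hH (fun b : F => b • v)
  -- the kernel part
  have hPK : ∏ b ∈ Finset.univ.filter (· ∈ Cfsg.frobeniusKernel H), b • v = 1 := by
    have e : ∏ b ∈ Finset.univ.filter (· ∈ Cfsg.frobeniusKernel H), b • v
        = ∏ b : N, (b : F) • v := by
      rw [Finset.prod_subtype (p := fun x => x ∈ N)
        (Finset.univ.filter (· ∈ Cfsg.frobeniusKernel H)) (by simp [hmem]) (fun b : F => b • v)]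
    rw [e]
    apply hK
    intro k hk
    exact smul_norm_eq N v k ((hmem k).mp hk)
  -- the full norm
  have hPF : ∏ b : F, b • v = 1 := by
    apply hK
    intro k _
    rw [Finset.smul_prod']
    refine Fintype.prod_equiv (Equiv.mulLeft k) _ _ ?_
    intro x
    simp [mul_smul]
  -- the conjugate parts
  have hT : ∀ c : F ⧸ H, ∏ h : H, (c.out * (h : F) * (c.out)⁻¹) • v = 1 := by
    intro c
    have e : ∏ h : H, (c.out * (h : F) * (c.out)⁻¹) • v
        = c.out • ∏ h : H, (h : F) • ((c.out)⁻¹ • v) := by
      rw [Finset.smul_prod']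
      apply Finset.prod_congr rfl
      intro h _
      simp [mul_smul]
    rw [e]
    have : ∏ h : H, (h : F) • ((c.out)⁻¹ • v) = 1 := by
      apply hHf
      intro h hh
      exact smul_norm_eq H _ h hh
    rw [this, smul_one]
  rw [hPK, hPF, one_mul, mul_one] at hform
  simp_rw [hT] at hform
  rw [Finset.prod_const_one, one_smul] at hform
  -- v ^ index = 1
  have h1 : orderOf v ∣ H.index := orderOf_dvd_of_pow_eq_one hform.symm
  have h2 : orderOf v ∣ Nat.card V := orderOf_dvd_natCard v
  have h3 : orderOf v = 1 := Nat.eq_one_of_dvd_coprimes hcop h2 h1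
  exact orderOf_eq_one_iff.mp h3

/-- The conjugation action of a subgroup `A` on a subgroup `V` that it normalizes. -/
@[reducible] def normalizerConjAction {G : Type*} [Group G] (A V : Subgroup G)
    (hAV : A ≤ Subgroup.normalizer (V : Set G)) : MulDistribMulAction A V where
  smul a v := ⟨(a : G) * (v : G) * (a : G)⁻¹, (Subgroup.mem_normalizer_iff.mp (hAV a.2) v).mp v.2⟩
  one_smul v := by
    apply Subtype.ext
    show ((1 : A) : G) * (v : G) * ((1 : A) : G)⁻¹ = v
    simp
  mul_smul a b v := by
    apply Subtype.ext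
    show ((a * b : A) : G) * (v : G) * ((a * b : A) : G)⁻¹
      = (a : G) * ((b : G) * (v : G) * (b : G)⁻¹) * (a : G)⁻¹
    simp only [Subgroup.coe_mul]
    group
  smul_mul a v w := by
    apply Subtype.ext
    show (a : G) * ((v * w : V) : G) * (a : G)⁻¹
      = ((a : G) * (v : G) * (a : G)⁻¹) * ((a : G) * (w : G) * (a : G)⁻¹)
    simp only [Subgroup.coe_mul]
    group
  smul_one a := by
    apply Subtype.ext
    show (a : G) * ((1 : V) : G) * (a : G)⁻¹ = ((1 : V) : G)
    simp

theorem coprime_index_card [Finite G] {H : Subgroup G} (hH : Cfsg.IsFrobeniusComplement H) :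
    Nat.Coprime H.index (Nat.card H) := by
  have h : H.index ≡ 1 [MOD Nat.card H] := index_mod_card hH
  have := h.gcd_eq
  rw [Nat.gcd_one_left] at this
  exact this

/-- A nonidentity element whose order divides the order of a Frobenius complement `H` does not
lie in the Frobenius kernel, hence lies in a conjugate of `H`. -/
theorem exists_conj_mem_of_orderOf_dvd [Finite G] {H : Subgroup G}
    (hH : Cfsg.IsFrobeniusComplement H) (x : G) (hx1 : x ≠ 1) (hx : orderOf x ∣ Nat.card H) :
    ∃ g : G, g⁻¹ * x * g ∈ H := by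
  classical
  have := Fintype.ofFinite G
  by_contra hcon
  push Not at hcon
  have hxK : x ∈ Cfsg.frobeniusKernel H := (mem_frobeniusKernel_iff H x).mpr (Or.inr hcon)
  obtain ⟨N, hN, -, -⟩ := frobenius_kernel_normal_complement hH
  have hxN : x ∈ N := by
    have : x ∈ (N : Set G) := by rw [hN]; exact hxK
    exact this
  have hcardN : Nat.card N = H.index := by
    rw [← card_frobeniusKernel hH, ← hN]; rfl
  have h1 : orderOf x ∣ H.index := by
    rw [← hcardN]
    have := orderOf_dvd_natCard (⟨x, hxN⟩ : N)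
    rwa [Subgroup.orderOf_mk] at this
  have h2 : orderOf x = 1 := Nat.eq_one_of_dvd_coprimes (coprime_index_card hH) h1 hx
  exact hx1 (orderOf_eq_one_iff.mp h2)

end Cfsg.Agent.Helper96
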