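import Mathlib
import Cfsg.Prelude.Def_Solvable
import Cfsg.Agent.Lib.Helper96.FrobeniusAct
import Cfsg.Agent.Lib.Helper96.FrobConj

set_option autoImplicit false
set_option linter.unusedSectionVars false

namespace Cfsg.Agent.Helper96

open Pointwise
open Cfsg.Agent.S0037
open scoped IsMulCommutative

universe u
variable {G : Type u} [Group G]

/-- A conjugate of a Frobenius complement is a Frobenius complement. -/
theorem isFrobeniusComplement_conj {H : Subgroup G} (hH : Cfsg.IsFrobeniusComplement H) (g : G) :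
    Cfsg.IsFrobeniusComplement (MulAut.conj g • H) := by
  refine ⟨?_, ?_, ?_⟩
  · intro h
    apply hH.1
    rw [Subgroup.eq_bot_iff_forall]
    intro x hx
    have h1 := conj_mem_conj_smul H g x hx
    rw [h, Subgroup.mem_bot] at h1
    have : x = g⁻¹ * (g * x * g⁻¹) * g := by group
    rw [this, h1]; group
  · intro h
    apply hH.2.1
    rw [Subgroup.eq_top_iff']
    intro x
    have h1 : g * x * g⁻¹ ∈ MulAut.conj g • H := by rw [h]; exact Subgroup.mem_top _
    rw [mem_conj_smul_iff] at h1
    have : g⁻¹ * (g * x * g⁻¹) * g = x := by group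
    rwa [this] at h1
  · intro x hx
    rw [Subgroup.eq_bot_iff_forall]
    intro y hy
    by_contra hy1
    obtain ⟨hy2, hy3⟩ := Subgroup.mem_inf.mp hy
    rw [mem_conj_smul_iff] at hy2 hy3
    rw [mem_conj_smul_iff] at hy3
    apply hx
    rw [mem_conj_smul_iff]
    have h3 : g⁻¹ * (x * g) ∈ H := by
      apply inv_mul_mem_of_common hH hy1 hy2
      have e : (x * g)⁻¹ * y * (x * g) = g⁻¹ * (x⁻¹ * y * x) * g := by group
      rw [e]; exact hy3
    have e : g⁻¹ * x * g = g⁻¹ * (x * g) := by group
    rw [e]; exact h3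

/-- A nonidentity element of a Frobenius complement fixes no nonidentity element of the kernel. -/
theorem frob_kernel_fixed_eq_one {H : Subgroup G} (hH : Cfsg.IsFrobeniusComplement H) {k v : G}
    (hk : k ∈ H) (hk1 : k ≠ 1) (hv : v ∈ Cfsg.frobeniusKernel H) (hcomm : k * v * k⁻¹ = v) :
    v = 1 := by
  by_contra hv1
  rcases (mem_frobeniusKernel_iff H v).mp hv with h | h
  · exact hv1 h
  · have hvH : v ∈ H := by
      apply frob_mem_of_conj_mem hH hk hk1
      have e : v⁻¹ * k * v = v⁻¹ * (k * v * k⁻¹) * k := by group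
      rw [e, hcomm]
      simpa using hk
    apply h 1
    simpa using hvH

/-- A Frobenius complement of `G` properly contained in a subgroup `H` is a Frobenius complement
of `H`. -/
theorem isFrobeniusComplement_subgroupOf {H₁ H : Subgroup G}
    (hH₁ : Cfsg.IsFrobeniusComplement H₁) (hle : H₁ ≤ H) (hne : H₁ ≠ H) :
    Cfsg.IsFrobeniusComplement (H₁.subgroupOf H) := by
  refine ⟨?_, ?_, ?_⟩
  · intro h
    rw [Subgroup.subgroupOf_eq_bot] at h
    apply hH₁.1
    have := h.eq_bot
    rwa [inf_eq_left.mpr hle] at this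
  · intro h
    rw [Subgroup.subgroupOf_eq_top] at h
    exact hne (le_antisymm hle h)
  · intro u hu
    rw [Subgroup.eq_bot_iff_forall]
    intro z hz
    by_contra hz1
    obtain ⟨hz2, hz3⟩ := Subgroup.mem_inf.mp hz
    rw [Subgroup.mem_subgroupOf] at hz2
    rw [mem_conj_smul_iff, Subgroup.mem_subgroupOf] at hz3
    apply hu
    rw [Subgroup.mem_subgroupOf]
    apply frob_mem_of_conj_mem hH₁ hz2 (fun h => hz1 (Subtype.ext h))
    simpa using hz3

theorem card_conj_smul (H : Subgroup G) (g : G) :
    Nat.card (MulAut.conj g • H : Subgroup G) = Nat.card H :=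
  Nat.card_congr (Subgroup.equivSMul (MulAut.conj g) H).toEquiv.symm

/-- For each prime `p` dividing the index of a Frobenius complement `H`, there is a nontrivial
`p`-subgroup contained in the Frobenius kernel and normalized by `H`. -/
theorem exists_invariant_pSubgroup [Finite G] {H : Subgroup G}
    (hH : Cfsg.IsFrobeniusComplement H) (p : ℕ) [Fact p.Prime] (hp : p ∣ H.index) :
    ∃ Q : Subgroup G, (Q : Set G) ⊆ Cfsg.frobeniusKernel H ∧ IsPGroup p Q ∧ Q ≠ ⊥ ∧
      H ≤ Subgroup.normalizer (Q : Set G) := by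
  classical
  have := Fintype.ofFinite G
  obtain ⟨N, hN, hNn, hNc⟩ := frobenius_kernel_normal_complement hH
  have hcardN : Nat.card N = H.index := by
    rw [← card_frobeniusKernel hH, ← hN]; rfl
  have hidxN : N.index = Nat.card H := hNc.symm.index_eq_card
  obtain ⟨P⟩ : Nonempty (Sylow p N) := Sylow.nonempty
  set P₀ : Subgroup G := (P : Subgroup N).map N.subtype with hP₀
  have hfrat : Subgroup.normalizer (P₀ : Set G) ⊔ N = ⊤ := Sylow.normalizer_sup_eq_top P
  set M : Subgroup G := Subgroup.normalizer (P₀ : Set G) with hM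
  -- index of `N ∩ M` in `M`
  have hidx : (N.subgroupOf M).index = Nat.card H := by
    have h1 : N.relIndex (M ⊔ N) = N.relIndex M := Subgroup.relIndex_sup_right M N
    rw [hfrat, Subgroup.relIndex_top_right, hidxN] at h1
    exact h1.symm
  have hcardNM : Nat.card (N.subgroupOf M) ∣ Nat.card N := by
    apply Subgroup.card_dvd_of_injective
      (MonoidHom.codRestrict ((M.subtype).comp (N.subgroupOf M).subtype) N
        (fun x => Subgroup.mem_subgroupOf.mp x.2))
    intro x y hxy
    have h1 : ((x : M) : G) = ((y : M) : G) := congrArg (fun t : N => (t : G)) hxy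
    exact Subtype.ext (Subtype.ext h1)
  have hcop : Nat.Coprime (Nat.card (N.subgroupOf M)) (N.subgroupOf M).index := by
    rw [hidx]
    apply Nat.Coprime.coprime_dvd_left hcardNM
    rw [hcardN]
    exact coprime_index_card hH
  obtain ⟨C', hC'⟩ := Subgroup.exists_right_complement'_of_coprime hcop
  set C : Subgroup G := C'.map M.subtype with hC
  have hcardC : Nat.card C = Nat.card H := by
    rw [hC, Subgroup.card_map_of_injective M.subtype_injective, ← hidx]
    exact hC'.symm.index_eq_card.symm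
  obtain ⟨g, hg⟩ := exists_conj_le_of_forall_conj_mem hH C (by
    intro x hx hx1
    apply exists_conj_mem_of_orderOf_dvd hH x hx1
    rw [← hcardC]
    have := orderOf_dvd_natCard (⟨x, hx⟩ : C)
    rwa [Subgroup.orderOf_mk] at this)
  have hCeq : C = MulAut.conj g • H :=
    Subgroup.eq_of_le_of_card_ge hg (by rw [card_conj_smul, hcardC])
  have hHM : MulAut.conj g • H ≤ M := by
    rw [← hCeq, hC]
    exact Subgroup.map_subtype_le C'
  have hP₀N : P₀ ≤ N := Subgroup.map_subtype_le _
  refine ⟨MulAut.conj g⁻¹ • P₀, ?_, ?_, ?_, ?_⟩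
  · intro y hy
    rw [SetLike.mem_coe, mem_conj_smul_iff, inv_inv] at hy
    have h1 : g * y * g⁻¹ ∈ N := hP₀N hy
    have h2 : y ∈ N := by
      have := hNn.conj_mem _ h1 g⁻¹
      have e : g⁻¹ * (g * y * g⁻¹) * g⁻¹⁻¹ = y := by group
      rwa [e] at this
    rw [← hN]; exact h2
  · rw [Subgroup.pointwise_smul_def]
    apply IsPGroup.map
    rw [hP₀]
    exact P.2.map _
  · intro h
    have h1 : Nat.card (MulAut.conj g⁻¹ • P₀ : Subgroup G) = 1 := by rw [h]; exact Subgroup.card_bot
    rw [card_conj_smul, hP₀, Subgroup.card_map_of_injective N.subtype_injective] at h1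
    have h2 : (P : Subgroup N) ≠ ⊥ := P.ne_bot_of_dvd_card (by rw [hcardN]; exact hp)
    exact h2 (Subgroup.card_eq_one.mp h1)
  · intro h hh
    have h1 : g * h * g⁻¹ ∈ M := hHM (conj_mem_conj_smul H g h hh)
    rw [hM, Subgroup.mem_normalizer_iff] at h1
    rw [Subgroup.mem_normalizer_iff]
    intro z
    rw [mem_conj_smul_iff, mem_conj_smul_iff, inv_inv]
    have := h1 (g * z * g⁻¹)
    have e : g * h * g⁻¹ * (g * z * g⁻¹) * (g * h * g⁻¹)⁻¹ = g * (h * z * h⁻¹) * g⁻¹ := by group
    rw [e] at this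
    exact this

theorem exists_ne_one_mem_frobeniusKernel [Finite G] {H : Subgroup G}
    (hH : Cfsg.IsFrobeniusComplement H) : ∃ y : G, y ∈ Cfsg.frobeniusKernel H ∧ y ≠ 1 := by
  by_contra h
  push Not at h
  have hsub : Cfsg.frobeniusKernel H ⊆ {1} := fun z hz => h z hz
  have h2 : Nat.card (Cfsg.frobeniusKernel H) ≤ 1 := by
    have := Set.ncard_le_ncard hsub (Set.finite_singleton 1)
    rw [Set.ncard_singleton] at this
    rwa [Nat.card_coe_set_eq]
  rw [card_frobeniusKernel hH] at h2
  have h0 : H.index ≠ 0 := Subgroup.index_ne_zero_of_finite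
  have h1 : H.index ≠ 1 := fun h => hH.2.1 (Subgroup.index_eq_one.mp h)
  omega

/-- A Frobenius complement is not itself a Frobenius group. -/
theorem not_isFrobeniusComplement_of_isFrobeniusComplement [Finite G] {H : Subgroup G}
    (hH : Cfsg.IsFrobeniusComplement H) (D : Subgroup H) : ¬ Cfsg.IsFrobeniusComplement D := by
  classical
  intro hD
  have hidx1 : H.index ≠ 1 := fun h => hH.2.1 (Subgroup.index_eq_one.mp h)
  have hp : Fact (Nat.minFac H.index).Prime := ⟨Nat.minFac_prime hidx1⟩
  set p := Nat.minFac H.index with hpdef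
  obtain ⟨Q, hQK, hQp, hQ1, hHQ⟩ := exists_invariant_pSubgroup hH p (Nat.minFac_dvd _)
  set V : Subgroup G := Q ⊓ Subgroup.centralizer (Q : Set G) with hV
  have hVQ : V ≤ Q := inf_le_left
  have hVcomm : IsMulCommutative V := by
    refine ⟨⟨fun a b => ?_⟩⟩
    apply Subtype.ext
    have ha : (a : G) ∈ Subgroup.centralizer (Q : Set G) := (Subgroup.mem_inf.mp a.2).2
    have hb : (b : G) ∈ Q := (Subgroup.mem_inf.mp b.2).1
    rw [Subgroup.mem_centralizer_iff] at ha
    exact (ha (b : G) hb).symm
  have hV1 : V ≠ ⊥ := by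
    have hQnt : Nontrivial Q := (Subgroup.nontrivial_iff_ne_bot Q).mpr hQ1
    have hcnt : Nontrivial (Subgroup.center Q) := hQp.center_nontrivial
    obtain ⟨z, hz⟩ := exists_ne (1 : Subgroup.center Q)
    intro hbot
    have hzV : ((z : Q) : G) ∈ V := by
      refine Subgroup.mem_inf.mpr ⟨(z : Q).2, ?_⟩
      rw [Subgroup.mem_centralizer_iff]
      intro y hy
      have := Subgroup.mem_center_iff.mp z.2 ⟨y, hy⟩
      exact congrArg Subtype.val this
    rw [hbot, Subgroup.mem_bot] at hzV
    apply hz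
    apply Subtype.ext
    apply Subtype.ext
    exact hzV
  have hHV : H ≤ Subgroup.normalizer (V : Set G) := by
    have key : ∀ h : G, h ∈ Subgroup.normalizer (Q : Set G) → ∀ v ∈ V, h * v * h⁻¹ ∈ V := by
      intro h hh v hv
      obtain ⟨hv1, hv2⟩ := Subgroup.mem_inf.mp hv
      have hh' := Subgroup.mem_normalizer_iff.mp hh
      refine Subgroup.mem_inf.mpr ⟨(hh' v).mp hv1, ?_⟩
      rw [Subgroup.mem_centralizer_iff]
      intro y hy
      have hy' : h⁻¹ * y * h ∈ Q := by
        rw [hh' (h⁻¹ * y * h)]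
        have e : h * (h⁻¹ * y * h) * h⁻¹ = y := by group
        rw [e]; exact hy
      rw [Subgroup.mem_centralizer_iff] at hv2
      have hc := hv2 _ hy'
      calc y * (h * v * h⁻¹) = h * ((h⁻¹ * y * h) * v) * h⁻¹ := by group
        _ = h * (v * (h⁻¹ * y * h)) * h⁻¹ := by rw [hc]
        _ = h * v * h⁻¹ * y := by group
    intro h hh
    have hhQ := hHQ hh
    rw [Subgroup.mem_normalizer_iff]
    intro v
    constructor
    · exact key h hhQ v
    · intro hv
      have := key h⁻¹ ((Subgroup.normalizer (Q : Set G)).inv_mem hhQ) _ hv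
      have e : h⁻¹ * (h * v * h⁻¹) * h⁻¹⁻¹ = v := by group
      rwa [e] at this
  have hVK : ∀ v : V, (v : G) ∈ Cfsg.frobeniusKernel H := fun v => hQK (hVQ v.2)
  let act : MulDistribMulAction H V := normalizerConjAction H V hHV
  have hsmul : ∀ (a : H) (v : V), ((a • v : V) : G) = (a : G) * (v : G) * (a : G)⁻¹ :=
    fun _ _ => rfl
  have := Fintype.ofFinite H
  have hcop : (Nat.card V).Coprime D.index := by
    obtain ⟨k, hk⟩ := (hQp.to_le hVQ).exists_card_eq
    rw [hk]
    apply Nat.Coprime.pow_left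
    have h1 : Nat.Coprime p (Nat.card H) :=
      Nat.Coprime.coprime_dvd_left (Nat.minFac_dvd _) (coprime_index_card hH)
    exact Nat.Coprime.coprime_dvd_right D.index_dvd_card h1
  have key : ∀ v : V, v = 1 := by
    refine frob_action_trivial hD (V := V) hcop ?_ ?_
    · intro v hv
      obtain ⟨k, hkK, hk1⟩ := exists_ne_one_mem_frobeniusKernel hD
      have h1 := hv k hkK
      have h2 : (k : G) * (v : G) * (k : G)⁻¹ = (v : G) := by rw [← hsmul, h1]
      exact Subtype.ext (frob_kernel_fixed_eq_one hH k.2 (fun h => hk1 (Subtype.ext h)) (hVK v) h2)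
    · intro v hv
      obtain ⟨k, hkD, hk1⟩ : ∃ k ∈ D, k ≠ 1 := by
        by_contra h
        push Not at h
        exact hD.1 ((Subgroup.eq_bot_iff_forall _).mpr h)
      have h1 := hv k hkD
      have h2 : (k : G) * (v : G) * (k : G)⁻¹ = (v : G) := by rw [← hsmul, h1]
      exact Subtype.ext (frob_kernel_fixed_eq_one hH k.2 (fun h => hk1 (Subtype.ext h)) (hVK v) h2)
  apply hV1
  rw [Subgroup.eq_bot_iff_forall]
  intro x hx
  exact congrArg Subtype.val (key ⟨x, hx⟩)

/-- Two Frobenius complements of a finite group, one inside the other, coincide. -/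
theorem frobeniusComplement_eq_of_le [Finite G] {H₁ H : Subgroup G}
    (hH₁ : Cfsg.IsFrobeniusComplement H₁) (hH : Cfsg.IsFrobeniusComplement H) (hle : H₁ ≤ H) :
    H₁ = H := by
  by_contra hne
  exact not_isFrobeniusComplement_of_isFrobeniusComplement hH _
    (isFrobeniusComplement_subgroupOf hH₁ hle hne)

end Cfsg.Agent.Helper96
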