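import Mathlib
import Cfsg.Prelude.Def_Solvable
import Cfsg.Prelude.Def_LieExceptional
import Cfsg.Agent.Lib.Helper96.FrobCompl
import Cfsg.Agent.S3383
import Cfsg.Agent.S4252

set_option autoImplicit false
set_option linter.unusedSectionVars false

namespace Cfsg.Agent.Helper96

open Pointwise

/-- Frobenius' theorem for permutation groups: a finite transitive, non-regular group in which
only the identity fixes two points has a regular normal subgroup consisting of the identity and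
the fixed-point-free elements. -/
theorem perm_frobenius {G Ω : Type*} [Group G] [Finite G] [Fintype Ω] [MulAction G Ω]
    (hΩ : 1 < Fintype.card Ω)
    (htrans : ∀ α β : Ω, ∃ g : G, g • α = β) (hnreg : ∃ g : G, g ≠ 1 ∧ ∃ α : Ω, g • α = α)
    (hfix : ∀ g : G, g ≠ 1 → ∀ α β : Ω, g • α = α → g • β = β → α = β) :
    ∃ M : Subgroup G, M.Normal ∧ (∀ g, g ∈ M ↔ g = 1 ∨ ∀ ω : Ω, g • ω ≠ ω) ∧
      (∀ α β : Ω, ∃ m ∈ M, m • α = β) ∧
      ∀ α : Ω, Cfsg.IsFrobeniusComplement (MulAction.stabilizer G α) ∧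
        (M : Set G) = Cfsg.frobeniusKernel (MulAction.stabilizer G α) ∧
        Subgroup.IsComplement' M (MulAction.stabilizer G α) := by
  classical
  have := Fintype.ofFinite G
  obtain ⟨a, b, hab⟩ := Fintype.exists_pair_of_one_lt_card hΩ
  obtain ⟨hFa, hKa⟩ := Cfsg.Agent.S4252.result hΩ htrans hnreg hfix a
  obtain ⟨M, hM, hMn, hMc⟩ := frobenius_kernel_normal_complement hFa
  have hmem : ∀ g, g ∈ M ↔ g = 1 ∨ ∀ ω : Ω, g • ω ≠ ω := by
    intro g
    have : g ∈ (M : Set G) ↔ g ∈ {g : G | g = 1 ∨ ∀ ω : Ω, g • ω ≠ ω} := by rw [hM, hKa]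
    exact this
  have hpt : MulAction.IsPretransitive G Ω := ⟨htrans⟩
  have hcard : Nat.card M = Fintype.card Ω := by
    have h1 : Nat.card M = (MulAction.stabilizer G a).index := by
      rw [← card_frobeniusKernel hFa, ← hM]; rfl
    rw [h1, MulAction.index_stabilizer_of_transitive, Nat.card_eq_fintype_card]
  have htransM : ∀ α β : Ω, ∃ m ∈ M, m • α = β := by
    intro α β
    have hinj : Function.Injective (fun m : M => (m : G) • α) := by
      intro m₁ m₂ h
      have h' : (m₁ : G) • α = (m₂ : G) • α := h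
      have h1 : ((m₂ : G)⁻¹ * (m₁ : G)) • α = α := by
        rw [mul_smul, h', inv_smul_smul]
      have h2 : (m₂ : G)⁻¹ * (m₁ : G) ∈ M := M.mul_mem (M.inv_mem m₂.2) m₁.2
      rcases (hmem _).mp h2 with h3 | h3
      · apply Subtype.ext
        calc (m₁ : G) = (m₂ : G) * ((m₂ : G)⁻¹ * (m₁ : G)) := by group
          _ = m₂ := by rw [h3, mul_one]
      · exact absurd h1 (h3 α)
    have hbij : Function.Bijective (fun m : M => (m : G) • α) := by
      have := Fintype.ofFinite M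
      rw [Fintype.bijective_iff_injective_and_card]
      refine ⟨hinj, ?_⟩
      rw [← Nat.card_eq_fintype_card, hcard]
    obtain ⟨m, hm⟩ := hbij.2 β
    exact ⟨m, m.2, hm⟩
  refine ⟨M, hMn, hmem, htransM, ?_⟩
  intro α
  obtain ⟨hFα, hKα⟩ := Cfsg.Agent.S4252.result hΩ htrans hnreg hfix α
  have hMα : (M : Set G) = Cfsg.frobeniusKernel (MulAction.stabilizer G α) := by
    rw [hKα, hM, hKa]
  refine ⟨hFα, hMα, ?_⟩
  apply Subgroup.isComplement'_of_card_mul_and_disjoint
  · have h1 : Nat.card M = (MulAction.stabilizer G α).index := by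
      rw [← card_frobeniusKernel hFα, ← hMα]; rfl
    rw [h1, Subgroup.index_mul_card]
  · rw [Subgroup.disjoint_def]
    intro x hxM hxS
    rcases (hmem x).mp hxM with h | h
    · exact h
    · exact absurd (MulAction.mem_stabilizer_iff.mp hxS) (h α)

section Zass

open MulAction

variable {G Ω : Type*} [Group G] [MulAction G Ω]

/-- The identity together with the elements fixing `α` and no other point. -/
def ptKernel (G : Type*) {Ω : Type*} [Group G] [MulAction G Ω] (α : Ω) : Set G :=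
  {s | s • α = α ∧ (s = 1 ∨ ∀ x, x ≠ α → s • x ≠ x)}

theorem zass_finite [Finite Ω] (hZ : Cfsg.IsZassenhausGroup G Ω) : Finite G := by
  have := hZ.1
  exact Finite.of_injective _ (MulAction.toPerm_injective (α := G) (β := Ω))

theorem zass_two_trans (hZ : Cfsg.IsZassenhausGroup G Ω) {a b c d : Ω} (hab : a ≠ b)
    (hcd : c ≠ d) : ∃ g : G, g • a = c ∧ g • b = d :=
  (MulAction.is_two_pretransitive_iff.mp hZ.2.1) hab hcd

theorem zass_card_ge_three [Fintype Ω] (hZ : Cfsg.IsZassenhausGroup G Ω) :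
    3 ≤ Fintype.card Ω := by
  classical
  obtain ⟨hf, _, _, ⟨g, hg, a, b, hab, hga, hgb⟩, _⟩ := hZ
  have : ∃ c : Ω, g • c ≠ c := by
    by_contra hcon
    push Not at hcon
    apply hg
    apply hf.eq_of_smul_eq_smul
    intro c
    rw [hcon c, one_smul]
  obtain ⟨c, hc⟩ := this
  have hca : c ≠ a := fun h => hc (h ▸ hga)
  have hcb : c ≠ b := fun h => hc (h ▸ hgb)
  have h3 : ({a, b, c} : Finset Ω).card = 3 := by
    rw [Finset.card_insert_of_notMem, Finset.card_insert_of_notMem, Finset.card_singleton]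
    · simpa using Ne.symm hcb
    · simp only [Finset.mem_insert, Finset.mem_singleton, not_or]
      exact ⟨hab, Ne.symm hca⟩
  rw [← h3]
  exact Finset.card_le_univ _

/-- The hypotheses of `perm_frobenius` for a point stabilizer of a Zassenhaus group acting on the
remaining points. -/
theorem zass_stabilizer_hyps [Fintype Ω] (hZ : Cfsg.IsZassenhausGroup G Ω) (α : Ω) :
    (1 < Nat.card (SubMulAction.ofStabilizer G α)) ∧
    (∀ x y : SubMulAction.ofStabilizer G α, ∃ s : stabilizer G α, s • x = y) ∧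
    (∃ s : stabilizer G α, s ≠ 1 ∧ ∃ x : SubMulAction.ofStabilizer G α, s • x = x) ∧
    (∀ s : stabilizer G α, s ≠ 1 → ∀ x y : SubMulAction.ofStabilizer G α,
      s • x = x → s • y = y → x = y) := by
  classical
  have hn3 := zass_card_ge_three hZ
  have hXcard : Nat.card (SubMulAction.ofStabilizer G α) + 1 = Fintype.card Ω := by
    rw [← Nat.card_eq_fintype_card]
    exact SubMulAction.nat_card_ofStabilizer_add_one_eq G α
  have hval : ∀ (g : stabilizer G α) (c : SubMulAction.ofStabilizer G α),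
      ((g • c : SubMulAction.ofStabilizer G α) : Ω) = (g : G) • (c : Ω) := fun g c => rfl
  refine ⟨by omega, ?_, ?_, ?_⟩
  · intro x y
    obtain ⟨g, hga, hgc⟩ := zass_two_trans hZ (Ne.symm x.2) (Ne.symm y.2)
    exact ⟨⟨g, hga⟩, Subtype.ext hgc⟩
  · obtain ⟨g, hg, a, b, hab, hga, hgb⟩ := hZ.2.2.2.1
    have hX : 0 < Nat.card (SubMulAction.ofStabilizer G α) := by omega
    obtain ⟨x⟩ := (Nat.card_pos_iff.mp hX).1
    obtain ⟨h, hha, hhb⟩ := zass_two_trans hZ hab (Ne.symm x.2)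
    have hmem : h * g * h⁻¹ ∈ stabilizer G α := by
      rw [mem_stabilizer_iff, mul_smul, mul_smul, ← hha, inv_smul_smul, hga]
    refine ⟨⟨h * g * h⁻¹, hmem⟩, ?_, x, ?_⟩
    · intro h1
      have h2 : h * g * h⁻¹ = 1 := congrArg Subtype.val h1
      apply hg
      have : g = h⁻¹ * (h * g * h⁻¹) * h := by group
      rw [this, h2]; group
    · apply Subtype.ext
      rw [hval]
      show (h * g * h⁻¹) • (x : Ω) = x
      rw [mul_smul, mul_smul, ← hhb, inv_smul_smul, hgb]
  · intro s hs x y hx hy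
    by_contra hxy
    apply hs
    apply Subtype.ext
    have hxy' : (x : Ω) ≠ (y : Ω) := fun h => hxy (Subtype.ext h)
    have hx' : (s : G) • (x : Ω) = x := by rw [← hval]; exact congrArg Subtype.val hx
    have hy' : (s : G) • (y : Ω) = y := by rw [← hval]; exact congrArg Subtype.val hy
    exact hZ.2.2.1 (s : G) α x y (Ne.symm x.2) hxy' (Ne.symm y.2) s.2 hx' hy'

/-- The Frobenius kernel of a point stabilizer in a Zassenhaus group, with the properties used
later. -/
theorem zass_ptKernel [Fintype Ω] (hZ : Cfsg.IsZassenhausGroup G Ω) (α : Ω) :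
    ∃ K : Subgroup G,
      (∀ s, s ∈ K ↔ s ∈ ptKernel G α) ∧
      (∀ x y : Ω, x ≠ α → y ≠ α → ∃ k ∈ K, k • x = y) ∧
      (∀ N : Subgroup G, N.Normal → (K ≤ N) ∨ (∀ n ∈ N, n • α = α → n ∈ K)) ∧
      (∀ β : Ω, β ≠ α → ∀ s : G, s • α = α →
        ∃ k ∈ K, ∃ h : G, h • α = α ∧ h • β = β ∧ s = k * h) ∧
      (∀ β : Ω, β ≠ α → ∀ h : G, h • α = α → h • β = β →
        Nat.Coprime (orderOf h) (Fintype.card Ω - 1)) := by
  classical
  have hfin : Finite G := zass_finite hZ
  obtain ⟨h1, h2, h3, h4⟩ := zass_stabilizer_hyps hZ α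
  have hXcard : Nat.card (SubMulAction.ofStabilizer G α) + 1 = Fintype.card Ω := by
    rw [← Nat.card_eq_fintype_card]
    exact SubMulAction.nat_card_ofStabilizer_add_one_eq G α
  have : Fintype (SubMulAction.ofStabilizer G α) := Fintype.ofFinite _
  rw [Nat.card_eq_fintype_card] at h1
  obtain ⟨K', hK'n, hK'mem, hK'trans, hK'frob⟩ := perm_frobenius h1 h2 h3 h4
  have hval : ∀ (g : stabilizer G α) (c : SubMulAction.ofStabilizer G α),
      ((g • c : SubMulAction.ofStabilizer G α) : Ω) = (g : G) • (c : Ω) := fun g c => rfl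
  have hmemX : ∀ x : Ω, x ≠ α → x ∈ SubMulAction.ofStabilizer G α := fun x hx =>
    (SubMulAction.mem_ofStabilizer_iff G α).mpr hx
  have hKmem : ∀ s, s ∈ K'.map (stabilizer G α).subtype ↔ s ∈ ptKernel G α := by
    intro s
    rw [Subgroup.mem_map]
    constructor
    · rintro ⟨s', hs', rfl⟩
      refine ⟨s'.2, ?_⟩
      rcases (hK'mem s').mp hs' with h | h
      · left; rw [h]; rfl
      · right
        intro x hx hfix
        apply h ⟨x, hmemX x hx⟩
        apply Subtype.ext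
        rw [hval]
        exact hfix
    · rintro ⟨hsα, hs⟩
      refine ⟨⟨s, hsα⟩, ?_, rfl⟩
      rw [hK'mem]
      rcases hs with h | h
      · left; exact Subtype.ext h
      · right
        intro x hx
        apply h (x : Ω) x.2
        have := congrArg Subtype.val hx
        rw [hval] at this
        exact this
  refine ⟨K'.map (stabilizer G α).subtype, hKmem, ?_, ?_, ?_, ?_⟩
  · intro x y hx hy
    obtain ⟨m, hm, hmxy⟩ := hK'trans ⟨x, hmemX x hx⟩ ⟨y, hmemX y hy⟩
    refine ⟨(m : G), Subgroup.mem_map_of_mem _ hm, ?_⟩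
    have := congrArg Subtype.val hmxy
    rw [hval] at this
    exact this
  · intro N hN
    have hX : 0 < Fintype.card (SubMulAction.ofStabilizer G α) := by omega
    obtain ⟨x₀⟩ := Fintype.card_pos_iff.mp hX
    obtain ⟨hF, hKset, hKc⟩ := hK'frob x₀
    have hN' : (N.subgroupOf (stabilizer G α)).Normal := inferInstance
    rcases (Cfsg.Agent.S3383.result _ hF K' hKset).2 (N.subgroupOf (stabilizer G α)) hN' with h | h
    · left
      intro k hk
      obtain ⟨k', hk', rfl⟩ := Subgroup.mem_map.mp hk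
      exact Subgroup.mem_subgroupOf.mp (h hk')
    · right
      intro n hn hnα
      have : (⟨n, hnα⟩ : stabilizer G α) ∈ N.subgroupOf (stabilizer G α) :=
        Subgroup.mem_subgroupOf.mpr hn
      exact Subgroup.mem_map.mpr ⟨_, h this, rfl⟩
  · intro β hβ s hs
    obtain ⟨hF, hKset, hKc⟩ := hK'frob ⟨β, hmemX β hβ⟩
    obtain ⟨⟨⟨k', hk'⟩, ⟨h', hh'⟩⟩, hkh⟩ := hKc.2 ⟨s, hs⟩
    refine ⟨(k' : G), Subgroup.mem_map_of_mem _ hk', (h' : G), h'.2, ?_, ?_⟩
    · have := congrArg Subtype.val (mem_stabilizer_iff.mp hh')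
      rw [hval] at this
      exact this
    · have := congrArg Subtype.val hkh
      exact this.symm
  · intro β hβ h hhα hhβ
    obtain ⟨hF, hKset, hKc⟩ := hK'frob ⟨β, hmemX β hβ⟩
    have hpt : IsPretransitive (stabilizer G α) (SubMulAction.ofStabilizer G α) := ⟨h2⟩
    have hidx : (stabilizer (stabilizer G α) (⟨β, hmemX β hβ⟩ : SubMulAction.ofStabilizer G α)).index
        = Fintype.card Ω - 1 := by
      rw [index_stabilizer_of_transitive]
      omega
    have hcop := coprime_index_card hF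
    rw [hidx] at hcop
    have hhS : h ∈ stabilizer G α := mem_stabilizer_iff.mpr hhα
    have hmem : (⟨h, hhS⟩ : stabilizer G α) ∈
        stabilizer (stabilizer G α) (⟨β, hmemX β hβ⟩ : SubMulAction.ofStabilizer G α) := by
      rw [mem_stabilizer_iff]
      apply Subtype.ext
      rw [hval]
      exact hhβ
    have hord : orderOf h ∣ Nat.card (stabilizer (stabilizer G α)
        (⟨β, hmemX β hβ⟩ : SubMulAction.ofStabilizer G α)) := by
      have h1 := orderOf_dvd_natCard (⟨⟨h, hhS⟩, hmem⟩ : stabilizer (stabilizer G α)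
        (⟨β, hmemX β hβ⟩ : SubMulAction.ofStabilizer G α))
      rw [Subgroup.orderOf_mk, Subgroup.orderOf_mk] at h1
      exact h1
    exact (Nat.Coprime.coprime_dvd_right hord hcop).symm

theorem zass_exists_moved (hZ : Cfsg.IsZassenhausGroup G Ω) {n : G} (hn : n ≠ 1) :
    ∃ γ : Ω, n • γ ≠ γ := by
  by_contra hcon
  push Not at hcon
  apply hn
  apply hZ.1.eq_of_smul_eq_smul
  intro c
  rw [hcon c, one_smul]

/-- A nontrivial normal subgroup of a Zassenhaus group is transitive. -/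
theorem zass_normal_trans (hZ : Cfsg.IsZassenhausGroup G Ω) (N : Subgroup G) [hN : N.Normal]
    (hN1 : N ≠ ⊥) (α β : Ω) : ∃ n ∈ N, n • α = β := by
  by_cases hαβ : α = β
  · exact ⟨1, N.one_mem, by rw [one_smul, hαβ]⟩
  obtain ⟨n₀, hn₀, hn₀1⟩ : ∃ n ∈ N, n ≠ 1 := by
    by_contra h
    push Not at h
    exact hN1 ((Subgroup.eq_bot_iff_forall _).mpr h)
  obtain ⟨γ, hγ⟩ := zass_exists_moved hZ hn₀1
  obtain ⟨g, hg1, hg2⟩ := zass_two_trans hZ (Ne.symm hγ) hαβ
  refine ⟨g * n₀ * g⁻¹, hN.conj_mem n₀ hn₀ g, ?_⟩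
  rw [mul_smul, mul_smul, ← hg1, inv_smul_smul, hg2]

theorem zass_exists_ne [Fintype Ω] (hZ : Cfsg.IsZassenhausGroup G Ω) (α : Ω) :
    ∃ c : Ω, c ≠ α := by
  have h3 := zass_card_ge_three hZ
  exact Fintype.exists_ne_of_one_lt_card (by omega) α

theorem zass_trans [Fintype Ω] (hZ : Cfsg.IsZassenhausGroup G Ω) (α β : Ω) :
    ∃ g : G, g • α = β := by
  have hN1 : (⊤ : Subgroup G) ≠ ⊥ := by
    obtain ⟨g, hg, _⟩ := hZ.2.2.2.1
    intro h
    have : g ∈ (⊥ : Subgroup G) := h ▸ Subgroup.mem_top g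
    exact hg (Subgroup.mem_bot.mp this)
  obtain ⟨n, _, hn⟩ := zass_normal_trans hZ ⊤ hN1 α β
  exact ⟨n, hn⟩

/-- A nontrivial normal subgroup of a Zassenhaus group contains a nonidentity element fixing two
points. -/
theorem zass_normal_fix_two [Fintype Ω] (hZ : Cfsg.IsZassenhausGroup G Ω) (N : Subgroup G)
    [hN : N.Normal] (hN1 : N ≠ ⊥) :
    ∃ n ∈ N, n ≠ 1 ∧ ∃ a b : Ω, a ≠ b ∧ n • a = a ∧ n • b = b := by
  classical
  by_contra hno
  push Not at hno
  have hfin : Finite G := zass_finite hZ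
  have h3 := zass_card_ge_three hZ
  have hsm : ∀ (n : N) (ω : Ω), n • ω = (n : G) • ω := fun _ _ => rfl
  have hptN : IsPretransitive N Ω := by
    constructor
    intro α β
    obtain ⟨n, hn, hnαβ⟩ := zass_normal_trans hZ N hN1 α β
    exact ⟨⟨n, hn⟩, hnαβ⟩
  obtain ⟨a, ha⟩ := hZ.2.2.2.2 N hN hptN
  obtain ⟨n₁, hn₁, hn₁1⟩ : ∃ n ∈ stabilizer N a, n ≠ 1 := by
    by_contra h
    push Not at h
    exact ha ((Subgroup.eq_bot_iff_forall _).mpr h)
  obtain ⟨M, hMn, hMmem, hMtrans, -⟩ := perm_frobenius (G := N) (Ω := Ω) (by omega)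
    (fun α β => hptN.exists_smul_eq α β) ⟨n₁, hn₁1, a, mem_stabilizer_iff.mp hn₁⟩ (by
      intro n hn α β hα hβ
      by_contra hαβ
      exact hno (n : G) n.2 (fun h => hn (Subtype.ext h)) α β hαβ hα hβ)
  -- the image of `M` in `G` is a regular normal subgroup
  have hM'n : (M.map N.subtype).Normal := by
    constructor
    intro m hm g
    obtain ⟨m₀, hm₀, rfl⟩ := Subgroup.mem_map.mp hm
    refine Subgroup.mem_map.mpr ⟨⟨g * (m₀ : G) * g⁻¹, hN.conj_mem _ m₀.2 g⟩, ?_, rfl⟩
    rw [hMmem]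
    rcases (hMmem m₀).mp hm₀ with h | h
    · left
      apply Subtype.ext
      show g * (m₀ : G) * g⁻¹ = 1
      rw [h]; simp
    · right
      intro ω hω
      apply h (g⁻¹ • ω)
      have hω' : (g * (m₀ : G) * g⁻¹) • ω = ω := hω
      rw [hsm]
      rw [mul_smul, mul_smul] at hω'
      calc (m₀ : G) • g⁻¹ • ω = g⁻¹ • (g • (m₀ : G) • g⁻¹ • ω) := by rw [inv_smul_smul]
        _ = g⁻¹ • ω := by rw [hω']
  have hM't : IsPretransitive (M.map N.subtype) Ω := by
    constructor
    intro α β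
    obtain ⟨m, hm, hmαβ⟩ := hMtrans α β
    exact ⟨⟨(m : G), Subgroup.mem_map_of_mem _ hm⟩, hmαβ⟩
  obtain ⟨b, hb⟩ := hZ.2.2.2.2 (M.map N.subtype) hM'n hM't
  obtain ⟨m', hm', hm'1⟩ : ∃ m ∈ stabilizer (M.map N.subtype) b, m ≠ 1 := by
    by_contra h
    push Not at h
    exact hb ((Subgroup.eq_bot_iff_forall _).mpr h)
  obtain ⟨m₀, hm₀, hm₀eq⟩ := Subgroup.mem_map.mp m'.2
  rcases (hMmem m₀).mp hm₀ with h | h
  · apply hm'1
    apply Subtype.ext
    rw [← hm₀eq, h]; rfl
  · apply h b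
    have : (m' : G) • b = b := mem_stabilizer_iff.mp hm'
    rw [hsm]
    rw [← hm₀eq] at this
    exact this

/-- A nontrivial normal subgroup of a Zassenhaus group contains the Frobenius kernels of all
point stabilizers. -/
theorem zass_ptKernel_le_normal [Fintype Ω] (hZ : Cfsg.IsZassenhausGroup G Ω) (N : Subgroup G)
    [hN : N.Normal] (hN1 : N ≠ ⊥) (α : Ω) : ptKernel G α ⊆ N := by
  obtain ⟨K, hKmem, -, hKdich, -, -⟩ := zass_ptKernel hZ α
  intro s hs
  rcases hKdich N hN with h | h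
  · exact h ((hKmem s).mpr hs)
  · exfalso
    obtain ⟨n, hn, hn1, a, b, hab, hna, hnb⟩ := zass_normal_fix_two hZ N hN1
    obtain ⟨g, hg⟩ := zass_trans hZ a α
    have hmem : g * n * g⁻¹ ∈ N := hN.conj_mem n hn g
    have hfixα : (g * n * g⁻¹) • α = α := by
      rw [mul_smul, mul_smul, ← hg, inv_smul_smul, hna]
    have hK := (hKmem _).mp (h _ hmem hfixα)
    rcases hK.2 with h1 | h1
    · apply hn1
      have : n = g⁻¹ * (g * n * g⁻¹) * g := by group
      rw [this, h1]; group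
    · apply h1 (g • b)
      · intro hgb
        apply hab
        have : g • b = g • a := by rw [hgb, hg]
        exact (smul_left_cancel g this).symm
      · rw [mul_smul, mul_smul, inv_smul_smul, hnb]

/-- In a Zassenhaus group of odd degree, every nontrivial normal subgroup is the whole group. -/
theorem zass_odd_normal_eq_top [Fintype Ω] (hZ : Cfsg.IsZassenhausGroup G Ω)
    (hodd : Odd (Fintype.card Ω)) (N : Subgroup G) [hN : N.Normal] (hN1 : N ≠ ⊥) : N = ⊤ := by
  classical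
  have hfin : Finite G := zass_finite hZ
  have h3 := zass_card_ge_three hZ
  have heven : 2 ∣ Fintype.card Ω - 1 := by
    obtain ⟨k, hk⟩ := hodd
    exact ⟨k, by omega⟩
  -- two points
  obtain ⟨α⟩ : Nonempty Ω := Fintype.card_pos_iff.mp (by omega)
  obtain ⟨β, hβα⟩ := zass_exists_ne hZ α
  obtain ⟨K, hKmem, -, -, hKdec, hKcop⟩ := zass_ptKernel hZ α
  have hKN : K ≤ N := fun k hk => zass_ptKernel_le_normal hZ N hN1 α ((hKmem k).mp hk)
  -- an element swapping `α` and `β`
  obtain ⟨g, hgα, hgβ⟩ := zass_two_trans hZ (Ne.symm hβα) hβα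
  have hg2α : (g ^ 2) • α = α := by rw [pow_two, mul_smul, hgα, hgβ]
  have hg2β : (g ^ 2) • β = β := by rw [pow_two, mul_smul, hgβ, hgα]
  have hmodd : Odd (orderOf (g ^ 2)) := by
    have h1 := hKcop β hβα (g ^ 2) hg2α hg2β
    exact Nat.coprime_two_right.mp (Nat.Coprime.coprime_dvd_right heven h1)
  obtain ⟨j, hj⟩ := hmodd
  obtain ⟨t, ht⟩ : ∃ t, t = g ^ (orderOf (g ^ 2)) := ⟨_, rfl⟩
  have ht2 : t ^ 2 = 1 := by
    rw [ht, ← pow_mul, mul_comm, pow_mul, pow_orderOf_eq_one]
  have hpowα : ∀ i : ℕ, ((g ^ 2) ^ i) • α = α := by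
    intro i
    induction i with
    | zero => simp
    | succ i ih => rw [pow_succ, mul_smul, hg2α, ih]
  have hpowβ : ∀ i : ℕ, ((g ^ 2) ^ i) • β = β := by
    intro i
    induction i with
    | zero => simp
    | succ i ih => rw [pow_succ, mul_smul, hg2β, ih]
  have hteq : t = (g ^ 2) ^ j * g := by
    rw [ht, hj, ← pow_mul, pow_succ]
  have htα : t • α = β := by rw [hteq, mul_smul, hgα, hpowβ]
  have htβ : t • β = α := by rw [hteq, mul_smul, hgβ, hpowα]
  have ht1 : t ≠ 1 := by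
    intro h
    rw [h, one_smul] at htα
    exact hβα htα.symm
  have htinv : t⁻¹ = t := by
    have : t * t = 1 := by rw [← pow_two]; exact ht2
    exact inv_eq_of_mul_eq_one_left this
  -- `t` has a fixed point
  obtain ⟨γ, hγ⟩ : ∃ γ : Ω, t • γ = γ := by
    by_contra hno
    push Not at hno
    have hsupp : (MulAction.toPerm t : Equiv.Perm Ω).support = Finset.univ := by
      rw [Finset.eq_univ_iff_forall]
      intro x
      rw [Equiv.Perm.mem_support]
      exact hno x
    have hσ2 : (MulAction.toPerm t : Equiv.Perm Ω) ^ 2 = 1 := by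
      ext x
      simp only [pow_two, Equiv.Perm.coe_mul, Function.comp_apply, MulAction.toPerm_apply,
        Equiv.Perm.coe_one, id_eq]
      rw [← mul_smul, ← pow_two, ht2, one_smul]
    have := Equiv.Perm.two_dvd_card_support hσ2
    rw [hsupp, Finset.card_univ] at this
    obtain ⟨k, hk⟩ := hodd
    omega
  have hγα : γ ≠ α := by
    intro h; rw [h, htα] at hγ; exact hβα hγ
  have hγβ : γ ≠ β := by
    intro h; rw [h, htβ] at hγ; exact hβα hγ.symm
  have hord2 : orderOf t = 2 := orderOf_eq_prime ht2 ht1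
  -- `t` fixes only `γ`, so lies in `N`
  have htN : t ∈ N := by
    apply zass_ptKernel_le_normal hZ N hN1 γ
    refine ⟨hγ, Or.inr ?_⟩
    intro x hx hfix
    obtain ⟨-, -, -, -, -, hcopγ⟩ := zass_ptKernel hZ γ
    have := hcopγ x hx t hγ hfix
    rw [hord2] at this
    have h2 : Nat.Coprime 2 2 := Nat.Coprime.coprime_dvd_right heven this
    norm_num at h2
  -- the two-point stabilizer lies in `N`
  have hHN : ∀ h : G, h • α = α → h • β = β → h ∈ N := by
    let H : Subgroup G := stabilizer G α ⊓ stabilizer G β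
    have hHmem : ∀ h : G, h ∈ H ↔ h • α = α ∧ h • β = β := by
      intro h
      rw [Subgroup.mem_inf, mem_stabilizer_iff, mem_stabilizer_iff]
    have hφmem : ∀ h : H, (h : G)⁻¹ * t * h * t⁻¹ ∈ H := by
      intro h
      obtain ⟨h1, h2⟩ := (hHmem h).mp h.2
      have hconj : t * (h : G) * t⁻¹ ∈ H := by
        rw [hHmem, htinv]
        constructor
        · rw [mul_smul, mul_smul, htα, h2, htβ]
        · rw [mul_smul, mul_smul, htβ, h1, htα]
      have := H.mul_mem (H.inv_mem h.2) hconj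
      have e : (h : G)⁻¹ * (t * (h : G) * t⁻¹) = (h : G)⁻¹ * t * h * t⁻¹ := by group
      rwa [e] at this
    let φ : H → H := fun h => ⟨(h : G)⁻¹ * t * h * t⁻¹, hφmem h⟩
    have hφinj : Function.Injective φ := by
      intro h₁ h₂ h12
      have h12' : (h₁ : G)⁻¹ * t * h₁ * t⁻¹ = (h₂ : G)⁻¹ * t * h₂ * t⁻¹ := congrArg Subtype.val h12
      obtain ⟨c, hc⟩ : ∃ c, c = (h₂ : G) * (h₁ : G)⁻¹ := ⟨_, rfl⟩
      have hcH : c ∈ H := by rw [hc]; exact H.mul_mem h₂.2 (H.inv_mem h₁.2)
      have hcomm : c * t = t * c := by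
        have h3 : (h₁ : G)⁻¹ * t * h₁ = (h₂ : G)⁻¹ * t * h₂ := by
          have := congrArg (fun x => x * t) h12'
          simpa [mul_assoc] using this
        rw [hc]
        calc (h₂ : G) * (h₁ : G)⁻¹ * t = h₂ * ((h₁ : G)⁻¹ * t * h₁) * (h₁ : G)⁻¹ := by group
          _ = h₂ * ((h₂ : G)⁻¹ * t * h₂) * (h₁ : G)⁻¹ := by rw [h3]
          _ = t * ((h₂ : G) * (h₁ : G)⁻¹) := by group
      obtain ⟨hcα, hcβ⟩ := (hHmem c).mp hcH
      -- `c γ` is fixed by `t`
      have hcγ : c • γ = γ := by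
        by_contra hne
        have hfix : t • (c • γ) = c • γ := by
          rw [← mul_smul, ← hcomm, mul_smul, hγ]
        obtain ⟨-, -, -, -, -, hcopγ⟩ := zass_ptKernel hZ γ
        have := hcopγ (c • γ) hne t hγ hfix
        rw [hord2] at this
        have h2 : Nat.Coprime 2 2 := Nat.Coprime.coprime_dvd_right heven this
        norm_num at h2
      have hc1 : c = 1 := hZ.2.2.1 c α β γ (Ne.symm hβα) (Ne.symm hγβ) (Ne.symm hγα) hcα hcβ hcγ
      apply Subtype.ext
      calc (h₁ : G) = c⁻¹ * h₂ := by rw [hc]; group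
        _ = h₂ := by rw [hc1]; simp
    have hφsurj := Finite.injective_iff_surjective.mp hφinj
    intro h h1 h2
    obtain ⟨x, hx⟩ := hφsurj ⟨h, (hHmem h).mpr ⟨h1, h2⟩⟩
    have hx' : (x : G)⁻¹ * t * x * t⁻¹ = h := congrArg Subtype.val hx
    rw [← hx']
    have h4 : (x : G)⁻¹ * t * x ∈ N := by
      have := hN.conj_mem t htN (x : G)⁻¹
      simpa using this
    exact N.mul_mem h4 (N.inv_mem htN)
  -- the point stabilizer lies in `N`
  have hSN : ∀ s : G, s • α = α → s ∈ N := by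
    intro s hs
    obtain ⟨k, hk, h, hhα, hhβ, rfl⟩ := hKdec β hβα s hs
    exact N.mul_mem (hKN hk) (hHN h hhα hhβ)
  rw [eq_top_iff]
  intro x _
  obtain ⟨n, hn, hnx⟩ := zass_normal_trans hZ N hN1 α (x • α)
  have h5 : (n⁻¹ * x) • α = α := by rw [mul_smul, ← hnx, inv_smul_smul]
  have := N.mul_mem hn (hSN _ h5)
  simpa using this

theorem ptKernel_conj {α : Ω} {s : G} (hs : s ∈ ptKernel G α) (g : G) :
    g * s * g⁻¹ ∈ ptKernel G (g • α) := by
  obtain ⟨h1, h2⟩ := hs
  refine ⟨by rw [mul_smul, mul_smul, inv_smul_smul, h1], ?_⟩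
  rcases h2 with h2 | h2
  · left; rw [h2]; simp
  · right
    intro x hx hfix
    apply h2 (g⁻¹ • x)
    · intro h
      apply hx
      rw [← h, smul_inv_smul]
    · rw [mul_smul, mul_smul] at hfix
      calc s • g⁻¹ • x = g⁻¹ • (g • s • g⁻¹ • x) := by rw [inv_smul_smul]
        _ = g⁻¹ • x := by rw [hfix]

/-- A nontrivial normal subgroup of a Zassenhaus group is doubly transitive. -/
theorem zass_normal_two_trans [Fintype Ω] (hZ : Cfsg.IsZassenhausGroup G Ω) (N : Subgroup G)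
    [hN : N.Normal] (hN1 : N ≠ ⊥) {a b c d : Ω} (hab : a ≠ b) (hcd : c ≠ d) :
    ∃ n ∈ N, n • a = c ∧ n • b = d := by
  obtain ⟨n₁, hn₁, hn₁a⟩ := zass_normal_trans hZ N hN1 a c
  have hn₁b : n₁ • b ≠ c := by
    intro h
    apply hab
    have : n₁ • a = n₁ • b := by rw [hn₁a, h]
    exact smul_left_cancel n₁ this
  obtain ⟨K, hKmem, hKtrans, -, -, -⟩ := zass_ptKernel hZ c
  obtain ⟨k, hk, hkd⟩ := hKtrans (n₁ • b) d hn₁b (Ne.symm hcd)
  have hkP := (hKmem k).mp hk
  have hkN : k ∈ N := zass_ptKernel_le_normal hZ N hN1 c hkP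
  refine ⟨k * n₁, N.mul_mem hkN hn₁, ?_, ?_⟩
  · rw [mul_smul, hn₁a, hkP.1]
  · rw [mul_smul, hkd]

/-- No normal subgroup of a nontrivial normal subgroup of a Zassenhaus group is regular. -/
theorem zass_normal_no_regular [Fintype Ω] (hZ : Cfsg.IsZassenhausGroup G Ω) (N : Subgroup G)
    [hN : N.Normal] (hN1 : N ≠ ⊥) (M : Subgroup N) (hMn : M.Normal)
    (hMt : ∀ a b : Ω, ∃ m ∈ M, (m : G) • a = b)
    (hMreg : ∀ m ∈ M, ∀ a : Ω, (m : G) • a = a → m = 1) : False := by
  classical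
  have h3 := zass_card_ge_three hZ
  obtain ⟨α⟩ : Nonempty Ω := Fintype.card_pos_iff.mp (by omega)
  obtain ⟨K, hKmem, hKtrans, -, -, -⟩ := zass_ptKernel hZ α
  have hKN : K ≤ N := fun k hk => zass_ptKernel_le_normal hZ N hN1 α ((hKmem k).mp hk)
  set M' : Subgroup G := M.map N.subtype with hM'
  have hM'mem : ∀ x : G, x ∈ M' ↔ ∃ hx : x ∈ N, (⟨x, hx⟩ : N) ∈ M := by
    intro x
    rw [hM', Subgroup.mem_map]
    constructor
    · rintro ⟨m, hm, rfl⟩
      exact ⟨m.2, hm⟩
    · rintro ⟨hx, hm⟩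
      exact ⟨⟨x, hx⟩, hm, rfl⟩
  have hM't : ∀ a b : Ω, ∃ m ∈ M', m • a = b := by
    intro a b
    obtain ⟨m, hm, hmab⟩ := hMt a b
    exact ⟨(m : G), Subgroup.mem_map_of_mem _ hm, hmab⟩
  have hM'reg : ∀ m ∈ M', ∀ a : Ω, m • a = a → m = 1 := by
    intro m hm a hma
    obtain ⟨hx, hm'⟩ := (hM'mem m).mp hm
    have := hMreg _ hm' a hma
    exact congrArg Subtype.val this
  -- `N` normalizes `M'`
  have hconjM' : ∀ n ∈ N, ∀ m ∈ M', n * m * n⁻¹ ∈ M' := by
    intro n hn m hm
    obtain ⟨hx, hm'⟩ := (hM'mem m).mp hm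
    rw [hM'mem]
    refine ⟨N.mul_mem (N.mul_mem hn hx) (N.inv_mem hn), ?_⟩
    have := hMn.conj_mem _ hm' ⟨n, hn⟩
    exact this
  have hKnorm : K ≤ Subgroup.normalizer (M' : Set G) := by
    intro k hk
    rw [Subgroup.mem_normalizer_iff]
    intro m
    constructor
    · exact hconjM' k (hKN hk) m
    · intro h
      have := hconjM' k⁻¹ (N.inv_mem (hKN hk)) _ h
      have e : k⁻¹ * (k * m * k⁻¹) * k⁻¹⁻¹ = m := by group
      rwa [e] at this
  have hsup : ((M' ⊔ K : Subgroup G) : Set G) = (M' : Set G) * (K : Set G) :=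
    Subgroup.coe_mul_of_right_le_normalizer_left M' K hKnorm
  -- elements of `M' ⊔ K` fixing two points are trivial
  have hL : ∀ l ∈ M' ⊔ K, ∀ a b : Ω, a ≠ b → l • a = a → l • b = b → l = 1 := by
    intro l hl a b hab hla hlb
    obtain ⟨m₁, hm₁, hm₁a⟩ := hM't a α
    have hl' : m₁ * l * m₁⁻¹ ∈ M' ⊔ K := by
      have h1 : m₁ ∈ M' ⊔ K := Subgroup.mem_sup_left hm₁
      exact (M' ⊔ K).mul_mem ((M' ⊔ K).mul_mem h1 hl) ((M' ⊔ K).inv_mem h1)
    have hl'set : m₁ * l * m₁⁻¹ ∈ ((M' ⊔ K : Subgroup G) : Set G) := hl'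
    rw [hsup] at hl'set
    obtain ⟨m', hm', k', hk', hmk⟩ := Set.mem_mul.mp hl'set
    have hk'P := (hKmem k').mp hk'
    have hfixα : (m₁ * l * m₁⁻¹) • α = α := by
      rw [mul_smul, mul_smul, ← hm₁a, inv_smul_smul, hla]
    have hm'1 : m' = 1 := by
      apply hM'reg m' hm' α
      have : (m' * k') • α = α := by rw [hmk]; exact hfixα
      rw [mul_smul, hk'P.1] at this
      exact this
    have hfixb : (m₁ * l * m₁⁻¹) • (m₁ • b) = m₁ • b := by
      rw [mul_smul, mul_smul, inv_smul_smul, hlb]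
    have hbα : m₁ • b ≠ α := by
      intro h
      apply hab
      have : m₁ • a = m₁ • b := by rw [hm₁a, h]
      exact smul_left_cancel m₁ this
    have hk'1 : k' = 1 := by
      rcases hk'P.2 with h | h
      · exact h
      · exfalso
        apply h (m₁ • b) hbα
        have : (m' * k') • (m₁ • b) = m₁ • b := by rw [hmk]; exact hfixb
        rw [hm'1, one_mul] at this
        exact this
    have : m₁ * l * m₁⁻¹ = 1 := by rw [← hmk, hm'1, hk'1, one_mul]
    calc l = m₁⁻¹ * (m₁ * l * m₁⁻¹) * m₁ := by group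
      _ = 1 := by rw [this]; group
  -- the normal closure of the point kernel
  have hL₀le : Subgroup.normalClosure (ptKernel G α) ≤ M' ⊔ K := by
    unfold Subgroup.normalClosure
    rw [Subgroup.closure_le]
    intro x hx
    rw [Group.mem_conjugatesOfSet_iff] at hx
    obtain ⟨s, hs, hconj⟩ := hx
    obtain ⟨c, hc⟩ := isConj_iff.mp hconj
    rw [← hc]
    have h1 := ptKernel_conj hs c
    obtain ⟨m, hm, hmα⟩ := hM't α (c • α)
    have h2 := ptKernel_conj h1 m⁻¹
    rw [← hmα, inv_smul_smul] at h2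
    have h3 : m⁻¹ * (c * s * c⁻¹) * m⁻¹⁻¹ ∈ K := (hKmem _).mpr h2
    have hmL : m ∈ M' ⊔ K := Subgroup.mem_sup_left hm
    have := (M' ⊔ K).mul_mem ((M' ⊔ K).mul_mem hmL (Subgroup.mem_sup_right h3)) ((M' ⊔ K).inv_mem hmL)
    have e : m * (m⁻¹ * (c * s * c⁻¹) * m⁻¹⁻¹) * m⁻¹ = c * s * c⁻¹ := by group
    rw [e] at this
    exact this
  have hL₀1 : Subgroup.normalClosure (ptKernel G α) ≠ ⊥ := by
    obtain ⟨x, hx⟩ := zass_exists_ne hZ α
    have : ∃ y : Ω, y ≠ α ∧ y ≠ x := by
      by_contra hno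
      push Not at hno
      have hsub : (Finset.univ : Finset Ω) ⊆ {α, x} := by
        intro y _
        by_cases hy : y = α
        · simp [hy]
        · simp [hno y hy]
      have := Finset.card_le_card hsub
      rw [Finset.card_univ] at this
      have h2 : ({α, x} : Finset Ω).card ≤ 2 := Finset.card_le_two
      omega
    obtain ⟨y, hyα, hyx⟩ := this
    obtain ⟨k, hk, hkxy⟩ := hKtrans x y hx hyα
    intro hbot
    have hkL : k ∈ Subgroup.normalClosure (ptKernel G α) :=
      Subgroup.subset_normalClosure ((hKmem k).mp hk)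
    rw [hbot, Subgroup.mem_bot] at hkL
    rw [hkL, one_smul] at hkxy
    exact hyx hkxy.symm
  obtain ⟨l, hl, hl1, a, b, hab, hla, hlb⟩ :=
    zass_normal_fix_two hZ (Subgroup.normalClosure (ptKernel G α)) hL₀1
  exact hl1 (hL l (hL₀le hl) a b hab hla hlb)

end Zass

end Cfsg.Agent.Helper96
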