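import Mathlib
import Cfsg.Prelude.Def_LieRecognition
import Cfsg.Agent.Lib.Helper19.RankOneFPF
import Cfsg.Agent.Lib.Helper19.RankOneCount
import Cfsg.Agent.S0015

set_option autoImplicit false

namespace Cfsg.Agent.Helper96

open MulAction Cfsg.Agent.Helper19

variable {G Ω : Type*} [Group G] [MulAction G Ω] {a : Ω} {t : G} {Q : Subgroup G}

/-- two commuting involutions give two distinct involutions in `G_a`. -/
theorem exists_two_invol [Finite G] (hS : Cfsg.IsRankOneSetup G Ω a t Q)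
    (h2 : ∃ x y : G, x ≠ 1 ∧ y ≠ 1 ∧ x ≠ y ∧ x * x = 1 ∧ y * y = 1 ∧ x * y = y * x) :
    ∃ s s' : G, s ∈ Cfsg.involutionsIn (stabilizer G a : Set G) ∧
      s' ∈ Cfsg.involutionsIn (stabilizer G a : Set G) ∧ s ≠ s' := by
  obtain ⟨x, y, hx1, hy1, hxy, hx2, hy2, hc⟩ := h2
  obtain ⟨b, hb⟩ := invol_exists_fix hS hx2
  have hyb : y • b = b := comm_invol_fix hS hx1 hx2 hb hc.symm
  have := isPretransitive hS
  obtain ⟨g, hg⟩ := MulAction.exists_smul_eq G b a
  have key : ∀ u : G, u ≠ 1 → u * u = 1 → u • b = b →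
      g * u * g⁻¹ ∈ Cfsg.involutionsIn (stabilizer G a : Set G) := by
    intro u hu1 hu2 hub
    refine ⟨?_, ?_, ?_⟩
    · show (g * u * g⁻¹) • a = a
      rw [← hg, mul_smul, mul_smul, inv_smul_smul, hub]
    · intro h
      apply hu1
      have : u = g⁻¹ * (g * u * g⁻¹) * g := by group
      rw [this, h]; group
    · have : (g * u * g⁻¹) * (g * u * g⁻¹) = g * (u * u) * g⁻¹ := by group
      rw [this, hu2]; group
  refine ⟨_, _, key x hx1 hx2 hb, key y hy1 hy2 hyb, ?_⟩
  intro h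
  apply hxy
  have e1 : x = g⁻¹ * (g * x * g⁻¹) * g := by group
  rw [e1, h]; group

theorem exists_inverted_ne_one [Finite G] (hS : Cfsg.IsRankOneSetup G Ω a t Q)
    (h2 : ∃ x y : G, x ≠ 1 ∧ y ≠ 1 ∧ x ≠ y ∧ x * x = 1 ∧ y * y = 1 ∧ x * y = y * x) :
    ∃ k ∈ Cfsg.invertedBy (stabilizer G a ⊓ stabilizer G (t • a)) t, k ≠ 1 := by
  obtain ⟨s, s', hs, hs', hne⟩ := exists_two_invol hS h2
  obtain ⟨k, hk, hks⟩ := inverted_trans hS hs hs'
  refine ⟨k, hk, ?_⟩
  rintro rfl
  apply hne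
  simpa using hks

theorem inverted_pow {D : Subgroup G} {k : G} (hk : k ∈ Cfsg.invertedBy D t) (n : ℕ) :
    k ^ n ∈ Cfsg.invertedBy D t := by
  refine ⟨pow_mem hk.1 n, ?_⟩
  have : t * k ^ n * t⁻¹ = (t * k * t⁻¹) ^ n := by
    rw [conj_pow]
  rw [this, hk.2, inv_pow]

/-- an element of prime order inverted by `t`. -/
theorem exists_inverted_prime [Finite G] (hS : Cfsg.IsRankOneSetup G Ω a t Q)
    (h2 : ∃ x y : G, x ≠ 1 ∧ y ≠ 1 ∧ x ≠ y ∧ x * x = 1 ∧ y * y = 1 ∧ x * y = y * x) :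
    ∃ k ∈ Cfsg.invertedBy (stabilizer G a ⊓ stabilizer G (t • a)) t, (orderOf k).Prime := by
  obtain ⟨k, hk, hk1⟩ := exists_inverted_ne_one hS h2
  have hpos : 0 < orderOf k := orderOf_pos k
  have hne1 : orderOf k ≠ 1 := by
    intro h
    exact hk1 (orderOf_eq_one_iff.1 h)
  obtain ⟨p, hp, hpd⟩ := Nat.exists_prime_and_dvd hne1
  refine ⟨k ^ (orderOf k / p), inverted_pow hk _, ?_⟩
  rw [orderOf_pow_orderOf_div hpos.ne' hpd]
  exact hp

/-- `Q` is nilpotent, given Thompson's theorem for the group `Q` (as a subgroup of `G_a`). -/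
theorem nilpotent_Q_of_thompson [Finite G] (hS : Cfsg.IsRankOneSetup G Ω a t Q)
    (h2 : ∃ x y : G, x ≠ 1 ∧ y ≠ 1 ∧ x ≠ y ∧ x * x = 1 ∧ y * y = 1 ∧ x * y = y * x)
    (thompson : ∀ φ : ↥(Q.subgroupOf (stabilizer G a)) ≃* ↥(Q.subgroupOf (stabilizer G a)),
      MonoidHom.FixedPointFree (φ : ↥(Q.subgroupOf (stabilizer G a)) →*
        ↥(Q.subgroupOf (stabilizer G a))) →
      ∀ p : ℕ, p.Prime → orderOf φ = p → Group.IsNilpotent ↥(Q.subgroupOf (stabilizer G a))) :
    Group.IsNilpotent Q := by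
  obtain ⟨k, hk, hkp⟩ := exists_inverted_prime hS h2
  have hk1 : k ≠ 1 := by
    intro h
    rw [h, orderOf_one] at hkp
    exact Nat.not_prime_one hkp
  have hN : (Q.subgroupOf (stabilizer G a)).Normal := by
    constructor
    intro n hn g
    rw [Subgroup.mem_subgroupOf] at hn ⊢
    simp only [Subgroup.coe_mul, Subgroup.coe_inv]
    exact hS.conj_mem g g.2 n hn
  have hka : k ∈ stabilizer G a := hk.1.1
  obtain ⟨φ, hφ⟩ : ∃ φ : MulAut ↥(Q.subgroupOf (stabilizer G a)),
      φ = MulAut.conjNormal (⟨k, hka⟩ : stabilizer G a) := ⟨_, rfl⟩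
  have hφapp : ∀ x : ↥(Q.subgroupOf (stabilizer G a)),
      (((φ x : ↥(Q.subgroupOf (stabilizer G a))) : stabilizer G a) : G) =
        k * ((x : stabilizer G a) : G) * k⁻¹ := by
    intro x
    rw [hφ, MulAut.conjNormal_apply]
    simp
  have hfpf : MonoidHom.FixedPointFree (φ : ↥(Q.subgroupOf (stabilizer G a)) →*
      ↥(Q.subgroupOf (stabilizer G a))) := by
    intro x hx
    have h1 : k * ((x : stabilizer G a) : G) * k⁻¹ = ((x : stabilizer G a) : G) := by
      rw [← hφapp x]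
      exact congrArg (fun z : ↥(Q.subgroupOf (stabilizer G a)) => ((z : stabilizer G a) : G)) hx
    have h3 : ((x : stabilizer G a) : G) ∈ Q ⊓ Subgroup.centralizer {k} := by
      refine ⟨Subgroup.mem_subgroupOf.1 x.2, ?_⟩
      apply Subgroup.mem_centralizer_iff.2
      intro y hy
      rw [Set.mem_singleton_iff] at hy
      subst hy
      calc y * ((x : stabilizer G a) : G) = (y * ((x : stabilizer G a) : G) * y⁻¹) * y := by group
        _ = ((x : stabilizer G a) : G) * y := by rw [h1]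
    rw [inverted_fpf hS hk hk1, Subgroup.mem_bot] at h3
    apply Subtype.ext
    apply Subtype.ext
    simpa using h3
  have hord : orderOf φ = orderOf k := by
    have : Fact (orderOf k).Prime := ⟨hkp⟩
    apply orderOf_eq_prime
    · rw [hφ, ← map_pow]
      have : (⟨k, hka⟩ : stabilizer G a) ^ orderOf k = 1 := by
        apply Subtype.ext
        simp [pow_orderOf_eq_one]
      rw [this, map_one]
    · intro h1
      obtain ⟨x, hxQ, hx1⟩ := exists_ne_one hS
      have hxa : x ∈ stabilizer G a := hS.le hxQ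
      have hx' : (⟨⟨x, hxa⟩, Subgroup.mem_subgroupOf.2 hxQ⟩ :
          ↥(Q.subgroupOf (stabilizer G a))) = 1 := by
        apply hfpf
        rw [h1]; rfl
      apply hx1
      have := congrArg (fun z : ↥(Q.subgroupOf (stabilizer G a)) => ((z : stabilizer G a) : G)) hx'
      simpa using this
  have hnil := thompson φ hfpf (orderOf k) hkp hord
  exact Group.nilpotent_of_mulEquiv (Subgroup.subgroupOfEquivOfLe hS.le)

/-- a nilpotent finite group of even order has a central involution. -/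
theorem exists_central_invol {H : Type*} [Group H] [Finite H] [hH : Group.IsNilpotent H]
    (heven : Even (Nat.card H)) : ∃ z : H, z ≠ 1 ∧ z * z = 1 ∧ ∀ x : H, z * x = x * z := by
  classical
  have : Fact (Nat.Prime 2) := ⟨Nat.prime_two⟩
  obtain ⟨P⟩ : Nonempty (Sylow 2 H) := inferInstance
  have hPn : (P : Subgroup H).Normal := by
    have h := (Group.isNilpotent_of_finite_tfae (G := H)).out 0 3
    exact (h.1 hH) 2 inferInstance P
  have hPne : (P : Subgroup H) ≠ ⊥ := by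
    intro h
    have h1 : 2 ∣ Nat.card (P : Subgroup H) := by
      rw [Sylow.card_eq_multiplicity]
      have h2 : 2 ∣ Nat.card H := even_iff_two_dvd.1 heven
      have : 0 < (Nat.card H).factorization 2 :=
        Nat.Prime.factorization_pos_of_dvd Nat.prime_two Nat.card_pos.ne' h2
      exact dvd_pow_self 2 this.ne'
    rw [h, Subgroup.card_bot] at h1
    exact absurd h1 (by decide)
  have hmeet := Cfsg.Agent.S0015.normal_inf_center_ne_bot (P : Subgroup H) hPne
  obtain ⟨⟨z0, hz0⟩, hz01⟩ := (Subgroup.ne_bot_iff_exists_ne_one).mp hmeet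
  have hz0ne : z0 ≠ 1 := fun h => hz01 (Subtype.ext h)
  obtain ⟨hz0P, hz0Z⟩ := Subgroup.mem_inf.1 hz0
  -- order of z0 is a power of 2
  obtain ⟨j, hj⟩ := (IsPGroup.iff_orderOf.1 P.isPGroup' ⟨z0, hz0P⟩ : _)
  have hj' : orderOf z0 = 2 ^ j := by
    rw [← hj]; exact (Subgroup.orderOf_mk z0 hz0P).symm
  have hjpos : j ≠ 0 := by
    intro h
    rw [h, pow_zero, orderOf_eq_one_iff] at hj'
    exact hz0ne hj'
  obtain ⟨i, rfl⟩ : ∃ i, j = i + 1 := ⟨j - 1, by omega⟩
  refine ⟨z0 ^ (2 ^ i), ?_, ?_, ?_⟩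
  · intro h
    have := orderOf_dvd_of_pow_eq_one h
    rw [hj'] at this
    have h3 : 2 ^ (i + 1) ≤ 2 ^ i := Nat.le_of_dvd (by positivity) this
    rw [pow_succ] at h3
    have : 0 < 2 ^ i := by positivity
    omega
  · rw [← pow_add, ← two_mul, ← pow_succ', ← hj', pow_orderOf_eq_one]
  · intro x
    have := Subgroup.mem_center_iff.1 (pow_mem hz0Z (2 ^ i)) x
    exact this.symm

/-- In the rank-one set-up, if `Q` is nilpotent then the involutions of `G_a` are central in `Q`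
and closed under multiplication. -/
theorem invol_central_of_nilpotent [Finite G] (hS : Cfsg.IsRankOneSetup G Ω a t Q)
    (hnil : Group.IsNilpotent Q) :
    (∀ s ∈ Cfsg.involutionsIn (stabilizer G a : Set G), s ∈ Q ∧ ∀ x ∈ Q, s * x = x * s) ∧
      ∀ s ∈ Cfsg.involutionsIn (stabilizer G a : Set G),
        ∀ s' ∈ Cfsg.involutionsIn (stabilizer G a : Set G),
          s * s' = 1 ∨ s * s' ∈ Cfsg.involutionsIn (stabilizer G a : Set G) := by
  obtain ⟨z, hz1, hz2, hzc⟩ := exists_central_invol (H := Q) hS.even_card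
  have hzI : (z : G) ∈ Cfsg.involutionsIn (stabilizer G a : Set G) := by
    refine ⟨hS.le z.2, ?_, ?_⟩
    · intro h; exact hz1 (Subtype.ext h)
    · have := congrArg (fun w : Q => (w : G)) hz2
      simpa using this
  have hcen : ∀ s ∈ Cfsg.involutionsIn (stabilizer G a : Set G),
      s ∈ Q ∧ ∀ x ∈ Q, s * x = x * s := by
    intro s hs
    refine ⟨invol_mem_Q hS hs.1 hs.2.2, ?_⟩
    obtain ⟨k, hk, hks⟩ := inverted_trans hS hzI hs
    intro x hx
    have hkx : k * x * k⁻¹ ∈ Q := hS.conj_mem k hk.1.1 x hx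
    have h1 := congrArg (fun w : Q => (w : G)) (hzc ⟨k * x * k⁻¹, hkx⟩)
    simp only [Subgroup.coe_mul] at h1
    rw [← hks]
    calc k⁻¹ * (z : G) * k * x = k⁻¹ * ((z : G) * (k * x * k⁻¹)) * k := by group
      _ = k⁻¹ * ((k * x * k⁻¹) * (z : G)) * k := by rw [h1]
      _ = x * (k⁻¹ * (z : G) * k) := by group
  refine ⟨hcen, ?_⟩
  intro s hs s' hs'
  by_cases h : s * s' = 1
  · left; exact h
  · right
    refine ⟨mul_mem hs.1 hs'.1, h, ?_⟩
    have hcomm := (hcen s hs).2 s' (hcen s' hs').1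
    calc s * s' * (s * s') = s * (s' * s) * s' := by group
      _ = s * (s * s') * s' := by rw [hcomm]
      _ = (s * s) * (s' * s') := by group
      _ = 1 := by rw [hs.2.2, hs'.2.2, one_mul]

end Cfsg.Agent.Helper96
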