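import Mathlib

/-!
# Isometries with scalar square of an alternating space fix or swap a polar pair (char ≠ 2)
-/

set_option autoImplicit false

namespace Cfsg.Agent.Helper96.SympInvol

open Module

variable {F V : Type*} [Field F] [AddCommGroup V] [Module F V]

/-- an alternating bilinear form given as a function -/
structure AltForm (f : V → V → F) : Prop where
  add_left : ∀ u u' v, f (u + u') v = f u v + f u' v
  smul_left : ∀ (a : F) u v, f (a • u) v = a * f u v
  add_right : ∀ u v v', f u (v + v') = f u v + f u v'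
  smul_right : ∀ (a : F) u v, f u (a • v) = a * f u v
  self : ∀ v, f v v = 0

namespace AltForm

variable {f : V → V → F} (hf : AltForm f)
include hf

theorem swap (u v : V) : f u v = - f v u := by
  have h := hf.self (u + v)
  rw [hf.add_left, hf.add_right, hf.add_right, hf.self, hf.self, zero_add, add_zero] at h
  linear_combination h

theorem zero_left (v : V) : f 0 v = 0 := by
  have := hf.smul_left 0 0 v
  simpa using this

theorem zero_right (v : V) : f v 0 = 0 := by
  have := hf.smul_right 0 v 0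
  simpa using this

theorem neg_left (u v : V) : f (-u) v = - f u v := by
  have := hf.smul_left (-1) u v
  simpa using this

theorem neg_right (u v : V) : f u (-v) = - f u v := by
  have := hf.smul_right (-1) u v
  simpa using this

theorem sub_left (u u' v : V) : f (u - u') v = f u v - f u' v := by
  rw [sub_eq_add_neg, hf.add_left, hf.neg_left, ← sub_eq_add_neg]

theorem sub_right (u v v' : V) : f u (v - v') = f u v - f u v' := by
  rw [sub_eq_add_neg, hf.add_right, hf.neg_right, ← sub_eq_add_neg]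

end AltForm

variable [FiniteDimensional F V]

/-- The inductive core, for an abstract "mode" relation `R`. -/
theorem core (f : V → V → F) (hf : AltForm f) (x : V →ₗ[F] V)
    (hxf : ∀ u w, f (x u) (x w) = f u w) (z : F) (hz : z ≠ 0) (hx : ∀ v, x (x v) = z • v)
    (R : Submodule F V → Submodule F V → Prop) (R0 : R ⊥ ⊥)
    (Rsup : ∀ U W U₂ W₂, R U W → R U₂ W₂ → R (U ⊔ U₂) (W ⊔ W₂))
    (Rinv : ∀ v w, R (Submodule.span F {v}) (Submodule.span F {w}) →
      x v ∈ Submodule.span F ({v, w} : Set V) ∧ x w ∈ Submodule.span F ({v, w} : Set V))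
    (pick : ∀ C : Submodule F V, (∀ u ∈ C, x u ∈ C) → (∀ u ∈ C, u ≠ 0 → ∃ w ∈ C, f u w ≠ 0) →
      C ≠ ⊥ → ∃ v ∈ C, ∃ w ∈ C, f v w = 1 ∧ R (Submodule.span F {v}) (Submodule.span F {w})) :
    ∀ (n : ℕ) (C : Submodule F V), finrank F C = n → (∀ u ∈ C, x u ∈ C) →
    (∀ u ∈ C, u ≠ 0 → ∃ w ∈ C, f u w ≠ 0) →
    ∃ U W : Submodule F V, U ⊓ W = ⊥ ∧ U ⊔ W = C ∧ (∀ u ∈ U, ∀ v ∈ U, f u v = 0) ∧
      (∀ u ∈ W, ∀ v ∈ W, f u v = 0) ∧ R U W := by
  intro n
  induction n using Nat.strong_induction_on with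
  | _ n ih =>
  intro C hCn hCx hCnd
  by_cases hC0 : C = ⊥
  · subst hC0
    refine ⟨⊥, ⊥, by simp, by simp, ?_, ?_, R0⟩
    · intro u hu v _
      rw [Submodule.mem_bot] at hu
      rw [hu, hf.zero_left]
    · intro u hu v _
      rw [Submodule.mem_bot] at hu
      rw [hu, hf.zero_left]
  obtain ⟨v, hvC, w, hwC, hvw, hR⟩ := pick C hCx hCnd hC0
  obtain ⟨hxv, hxw⟩ := Rinv v w hR
  have hwv : f w v = -1 := by rw [hf.swap, hvw]
  let C' : Submodule F V :=
    { carrier := {u | u ∈ C ∧ f u v = 0 ∧ f u w = 0}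
      add_mem' := by
        rintro a b ⟨ha, ha1, ha2⟩ ⟨hb, hb1, hb2⟩
        exact ⟨C.add_mem ha hb, by rw [hf.add_left, ha1, hb1, add_zero],
          by rw [hf.add_left, ha2, hb2, add_zero]⟩
      zero_mem' := ⟨C.zero_mem, hf.zero_left _, hf.zero_left _⟩
      smul_mem' := by
        rintro c a ⟨ha, ha1, ha2⟩
        exact ⟨C.smul_mem c ha, by rw [hf.smul_left, ha1, mul_zero],
          by rw [hf.smul_left, ha2, mul_zero]⟩ }
  have memC' : ∀ u, u ∈ C' ↔ u ∈ C ∧ f u v = 0 ∧ f u w = 0 := fun u => Iff.rfl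
  have hC'le : C' ≤ C := fun u hu => ((memC' u).mp hu).1
  -- orthogonality to x v, x w
  have horth : ∀ u, f u v = 0 → f u w = 0 → ∀ y ∈ Submodule.span F ({v, w} : Set V), f u y = 0 := by
    intro u h1 h2 y hy
    rw [Submodule.mem_span_pair] at hy
    obtain ⟨a, b, rfl⟩ := hy
    rw [hf.add_right, hf.smul_right, hf.smul_right, h1, h2]
    ring
  have hxinv : ∀ y, x (z⁻¹ • x y) = y := by
    intro y
    rw [map_smul, hx, smul_smul, inv_mul_cancel₀ hz, one_smul]
  have hC'x : ∀ u ∈ C', x u ∈ C' := by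
    intro u hu
    rw [memC'] at hu ⊢
    obtain ⟨huC, h1, h2⟩ := hu
    refine ⟨hCx u huC, ?_, ?_⟩
    · rw [← hxinv v, hxf, hf.smul_right, horth u h1 h2 _ hxv, mul_zero]
    · rw [← hxinv w, hxf, hf.smul_right, horth u h1 h2 _ hxw, mul_zero]
  -- projection to C'
  have hproj : ∀ u ∈ C, u - f u w • v + f u v • w ∈ C' := by
    intro u hu
    rw [memC']
    refine ⟨C.add_mem (C.sub_mem hu (C.smul_mem _ hvC)) (C.smul_mem _ hwC), ?_, ?_⟩
    · rw [hf.add_left, hf.sub_left, hf.smul_left, hf.smul_left, hf.self, hwv]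
      ring
    · rw [hf.add_left, hf.sub_left, hf.smul_left, hf.smul_left, hf.self, hvw]
      ring
  have hC'nd : ∀ u ∈ C', u ≠ 0 → ∃ y ∈ C', f u y ≠ 0 := by
    intro u hu hu0
    obtain ⟨_, h1, h2⟩ := (memC' u).mp hu
    obtain ⟨y, hyC, hy⟩ := hCnd u (hC'le hu) hu0
    refine ⟨_, hproj y hyC, ?_⟩
    rw [hf.add_right, hf.sub_right, hf.smul_right, hf.smul_right, h1, h2]
    simpa using hy
  have hvC' : v ∉ C' := by
    intro h
    have := ((memC' v).mp h).2.2
    rw [hvw] at this
    exact one_ne_zero this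
  have hC'lt : C' < C := lt_of_le_of_ne hC'le (fun h => hvC' (h ▸ hvC))
  have hrank : finrank F C' < n := hCn ▸ Submodule.finrank_lt_finrank_of_lt hC'lt
  obtain ⟨U', W', hUW'inf, hUW'sup, hU'ti, hW'ti, hR'⟩ := ih _ hrank C' rfl hC'x hC'nd
  have hU'C' : U' ≤ C' := hUW'sup ▸ le_sup_left
  have hW'C' : W' ≤ C' := hUW'sup ▸ le_sup_right
  refine ⟨U' ⊔ Submodule.span F {v}, W' ⊔ Submodule.span F {w}, ?_, ?_, ?_, ?_, Rsup _ _ _ _ hR' hR⟩
  · -- trivial intersection
    rw [Submodule.eq_bot_iff]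
    intro y hy
    rw [Submodule.mem_inf, Submodule.mem_sup, Submodule.mem_sup] at hy
    obtain ⟨⟨u', hu', v', hv', e1⟩, ⟨w', hw', w'', hw'', e2⟩⟩ := hy
    rw [Submodule.mem_span_singleton] at hv' hw''
    obtain ⟨a, rfl⟩ := hv'
    obtain ⟨b, rfl⟩ := hw''
    have hd : u' - w' ∈ C' := C'.sub_mem (hU'C' hu') (hW'C' hw')
    have hd2 : u' - w' = b • w - a • v := by
      have : u' + a • v = w' + b • w := by rw [e1, e2]
      rw [sub_eq_sub_iff_add_eq_add, add_comm (b • w) w', ← this]
    obtain ⟨_, g1, g2⟩ := (memC' _).mp hd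
    rw [hd2, hf.sub_left, hf.smul_left, hf.smul_left] at g1 g2
    rw [hwv, hf.self] at g1
    rw [hvw, hf.self] at g2
    have hb : b = 0 := by linear_combination -g1
    have ha : a = 0 := by linear_combination -g2
    rw [ha, hb, zero_smul, zero_smul, sub_self] at hd2
    have hu'w' : u' = w' := sub_eq_zero.mp hd2
    have : u' ∈ U' ⊓ W' := ⟨hu', hu'w' ▸ hw'⟩
    rw [hUW'inf, Submodule.mem_bot] at this
    rw [← e1, this, ha, zero_smul, add_zero]
  · -- span
    apply le_antisymm
    · apply sup_le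
      · exact sup_le (hU'C'.trans hC'le) (by rw [Submodule.span_singleton_le_iff_mem]; exact hvC)
      · exact sup_le (hW'C'.trans hC'le) (by rw [Submodule.span_singleton_le_iff_mem]; exact hwC)
    · intro u hu
      have h1 : u - f u w • v + f u v • w ∈ U' ⊔ W' := hUW'sup ▸ hproj u hu
      have h2 : f u w • v ∈ Submodule.span F {v} :=
        Submodule.smul_mem _ _ (Submodule.mem_span_singleton_self v)
      have h3 : f u v • w ∈ Submodule.span F {w} :=
        Submodule.smul_mem _ _ (Submodule.mem_span_singleton_self w)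
      have hle1 : U' ⊔ W' ≤ (U' ⊔ Submodule.span F {v}) ⊔ (W' ⊔ Submodule.span F {w}) :=
        sup_le_sup le_sup_left le_sup_left
      have hle2 : Submodule.span F {v} ≤ (U' ⊔ Submodule.span F {v}) ⊔ (W' ⊔ Submodule.span F {w}) :=
        le_sup_of_le_left le_sup_right
      have hle3 : Submodule.span F {w} ≤ (U' ⊔ Submodule.span F {v}) ⊔ (W' ⊔ Submodule.span F {w}) :=
        le_sup_of_le_right le_sup_right
      have : u = (u - f u w • v + f u v • w) + f u w • v - f u v • w := by abel
      rw [this]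
      exact Submodule.sub_mem _ (Submodule.add_mem _ (hle1 h1) (hle2 h2)) (hle3 h3)
  · -- U totally isotropic
    intro y hy y' hy'
    rw [Submodule.mem_sup] at hy hy'
    obtain ⟨u', hu', v', hv', rfl⟩ := hy
    obtain ⟨u'', hu'', v'', hv'', rfl⟩ := hy'
    rw [Submodule.mem_span_singleton] at hv' hv''
    obtain ⟨a, rfl⟩ := hv'
    obtain ⟨a', rfl⟩ := hv''
    have e1 : f u' v = 0 := ((memC' _).mp (hU'C' hu')).2.1
    have e2 : f u'' v = 0 := ((memC' _).mp (hU'C' hu'')).2.1
    have e3 : f v u'' = 0 := by rw [hf.swap, e2, neg_zero]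
    rw [hf.add_left, hf.add_right, hf.add_right, hf.smul_left, hf.smul_left, hf.smul_right,
      hf.smul_right, hU'ti u' hu' u'' hu'', e1, e3, hf.self]
    ring
  · -- W totally isotropic
    intro y hy y' hy'
    rw [Submodule.mem_sup] at hy hy'
    obtain ⟨u', hu', v', hv', rfl⟩ := hy
    obtain ⟨u'', hu'', v'', hv'', rfl⟩ := hy'
    rw [Submodule.mem_span_singleton] at hv' hv''
    obtain ⟨a, rfl⟩ := hv'
    obtain ⟨a', rfl⟩ := hv''
    have e1 : f u' w = 0 := ((memC' _).mp (hW'C' hu')).2.2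
    have e2 : f u'' w = 0 := ((memC' _).mp (hW'C' hu'')).2.2
    have e3 : f w u'' = 0 := by rw [hf.swap, e2, neg_zero]
    rw [hf.add_left, hf.add_right, hf.add_right, hf.smul_left, hf.smul_left, hf.smul_right,
      hf.smul_right, hW'ti u' hu' u'' hu'', e1, e3, hf.self]
    ring


theorem map_span_singleton_le (x : V →ₗ[F] V) (v w : V) (a : F) (h : x v = a • w) :
    (Submodule.span F {v}).map x ≤ Submodule.span F {w} := by
  rw [Submodule.map_span, Set.image_singleton, h, Submodule.span_le, Set.singleton_subset_iff]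
  exact Submodule.smul_mem _ _ (Submodule.mem_span_singleton_self w)

theorem mem_pair_left (v w : V) : v ∈ Submodule.span F ({v, w} : Set V) :=
  Submodule.subset_span (by simp)

theorem mem_pair_right (v w : V) : w ∈ Submodule.span F ({v, w} : Set V) :=
  Submodule.subset_span (by simp)

/-- **Main theorem.** In characteristic ≠ 2, an isometry `x` of a nondegenerate alternating space with
`x² = z` scalar fixes or swaps the members of a pair of complementary totally isotropic subspaces. -/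
theorem exists_polar_pair [Nontrivial V] (f : V → V → F) (hf : AltForm f)
    (hnd : ∀ u, u ≠ 0 → ∃ w, f u w ≠ 0) (h2 : (2 : F) ≠ 0)
    (x : V →ₗ[F] V) (hxf : ∀ u w, f (x u) (x w) = f u w) (z : F) (hx : ∀ v, x (x v) = z • v) :
    ∃ U W : Submodule F V, IsCompl U W ∧ (∀ u ∈ U, ∀ v ∈ U, f u v = 0) ∧
      (∀ u ∈ W, ∀ v ∈ W, f u v = 0) ∧
      ((U.map x = U ∧ W.map x = W) ∨ (U.map x = W ∧ W.map x = U)) := by
  obtain ⟨u0, hu0⟩ := exists_ne (0 : V)
  obtain ⟨w0, hw0⟩ := hnd u0 hu0
  have hzz : z * z = 1 := by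
    have := hxf (x u0) (x w0)
    rw [hx, hx, hf.smul_left, hf.smul_right, hxf] at this
    have h : (z * z - 1) * f u0 w0 = 0 := by linear_combination this
    rcases mul_eq_zero.mp h with h | h
    · linear_combination h
    · exact absurd h hw0
  have hz : z ≠ 0 := by
    rintro rfl
    simp at hzz
  have hxinj : Function.Injective x := by
    rw [injective_iff_map_eq_zero]
    intro w hw
    have := hx w
    rw [hw, map_zero] at this
    exact (smul_eq_zero.mp this.symm).resolve_left hz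
  have hmapeq : ∀ U : Submodule F V, finrank F (U.map x) = finrank F U := fun U =>
    (LinearEquiv.finrank_eq (Submodule.equivMapOfInjective x hxinj U)).symm
  have hxinv : ∀ y, x (z⁻¹ • x y) = y := by
    intro y
    rw [map_smul, hx, smul_smul, inv_mul_cancel₀ hz, one_smul]
  have hCtop_nd : ∀ u ∈ (⊤ : Submodule F V), u ≠ 0 → ∃ w ∈ (⊤ : Submodule F V), f u w ≠ 0 :=
    fun u _ hu => let ⟨w, hw⟩ := hnd u hu; ⟨w, Submodule.mem_top, hw⟩
  by_cases heig : ∃ v : V, v ≠ 0 ∧ ∃ c : F, x v = c • v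
  · -- fixed mode
    obtain ⟨v1, hv1, c, hc⟩ := heig
    have hcc : c * c = z := by
      have := hx v1
      rw [hc, map_smul, hc, smul_smul] at this
      have h : (c * c - z) • v1 = 0 := by rw [sub_smul, this, sub_self]
      rcases smul_eq_zero.mp h with h | h
      · linear_combination h
      · exact absurd h hv1
    have hpick : ∀ C : Submodule F V, (∀ u ∈ C, x u ∈ C) →
        (∀ u ∈ C, u ≠ 0 → ∃ w ∈ C, f u w ≠ 0) → C ≠ ⊥ → ∃ v ∈ C, ∃ w ∈ C, f v w = 1 ∧
        ((Submodule.span F {v}).map x ≤ Submodule.span F {v} ∧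
          (Submodule.span F {w}).map x ≤ Submodule.span F {w}) := by
      intro C hCx hCnd hC0
      obtain ⟨u, huC, hu0⟩ := Submodule.exists_mem_ne_zero_of_ne_bot hC0
      obtain ⟨v, hvC, hv0, μ, hμ, hxv⟩ : ∃ v ∈ C, v ≠ 0 ∧ ∃ μ : F, μ * μ = z ∧ x v = μ • v := by
        by_cases h : x u + c • u = 0
        · refine ⟨u, huC, hu0, -c, by rw [← hcc]; ring, ?_⟩
          rw [neg_smul]
          exact eq_neg_of_add_eq_zero_left h
        · refine ⟨x u + c • u, C.add_mem (hCx u huC) (C.smul_mem c huC), h, c, hcc, ?_⟩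
          rw [map_add, map_smul, hx, smul_add, smul_smul, hcc, add_comm]
      obtain ⟨w₀, hw₀C, hw₀⟩ := hCnd v hvC hv0
      obtain ⟨w₁, hw₁C, hvw₁⟩ : ∃ w₁ ∈ C, f v w₁ = 1 :=
        ⟨(f v w₀)⁻¹ • w₀, C.smul_mem _ hw₀C, by rw [hf.smul_right, inv_mul_cancel₀ hw₀]⟩
      have hμx : μ * f v (x w₁) = 1 := by
        have := hxf v w₁
        rw [hxv, hf.smul_left, hvw₁] at this
        exact this
      refine ⟨v, hvC, (2 : F)⁻¹ • (w₁ + μ • x w₁),
        C.smul_mem _ (C.add_mem hw₁C (C.smul_mem _ (hCx _ hw₁C))), ?_, ?_, ?_⟩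
      · rw [hf.smul_right, hf.add_right, hf.smul_right, hvw₁, hμx]
        field_simp
        norm_num
      · exact map_span_singleton_le x v v μ hxv
      · apply map_span_singleton_le x _ _ (μ * z)
        have e : μ * z * μ = 1 := by
          have : μ * z * μ = z * (μ * μ) := by ring
          rw [this, hμ, hzz]
        calc x ((2 : F)⁻¹ • (w₁ + μ • x w₁)) = (2 : F)⁻¹ • (x w₁ + (μ * z) • w₁) := by
              rw [map_smul, map_add, map_smul, hx, smul_smul]
          _ = (2 : F)⁻¹ • ((μ * z) • w₁ + (μ * z * μ) • x w₁) := by rw [e, one_smul, add_comm]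
          _ = (μ * z) • (2 : F)⁻¹ • (w₁ + μ • x w₁) := by
              rw [smul_comm (μ * z) ((2 : F)⁻¹), smul_add (μ * z), smul_smul]
    obtain ⟨U, W, hinf, hsup, hU, hW, hRU, hRW⟩ := core f hf x hxf z hz hx
      (fun U W => U.map x ≤ U ∧ W.map x ≤ W) ⟨by simp, by simp⟩
      (fun U W U₂ W₂ h h' => ⟨by rw [Submodule.map_sup]; exact sup_le_sup h.1 h'.1,
        by rw [Submodule.map_sup]; exact sup_le_sup h.2 h'.2⟩)
      (fun v w h => ⟨Submodule.span_mono (by simp)
          (h.1 (Submodule.mem_map_of_mem (Submodule.mem_span_singleton_self v))),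
        Submodule.span_mono (by simp)
          (h.2 (Submodule.mem_map_of_mem (Submodule.mem_span_singleton_self w)))⟩)
      hpick _ ⊤ rfl (fun _ _ => Submodule.mem_top) hCtop_nd
    refine ⟨U, W, IsCompl.of_eq hinf hsup, hU, hW, Or.inl ⟨?_, ?_⟩⟩
    · exact Submodule.eq_of_le_of_finrank_eq hRU (hmapeq U)
    · exact Submodule.eq_of_le_of_finrank_eq hRW (hmapeq W)
  · -- swapped mode
    push Not at heig
    have hzm : z = -1 := by
      have h : (z - 1) * (z + 1) = 0 := by linear_combination hzz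
      rcases mul_eq_zero.mp h with h | h
      · exfalso
        have hz1 : z = 1 := by linear_combination h
        by_cases h' : x u0 + u0 = 0
        · apply heig u0 hu0 (-1)
          rw [neg_smul, one_smul]
          exact eq_neg_of_add_eq_zero_left h'
        · apply heig (x u0 + u0) h' 1
          rw [map_add, hx, hz1, one_smul, one_smul, add_comm]
      · linear_combination h
    have hpick : ∀ C : Submodule F V, (∀ u ∈ C, x u ∈ C) →
        (∀ u ∈ C, u ≠ 0 → ∃ w ∈ C, f u w ≠ 0) → C ≠ ⊥ → ∃ v ∈ C, ∃ w ∈ C, f v w = 1 ∧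
        ((Submodule.span F {v}).map x ≤ Submodule.span F {w} ∧
          (Submodule.span F {w}).map x ≤ Submodule.span F {v}) := by
      intro C hCx hCnd hC0
      obtain ⟨v, hvC, hv⟩ : ∃ v ∈ C, f v (x v) ≠ 0 := by
        by_contra hcon
        push Not at hcon
        have hall : ∀ u ∈ C, ∀ w ∈ C, f u (x w) = 0 := by
          intro u hu w hw
          have h1 := hcon (u + w) (C.add_mem hu hw)
          rw [map_add, hf.add_left, hf.add_right, hf.add_right, hcon u hu, hcon w hw] at h1
          have h3 : f w (x u) = f u (x w) := by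
            rw [← hxf w (x u), hx, hf.smul_right, hzm, hf.swap (x w) u]
            ring
          rw [h3] at h1
          have h4 : (2 : F) * f u (x w) = 0 := by linear_combination h1
          exact (mul_eq_zero.mp h4).resolve_left h2
        obtain ⟨u, huC, hu0⟩ := Submodule.exists_mem_ne_zero_of_ne_bot hC0
        obtain ⟨w₀, hw₀C, hw₀⟩ := hCnd u huC hu0
        apply hw₀
        rw [← hxinv w₀]
        exact hall u huC _ (C.smul_mem _ (hCx _ hw₀C))
      refine ⟨v, hvC, (f v (x v))⁻¹ • x v, C.smul_mem _ (hCx v hvC), ?_, ?_, ?_⟩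
      · rw [hf.smul_right, inv_mul_cancel₀ hv]
      · apply map_span_singleton_le x _ _ (f v (x v))
        rw [smul_smul, mul_inv_cancel₀ hv, one_smul]
      · apply map_span_singleton_le x _ _ ((f v (x v))⁻¹ * z)
        rw [map_smul, hx, smul_smul]
    obtain ⟨U, W, hinf, hsup, hU, hW, hRU, hRW⟩ := core f hf x hxf z hz hx
      (fun U W => U.map x ≤ W ∧ W.map x ≤ U) ⟨by simp, by simp⟩
      (fun U W U₂ W₂ h h' => ⟨by rw [Submodule.map_sup]; exact sup_le_sup h.1 h'.1,
        by rw [Submodule.map_sup]; exact sup_le_sup h.2 h'.2⟩)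
      (fun v w h => ⟨Submodule.span_mono (by simp)
          (h.1 (Submodule.mem_map_of_mem (Submodule.mem_span_singleton_self v))),
        Submodule.span_mono (by simp)
          (h.2 (Submodule.mem_map_of_mem (Submodule.mem_span_singleton_self w)))⟩)
      hpick _ ⊤ rfl (fun _ _ => Submodule.mem_top) hCtop_nd
    have h1 : finrank F U ≤ finrank F W := by
      rw [← hmapeq U]; exact Submodule.finrank_mono hRU
    have h2' : finrank F W ≤ finrank F U := by
      rw [← hmapeq W]; exact Submodule.finrank_mono hRW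
    refine ⟨U, W, IsCompl.of_eq hinf hsup, hU, hW, Or.inr ⟨?_, ?_⟩⟩
    · exact Submodule.eq_of_le_of_finrank_eq hRU (by rw [hmapeq]; omega)
    · exact Submodule.eq_of_le_of_finrank_eq hRW (by rw [hmapeq]; omega)

end Cfsg.Agent.Helper96.SympInvol
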