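import Mathlib
import Cfsg.Agent.Lib.Helper96.SympInvol

/-!
# TSP server (helper14, S5980), piece (IND): `exists_adapted_of_pick`

Peeling hyperbolic planes off a non-degenerate alternating space with an isometry `x`,
each plane spanned by an `x`-invariant pair of prescribed "mode" `A₀` and prescribed pairing.
-/

set_option autoImplicit false

namespace Cfsg.Agent.Helper96.TSP

open Matrix Module Polynomial

universe u

section general

variable {F : Type u} [Field F]

variable {V : Type*} [AddCommGroup V] [Module F V]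

/-- `y ↦ f y w` as a linear map -/
def h96_pairL (f : V → V → F) (hf : Cfsg.Agent.Helper96.SympInvol.AltForm f) (w : V) :
    V →ₗ[F] F where
  toFun y := f y w
  map_add' a b := hf.add_left a b w
  map_smul' c a := by
    rw [hf.smul_left, RingHom.id_apply, smul_eq_mul]

theorem h96_pairL_apply (f : V → V → F) (hf : Cfsg.Agent.Helper96.SympInvol.AltForm f) (w y : V) :
    h96_pairL f hf w y = f y w := rfl

/-- the inductive core: peel `d` planes off any invariant non-degenerate subspace of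
dimension at least `2 d`. -/
theorem h96_ind_core [FiniteDimensional F V] (f : V → V → F)
    (hf : Cfsg.Agent.Helper96.SympInvol.AltForm f) (x : V →ₗ[F] V)
    (hxf : ∀ u w, f (x u) (x w) = f u w) (A₀ : Matrix (Fin 2) (Fin 2) F)
    (pick : ∀ C : Submodule F V, (∀ u ∈ C, x u ∈ C) → (∀ u ∈ C, u ≠ 0 → ∃ w ∈ C, f u w ≠ 0) →
      C ≠ ⊥ → ∀ κ : F, κ ≠ 0 → ∃ u ∈ C, ∃ v ∈ C, ∃ ε : F, ε ≠ 0 ∧ f u v = κ ∧
        x u = ε • (A₀ 0 0 • u + A₀ 1 0 • v) ∧ x v = ε • (A₀ 0 1 • u + A₀ 1 1 • v))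
    (hnd : ∀ u, u ≠ 0 → ∃ w, f u w ≠ 0) :
    ∀ (d : ℕ) (C : Submodule F V), (∀ u ∈ C, x u ∈ C) →
      (∀ u ∈ C, u ≠ 0 → ∃ w ∈ C, f u w ≠ 0) → 2 * d ≤ finrank F C →
      ∀ κ : Fin d → F, (∀ k, κ k ≠ 0) →
      ∃ (u v : Fin d → V) (ε : Fin d → F), (∀ k, u k ∈ C) ∧ (∀ k, v k ∈ C) ∧
        (∀ k, ε k ≠ 0) ∧ (∀ k k', f (u k) (u k') = 0) ∧
        (∀ k k', f (v k) (v k') = 0) ∧ (∀ k k', f (u k) (v k') = if k = k' then κ k else 0) ∧
        ∀ k, x (u k) = ε k • (A₀ 0 0 • u k + A₀ 1 0 • v k) ∧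
          x (v k) = ε k • (A₀ 0 1 • u k + A₀ 1 1 • v k) := by
  intro d
  induction d with
  | zero =>
    intro C _ _ _ κ _
    exact ⟨Fin.elim0, Fin.elim0, Fin.elim0, fun k => k.elim0, fun k => k.elim0,
      fun k => k.elim0, fun k => k.elim0, fun k => k.elim0, fun k => k.elim0, fun k => k.elim0⟩
  | succ d ih =>
    intro C hCx hCnd hdim κ hκ
    have hC0 : C ≠ ⊥ := by
      rintro rfl
      rw [finrank_bot] at hdim
      omega
    obtain ⟨u₀, hu₀C, v₀, hv₀C, ε₀, hε₀, huv, hxu, hxv⟩ := pick C hCx hCnd hC0 (κ 0) (hκ 0)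
    have hκ0 : κ 0 ≠ 0 := hκ 0
    have hvu : f v₀ u₀ = -κ 0 := by rw [hf.swap, huv]
    have hu₀H : u₀ ∈ Submodule.span F ({u₀, v₀} : Set V) :=
      Cfsg.Agent.Helper96.SympInvol.mem_pair_left u₀ v₀
    have hv₀H : v₀ ∈ Submodule.span F ({u₀, v₀} : Set V) :=
      Cfsg.Agent.Helper96.SympInvol.mem_pair_right u₀ v₀
    have hHx : ∀ y ∈ Submodule.span F ({u₀, v₀} : Set V),
        x y ∈ Submodule.span F ({u₀, v₀} : Set V) := by
      intro y hy
      rw [Submodule.mem_span_pair] at hy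
      obtain ⟨a, b, rfl⟩ := hy
      rw [map_add, map_smul, map_smul, hxu, hxv]
      exact Submodule.add_mem _
        (Submodule.smul_mem _ _ (Submodule.smul_mem _ _ (Submodule.add_mem _
          (Submodule.smul_mem _ _ hu₀H) (Submodule.smul_mem _ _ hv₀H))))
        (Submodule.smul_mem _ _ (Submodule.smul_mem _ _ (Submodule.add_mem _
          (Submodule.smul_mem _ _ hu₀H) (Submodule.smul_mem _ _ hv₀H))))
    have hxinj : Function.Injective x := by
      rw [← LinearMap.ker_eq_bot, Submodule.eq_bot_iff]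
      intro y hy
      rw [LinearMap.mem_ker] at hy
      by_contra hy0
      obtain ⟨w, hw⟩ := hnd y hy0
      apply hw
      rw [← hxf, hy, hf.zero_left]
    have hHsurj : ∀ y ∈ Submodule.span F ({u₀, v₀} : Set V),
        ∃ y' ∈ Submodule.span F ({u₀, v₀} : Set V), x y' = y := by
      have hinj : Function.Injective (x.restrict hHx) := by
        intro a b hab
        apply Subtype.ext
        apply hxinj
        have := congrArg Subtype.val hab
        simpa only [LinearMap.coe_restrict_apply] using this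
      have hsurj := LinearMap.injective_iff_surjective.mp hinj
      intro y hy
      obtain ⟨y', hy'⟩ := hsurj ⟨y, hy⟩
      refine ⟨y'.1, y'.2, ?_⟩
      have := congrArg Subtype.val hy'
      simpa only [LinearMap.coe_restrict_apply] using this
    have horth : ∀ y, f y u₀ = 0 → f y v₀ = 0 →
        ∀ h ∈ Submodule.span F ({u₀, v₀} : Set V), f y h = 0 := by
      intro y h1 h2 h hh
      rw [Submodule.mem_span_pair] at hh
      obtain ⟨a, b, rfl⟩ := hh
      rw [hf.add_right, hf.smul_right, hf.smul_right, h1, h2]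
      ring
    -- the orthogonal complement of the plane inside `C`
    let φ : V →ₗ[F] F × F := (h96_pairL f hf u₀).prod (h96_pairL f hf v₀)
    have hφ : ∀ y, y ∈ LinearMap.ker φ ↔ f y u₀ = 0 ∧ f y v₀ = 0 := by
      intro y
      rw [LinearMap.mem_ker]
      change (h96_pairL f hf u₀ y, h96_pairL f hf v₀ y) = 0 ↔ _
      rw [Prod.mk_eq_zero, h96_pairL_apply, h96_pairL_apply]
    have memC' : ∀ y, y ∈ C ⊓ LinearMap.ker φ ↔ y ∈ C ∧ f y u₀ = 0 ∧ f y v₀ = 0 := by
      intro y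
      rw [Submodule.mem_inf, hφ]
    have hdim' : 2 * d ≤ finrank F (C ⊓ LinearMap.ker φ : Submodule F V) := by
      have h1 := Submodule.finrank_sup_add_finrank_inf_eq C (LinearMap.ker φ)
      have h2 : finrank F (C ⊔ LinearMap.ker φ : Submodule F V) ≤ finrank F V :=
        Submodule.finrank_le _
      have h3 := LinearMap.finrank_range_add_finrank_ker φ
      have h4 : finrank F (LinearMap.range φ) ≤ 2 := by
        have h5 := Submodule.finrank_le (LinearMap.range φ)
        rw [Module.finrank_prod, Module.finrank_self] at h5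
        exact h5
      omega
    have hC'x : ∀ y ∈ C ⊓ LinearMap.ker φ, x y ∈ C ⊓ LinearMap.ker φ := by
      intro y hy
      rw [memC'] at hy ⊢
      obtain ⟨hyC, h1, h2⟩ := hy
      obtain ⟨a, haH, hxa⟩ := hHsurj u₀ hu₀H
      obtain ⟨b, hbH, hxb⟩ := hHsurj v₀ hv₀H
      refine ⟨hCx y hyC, ?_, ?_⟩
      · have e : f (x y) u₀ = f (x y) (x a) := by rw [hxa]
        rw [e, hxf]
        exact horth y h1 h2 a haH
      · have e : f (x y) v₀ = f (x y) (x b) := by rw [hxb]
        rw [e, hxf]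
        exact horth y h1 h2 b hbH
    have hproj : ∀ y ∈ C, y - ((κ 0)⁻¹ * f y v₀) • u₀ + ((κ 0)⁻¹ * f y u₀) • v₀
        ∈ C ⊓ LinearMap.ker φ := by
      intro y hy
      rw [memC']
      refine ⟨C.add_mem (C.sub_mem hy (C.smul_mem _ hu₀C)) (C.smul_mem _ hv₀C), ?_, ?_⟩
      · rw [hf.add_left, hf.sub_left, hf.smul_left, hf.smul_left, hf.self, hvu]
        field_simp
        ring
      · rw [hf.add_left, hf.sub_left, hf.smul_left, hf.smul_left, hf.self, huv]
        field_simp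
        ring
    have hC'nd : ∀ y ∈ C ⊓ LinearMap.ker φ, y ≠ 0 →
        ∃ w ∈ C ⊓ LinearMap.ker φ, f y w ≠ 0 := by
      intro y hy hy0
      obtain ⟨hyC, h1, h2⟩ := (memC' y).mp hy
      obtain ⟨w, hwC, hw⟩ := hCnd y hyC hy0
      refine ⟨_, hproj w hwC, ?_⟩
      rw [hf.add_right, hf.sub_right, hf.smul_right, hf.smul_right, h1, h2]
      simpa using hw
    obtain ⟨u', v', ε', hu'C, hv'C, hε', huu, hvv, huv', hmode⟩ :=
      ih (C ⊓ LinearMap.ker φ) hC'x hC'nd hdim' (fun k => κ k.succ) (fun k => hκ k.succ)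
    have hu'0 : ∀ j, f (u' j) u₀ = 0 ∧ f (u' j) v₀ = 0 := fun j => ((memC' _).mp (hu'C j)).2
    have hv'0 : ∀ j, f (v' j) u₀ = 0 ∧ f (v' j) v₀ = 0 := fun j => ((memC' _).mp (hv'C j)).2
    refine ⟨Fin.cons u₀ u', Fin.cons v₀ v', Fin.cons ε₀ ε', ?_, ?_, ?_, ?_, ?_, ?_, ?_⟩
    · intro k
      refine Fin.cases ?_ (fun j => ?_) k
      · rw [Fin.cons_zero]; exact hu₀C
      · rw [Fin.cons_succ]; exact ((memC' _).mp (hu'C j)).1
    · intro k
      refine Fin.cases ?_ (fun j => ?_) k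
      · rw [Fin.cons_zero]; exact hv₀C
      · rw [Fin.cons_succ]; exact ((memC' _).mp (hv'C j)).1
    · intro k
      refine Fin.cases ?_ (fun j => ?_) k
      · rw [Fin.cons_zero]; exact hε₀
      · rw [Fin.cons_succ]; exact hε' j
    · intro k k'
      refine Fin.cases ?_ (fun i => ?_) k <;> refine Fin.cases ?_ (fun j => ?_) k'
      · simp only [Fin.cons_zero]; exact hf.self _
      · simp only [Fin.cons_zero, Fin.cons_succ]; rw [hf.swap, (hu'0 j).1, neg_zero]
      · simp only [Fin.cons_zero, Fin.cons_succ]; exact (hu'0 i).1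
      · simp only [Fin.cons_succ]; exact huu i j
    · intro k k'
      refine Fin.cases ?_ (fun i => ?_) k <;> refine Fin.cases ?_ (fun j => ?_) k'
      · simp only [Fin.cons_zero]; exact hf.self _
      · simp only [Fin.cons_zero, Fin.cons_succ]; rw [hf.swap, (hv'0 j).2, neg_zero]
      · simp only [Fin.cons_zero, Fin.cons_succ]; exact (hv'0 i).2
      · simp only [Fin.cons_succ]; exact hvv i j
    · intro k k'
      refine Fin.cases ?_ (fun i => ?_) k <;> refine Fin.cases ?_ (fun j => ?_) k'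
      · simp only [Fin.cons_zero, if_true]; exact huv
      · simp only [Fin.cons_zero, Fin.cons_succ]
        rw [if_neg (Fin.succ_ne_zero j).symm, hf.swap, (hv'0 j).1, neg_zero]
      · simp only [Fin.cons_zero, Fin.cons_succ]
        rw [if_neg (Fin.succ_ne_zero i)]
        exact (hu'0 i).2
      · simp only [Fin.cons_succ, Fin.succ_inj]; exact huv' i j
    · intro k
      refine Fin.cases ?_ (fun j => ?_) k
      · simp only [Fin.cons_zero]; exact ⟨hxu, hxv⟩
      · simp only [Fin.cons_succ]; exact hmode j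

/-- (IND) peeling hyperbolic planes. -/
theorem exists_adapted_of_pick [FiniteDimensional F V] (f : V → V → F)
    (hf : Cfsg.Agent.Helper96.SympInvol.AltForm f) (x : V →ₗ[F] V)
    (hxf : ∀ u w, f (x u) (x w) = f u w) (A₀ : Matrix (Fin 2) (Fin 2) F)
    (pick : ∀ C : Submodule F V, (∀ u ∈ C, x u ∈ C) → (∀ u ∈ C, u ≠ 0 → ∃ w ∈ C, f u w ≠ 0) →
      C ≠ ⊥ → ∀ κ : F, κ ≠ 0 → ∃ u ∈ C, ∃ v ∈ C, ∃ ε : F, ε ≠ 0 ∧ f u v = κ ∧
        x u = ε • (A₀ 0 0 • u + A₀ 1 0 • v) ∧ x v = ε • (A₀ 0 1 • u + A₀ 1 1 • v))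
    (hnd : ∀ u, u ≠ 0 → ∃ w, f u w ≠ 0) (d : ℕ) (hd : finrank F V = 2 * d)
    (κ : Fin d → F) (hκ : ∀ k, κ k ≠ 0) :
    ∃ (u v : Fin d → V) (ε : Fin d → F), (∀ k, ε k ≠ 0) ∧ (∀ k k', f (u k) (u k') = 0) ∧
      (∀ k k', f (v k) (v k') = 0) ∧ (∀ k k', f (u k) (v k') = if k = k' then κ k else 0) ∧
      ∀ k, x (u k) = ε k • (A₀ 0 0 • u k + A₀ 1 0 • v k) ∧
        x (v k) = ε k • (A₀ 0 1 • u k + A₀ 1 1 • v k) := by
  obtain ⟨u, v, ε, _, _, h3, h4, h5, h6, h7⟩ :=
    h96_ind_core f hf x hxf A₀ pick hnd d ⊤ (fun u _ => Submodule.mem_top)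
      (fun u _ hu0 => by
        obtain ⟨w, hw⟩ := hnd u hu0
        exact ⟨w, Submodule.mem_top, hw⟩)
      (by rw [finrank_top, hd]) κ hκ
  exact ⟨u, v, ε, h3, h4, h5, h6, h7⟩

end general

end Cfsg.Agent.Helper96.TSP
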