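import Mathlib

/-!
# Pure lemma for B-G 13.8: a fixed-point-free element makes every element a commutator
-/

set_option autoImplicit false

namespace Cfsg.Agent.Helper96.BGAsym

open Subgroup

variable {G : Type*} [Group G] [Finite G]

/-- `x` fixed-point-free on `K` => every element of `K` is a commutator `[x,u]` (the map
`u ↦ x u x⁻¹ u⁻¹` is injective `K → K`, hence surjective). -/
theorem le_closure_comm_of_fpf (K : Subgroup G) (x : G) (hxK : x ∈ normalizer (K : Set G))
    (hfpf : ∀ u ∈ K, x * u = u * x → u = 1) :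
    K ≤ Subgroup.closure {g | ∃ u ∈ K, g = x * u * x⁻¹ * u⁻¹} := by
  have hmem : ∀ u : K, x * (u : G) * x⁻¹ * (u : G)⁻¹ ∈ K := fun u =>
    K.mul_mem ((Subgroup.mem_normalizer_iff.1 hxK _).1 u.2) (K.inv_mem u.2)
  let f : K → K := fun u => ⟨x * (u : G) * x⁻¹ * (u : G)⁻¹, hmem u⟩
  have hinj : Function.Injective f := by
    intro u v huv
    have h1 : x * (u : G) * x⁻¹ * (u : G)⁻¹ = x * (v : G) * x⁻¹ * (v : G)⁻¹ :=
      congrArg Subtype.val huv
    have h2 : x * ((v : G)⁻¹ * (u : G)) = ((v : G)⁻¹ * (u : G)) * x := by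
      have h3 : (u : G) * x⁻¹ * (u : G)⁻¹ = (v : G) * x⁻¹ * (v : G)⁻¹ := by
        have := congrArg (fun z => x⁻¹ * z) h1
        simpa [mul_assoc] using this
      have h4 : x⁻¹ * ((v : G)⁻¹ * (u : G)) = ((v : G)⁻¹ * (u : G)) * x⁻¹ := by
        have := congrArg (fun z => (v : G)⁻¹ * z * (u : G)) h3
        simp only [mul_assoc, inv_mul_cancel, mul_one, inv_mul_cancel_left] at this
        simpa [mul_assoc] using this.symm
      have h5 := congrArg (fun z => x * z * x) h4
      simp only [mul_assoc, inv_mul_cancel, mul_one, mul_inv_cancel_left] at h5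
      simpa [mul_assoc] using h5.symm
    have h6 := hfpf _ (K.mul_mem (K.inv_mem v.2) u.2) h2
    have h7 : (u : G) = (v : G) := by
      have := congrArg (fun z => (v : G) * z) h6
      simpa using this
    exact Subtype.ext h7
  have hsurj : Function.Surjective f := Finite.surjective_of_injective hinj
  intro k hk
  obtain ⟨u, hu⟩ := hsurj ⟨k, hk⟩
  apply Subgroup.subset_closure
  exact ⟨u, u.2, (congrArg Subtype.val hu).symm⟩

end Cfsg.Agent.Helper96.BGAsym
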