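import Mathlib
import Cfsg.Agent.Lib.Helper93.MD0

/-!
# MD project (helper93 server, S2140), piece (F0): construction of `CData`
-/

set_option autoImplicit false

namespace Cfsg.Agent.Helper96.MD

open Module Cfsg.Agent.Helper93.McL Cfsg.Agent.Helper93.MD

variable {F V : Type*} [Field F] [Fintype F] [AddCommGroup V] [Module F V] [FiniteDimensional F V]

omit [Fintype F] [FiniteDimensional F V] in
/-- `tv v c * tv u ψ = tv u (ψ - ψ v • c) * tv v c` when `ψ u = 0`, `c u = 0`, `c v = 0`. -/
lemma f0_swap {u v : V} {c ψ : Dual F V} (hψu : ψ u = 0) (hcu : c u = 0) (hcv : c v = 0) :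
    tv v c * tv u ψ = tv u (ψ - ψ v • c) * tv v c := by
  have h2 : (ψ - ψ v • c) u = 0 := by simp [hψu, hcu]
  apply LinearEquiv.ext
  intro x
  rw [LinearEquiv.mul_apply, LinearEquiv.mul_apply, tv_apply hψu, tv_apply hcv, tv_apply hcv,
    tv_apply h2]
  simp only [map_add, map_smul, hcu, hcv, smul_eq_mul, mul_zero, add_zero, LinearMap.sub_apply,
    LinearMap.smul_apply, sub_zero]
  module

/-- (F0) -/
theorem exists_cdata {u v : V} (hu : u ≠ 0) (hv : v ∉ Submodule.span F {u})
    (K : Subgroup (V ≃ₗ[F] V)) (hKS : K ≤ SLV F V) (hKu : ∀ k ∈ K, ∃ α : F, k u = α • u)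
    (hKE : ∀ φ : Dual F V, φ u = 0 → tv u φ ∈ K → φ = 0)
    (hcov : ∀ g ∈ SLV F V, (∃ α : F, g u = α • u) → ∃ φ : Dual F V, φ u = 0 ∧ tv u φ * g ∈ K) :
    Nonempty (CData K u v) := by
  classical
  have hex : ∀ c : Dual F V, c u = 0 → c v = 0 →
      ∃ φ : Dual F V, φ u = 0 ∧ tv u φ * tv v c ∈ K := by
    intro c hcu hcv
    apply hcov _ (tv_mem_SLV v c)
    refine ⟨1, ?_⟩
    rw [tv_apply hcv, hcu]
    simp
  have huniq : ∀ c φ φ' : Dual F V, φ u = 0 → φ' u = 0 → tv u φ * tv v c ∈ K →
      tv u φ' * tv v c ∈ K → φ = φ' := by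
    intro c φ φ' h1 h2 h3 h4
    have h5 := K.mul_mem h3 (K.inv_mem h4)
    have h2' : (-φ') u = 0 := by simp [h2]
    have h6 : tv u φ * tv v c * (tv u φ' * tv v c)⁻¹ = tv u (φ - φ') := by
      rw [mul_inv_rev, mul_assoc, mul_inv_cancel_left, tv_inv, tv_mul_axis h1 h2', sub_eq_add_neg]
    rw [h6] at h5
    have h7 := hKE _ (by simp [h1, h2]) h5
    exact sub_eq_zero.mp h7
  let b : Dual F V → Dual F V := fun c =>
    if h : c u = 0 ∧ c v = 0 then Classical.choose (hex c h.1 h.2) else 0
  have hb : ∀ c : Dual F V, c u = 0 → c v = 0 → b c u = 0 ∧ tv u (b c) * tv v c ∈ K := by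
    intro c h1 h2
    simp only [b]
    rw [dif_pos ⟨h1, h2⟩]
    exact Classical.choose_spec (hex c h1 h2)
  refine ⟨{ b := b
            b_u := fun c h1 h2 => (hb c h1 h2).1
            b_mem := fun c h1 h2 => (hb c h1 h2).2
            b_uniq := ?_
            b_add := ?_
            b_equiv := ?_ }⟩
  · intro c φ h1 h2 h3 h4
    exact huniq c φ (b c) h3 (hb c h1 h2).1 h4 (hb c h1 h2).2
  · intro c c' h1 h2 h3 h4
    have hbc := hb c h1 h2
    have hbc' := hb c' h3 h4
    have hs1 : (c + c') u = 0 := by simp [h1, h3]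
    have hs2 : (c + c') v = 0 := by simp [h2, h4]
    have hφu : (b c + b c' - (b c' v) • c) u = 0 := by simp [hbc.1, hbc'.1, h1]
    have hmem := K.mul_mem hbc.2 hbc'.2
    have h2u : (b c' - b c' v • c) u = 0 := by simp [hbc'.1, h1]
    have hcalc : tv u (b c) * tv v c * (tv u (b c') * tv v c') =
        tv u (b c + b c' - (b c' v) • c) * tv v (c + c') := by
      calc tv u (b c) * tv v c * (tv u (b c') * tv v c')
          = tv u (b c) * (tv v c * tv u (b c')) * tv v c' := by simp only [mul_assoc]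
        _ = tv u (b c) * (tv u (b c' - b c' v • c) * tv v c) * tv v c' := by
            rw [f0_swap hbc'.1 h1 h2]
        _ = (tv u (b c) * tv u (b c' - b c' v • c)) * (tv v c * tv v c') := by
            simp only [mul_assoc]
        _ = tv u (b c + b c' - (b c' v) • c) * tv v (c + c') := by
            rw [tv_mul_axis hbc.1 h2u, tv_mul_axis h2 h4, add_sub_assoc]
    rw [hcalc] at hmem
    exact (huniq (c + c') _ (b (c + c')) hφu (hb _ hs1 hs2).1 hmem (hb _ hs1 hs2).2).symm
  · intro k hk α δ ε hku hkv c hcu hcv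
    have hbc := hb c hcu hcv
    have hα : α ≠ 0 := by
      rintro rfl
      rw [zero_smul] at hku
      exact hu ((LinearEquiv.map_eq_zero_iff k).mp hku)
    have hksu : k.symm u = α⁻¹ • u := by
      have : k.symm (k u) = u := k.symm_apply_apply u
      rw [hku, map_smul] at this
      calc k.symm u = α⁻¹ • (α • k.symm u) := by rw [smul_smul, inv_mul_cancel₀ hα, one_smul]
        _ = α⁻¹ • u := by rw [this]
    have hδ : δ ≠ 0 := by
      rintro rfl
      apply hv
      rw [zero_smul, zero_add] at hkv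
      have h1 : k v = k ((ε * α⁻¹) • u) := by
        rw [map_smul, hku, smul_smul, mul_assoc, inv_mul_cancel₀ hα, mul_one, hkv]
      have h2 := k.injective h1
      rw [h2]
      exact Submodule.smul_mem _ _ (Submodule.mem_span_singleton_self u)
    set c' : Dual F V := c ∘ₗ (k.symm : V →ₗ[F] V) with hc'
    have hc'u : c' u = 0 := by
      simp only [hc', LinearMap.comp_apply, LinearEquiv.coe_coe]
      rw [hksu, map_smul, hcu, smul_zero]
    have hc'kv : c' (k v) = 0 := by
      simp only [hc', LinearMap.comp_apply, LinearEquiv.coe_coe, LinearEquiv.symm_apply_apply]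
      exact hcv
    have hc'v : c' v = 0 := by
      rw [hkv, map_add, map_smul, map_smul, hc'u, smul_zero, add_zero, smul_eq_mul] at hc'kv
      rcases mul_eq_zero.mp hc'kv with h | h
      · exact absurd h hδ
      · exact h
    set ψ : Dual F V := b c ∘ₗ (k.symm : V →ₗ[F] V) with hψ
    have hψu : ψ u = 0 := by
      simp only [hψ, LinearMap.comp_apply, LinearEquiv.coe_coe]
      rw [hksu, map_smul, hbc.1, smul_zero]
    have hconj := K.mul_mem (K.mul_mem hk hbc.2) (K.inv_mem hk)
    have h1 : k * (tv u (b c) * tv v c) * k⁻¹ = (k * tv u (b c) * k⁻¹) * (k * tv v c * k⁻¹) := by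
      group
    have hεu : c' (ε • u) = 0 := by rw [map_smul, hc'u, smul_zero]
    have hδv : c' (δ • v) = 0 := by rw [map_smul, hc'v, smul_zero]
    have h2 : tv (δ • v + ε • u) c' = tv u (ε • c') * tv v (δ • c') := by
      rw [add_comm, ← tv_mul_center hεu hδv, tv_smul_swap, tv_smul_swap]
    have hαψu : (α • ψ) u = 0 := by simp [hψu]
    have hεc'u : (ε • c') u = 0 := by simp [hc'u]
    rw [h1, conj_tv, conj_tv, hku, hkv, tv_smul_swap, h2, ← mul_assoc,
      tv_mul_axis hαψu hεc'u] at hconj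
    have hd1 : (δ • c') u = 0 := by simp [hc'u]
    have hd2 : (δ • c') v = 0 := by simp [hc'v]
    have hφu : (α • ψ + ε • c') u = 0 := by simp [hψu, hc'u]
    exact (huniq (δ • c') _ (b (δ • c')) hφu (hb _ hd1 hd2).1 hconj (hb _ hd1 hd2).2).symm

end Cfsg.Agent.Helper96.MD
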