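import Mathlib
import Cfsg.Agent.Lib.Helper93.MD0

/-!
# MD project (helper93 server, S2140), piece (F4): `n = 4`, `q ≠ 2`
-/

set_option autoImplicit false

namespace Cfsg.Agent.Helper96.MD

open Module Cfsg.Agent.Helper93.McL Cfsg.Agent.Helper93.MD

variable {F V : Type*} [Field F] [Fintype F] [AddCommGroup V] [Module F V] [FiniteDimensional F V]

omit [Fintype F] [FiniteDimensional F V] in
/-- diagonal elements of `SL(V)` (local copy of piece (A6)). -/
lemma f4_exists_sl_diag {ι : Type*} [Fintype ι] [DecidableEq ι] (b : Basis ι F V) (d : ι → F)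
    (hd : ∏ i, d i = 1) : ∃ g : V ≃ₗ[F] V, g ∈ SLV F V ∧ ∀ i, g (b i) = d i • b i := by
  set f : V →ₗ[F] V := Matrix.toLin b b (Matrix.diagonal d) with hf
  have hdet : LinearMap.det f = 1 := by rw [hf, LinearMap.det_toLin, Matrix.det_diagonal, hd]
  have hu : IsUnit (LinearMap.toMatrix b b f).det := by
    rw [hf, LinearMap.toMatrix_toLin, Matrix.det_diagonal, hd]
    exact isUnit_one
  refine ⟨LinearEquiv.ofIsUnitDet hu, ?_, ?_⟩
  · rw [mem_SLV]
    apply Units.ext
    rw [LinearEquiv.coe_det, LinearEquiv.coe_ofIsUnitDet, hdet]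
    rfl
  · intro i
    have h1 : (LinearEquiv.ofIsUnitDet hu) (b i) = f (b i) :=
      LinearMap.congr_fun (LinearEquiv.coe_ofIsUnitDet hu) (b i)
    rw [h1, hf, Matrix.toLin_self]
    rw [Finset.sum_eq_single i]
    · rw [Matrix.diagonal_apply_eq]
    · intro j _ hji
      rw [Matrix.diagonal_apply_ne _ hji, zero_smul]
    · intro h
      exact absurd (Finset.mem_univ i) h

/-- field dichotomy: if `q ≠ 2` then either some `α ≠ 0` has `α² ≠ 1`, or `2 ≠ 0`. -/
lemma f4_field_cases (hq : Fintype.card F ≠ 2) :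
    (∃ α : F, α ≠ 0 ∧ α ^ 2 ≠ 1) ∨ (2 : F) ≠ 0 := by
  classical
  by_contra hcon
  push Not at hcon
  obtain ⟨h1, h2⟩ := hcon
  have h3 : ∀ α : F, α = 0 ∨ α = 1 := by
    intro α
    by_cases hα : α = 0
    · exact Or.inl hα
    · right
      have h4 := h1 α hα
      have h5 : (α - 1) ^ 2 = 0 := by
        have : (α - 1) ^ 2 = α ^ 2 - 2 * α + 1 := by ring
        rw [this, h4, h2]
        ring_nf
        exact h2
      exact sub_eq_zero.mp (pow_eq_zero_iff (by norm_num) |>.mp h5)
  apply hq
  apply le_antisymm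
  · have : (Finset.univ : Finset F) ⊆ {0, 1} := by
      intro x _
      rcases h3 x with h | h
      · simp [h]
      · simp [h]
    calc Fintype.card F = (Finset.univ : Finset F).card := rfl
      _ ≤ ({0, 1} : Finset F).card := Finset.card_le_card this
      _ ≤ 2 := Finset.card_insert_le _ _ |>.trans (by simp)
  · exact Fintype.one_lt_card

/-- (F4) `n = 4`, `q ≠ 2`. -/
theorem f4 (hn : finrank F V = 4) (hq : Fintype.card F ≠ 2) {u v : V} (hu : u ≠ 0)
    (hv : v ∉ Submodule.span F {u})
    (K : Subgroup (V ≃ₗ[F] V)) (hKS : K ≤ SLV F V) (hKu : ∀ k ∈ K, ∃ α : F, k u = α • u)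
    (hKE : ∀ φ : Dual F V, φ u = 0 → tv u φ ∈ K → φ = 0)
    (hcov : ∀ g ∈ SLV F V, (∃ α : F, g u = α • u) → ∃ φ : Dual F V, φ u = 0 ∧ tv u φ * g ∈ K)
    (D : CData K u v) (ha : ∀ c : Dual F V, c u = 0 → c v = 0 → D.b c v = 0) :
    ∃ (c : Dual F V) (μ : F), c ≠ 0 ∧ c u = 0 ∧ c v = 0 ∧ D.b c = μ • c := by
  classical
  -- a basis `w₂, w₁, v, u`
  have hli2 : LinearIndependent F ![v, u] := by
    rw [linearIndependent_fin2]
    refine ⟨by simpa using hu, ?_⟩
    intro a h
    apply hv
    have h' : a • u = v := by simpa using h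
    rw [← h']
    exact Submodule.smul_mem _ _ (Submodule.mem_span_singleton_self u)
  obtain ⟨w₁, h3⟩ := exists_linearIndependent_cons_of_lt_finrank hli2 (by omega)
  obtain ⟨w₂, h4⟩ := exists_linearIndependent_cons_of_lt_finrank h3 (by omega)
  have hcard : Fintype.card (Fin 4) = finrank F V := by simp [hn]
  set e : Basis (Fin 4) F V := basisOfLinearIndependentOfCardEqFinrank h4 hcard with he
  have hecoe : ⇑e = Fin.cons w₂ (Fin.cons w₁ ![v, u]) :=
    coe_basisOfLinearIndependentOfCardEqFinrank h4 hcard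
  have he0 : e 0 = w₂ := by rw [hecoe]; rfl
  have he1 : e 1 = w₁ := by rw [hecoe]; rfl
  have he2 : e 2 = v := by rw [hecoe]; rfl
  have he3 : e 3 = u := by rw [hecoe]; rfl
  set c₂ : Dual F V := e.coord 0 with hc₂
  set c₁ : Dual F V := e.coord 1 with hc₁
  have c2w2 : c₂ w₂ = 1 := by rw [← he0, hc₂]; simp
  have c2w1 : c₂ w₁ = 0 := by rw [← he1, hc₂]; simp
  have c2v : c₂ v = 0 := by rw [← he2, hc₂]; simp
  have c2u : c₂ u = 0 := by rw [← he3, hc₂]; simp
  have c1w2 : c₁ w₂ = 0 := by rw [← he0, hc₁]; simp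
  have c1w1 : c₁ w₁ = 1 := by rw [← he1, hc₁]; simp
  have c1v : c₁ v = 0 := by rw [← he2, hc₁]; simp
  have c1u : c₁ u = 0 := by rw [← he3, hc₁]; simp
  set ψ : Dual F V := D.b c₂ with hψ
  have ψu : ψ u = 0 := D.b_u c₂ c2u c2v
  have ψv : ψ v = 0 := ha c₂ c2u c2v
  -- the key claim
  have key : ψ w₁ = 0 := by
    rcases f4_field_cases (F := F) hq with ⟨α, hα0, hα2⟩ | h2
    · -- diagonal element
      have hprod : ∏ i, (![1, α⁻¹, 1, α] : Fin 4 → F) i = 1 := by
        rw [Fin.prod_univ_four]
        simp [hα0]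
      obtain ⟨g, hgS, hg⟩ := f4_exists_sl_diag e ![1, α⁻¹, 1, α] hprod
      have gw2 : g w₂ = w₂ := by have := hg 0; rw [he0] at this; simpa using this
      have gw1 : g w₁ = α⁻¹ • w₁ := by have := hg 1; rw [he1] at this; simpa using this
      have gv : g v = v := by have := hg 2; rw [he2] at this; simpa using this
      have gu : g u = α • u := by have := hg 3; rw [he3] at this; simpa using this
      obtain ⟨φ₀, hφ₀u, hk⟩ := hcov g hgS ⟨α, gu⟩
      set k : V ≃ₗ[F] V := tv u φ₀ * g with hkdef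
      have hky : ∀ y, k y = g y + φ₀ (g y) • u := by
        intro y
        rw [hkdef, LinearEquiv.mul_apply, tv_apply hφ₀u]
      have hku : k u = α • u := by
        rw [hky, gu, map_smul, hφ₀u, smul_zero, zero_smul, add_zero]
      have hkv : k v = (1 : F) • v + φ₀ v • u := by
        rw [hky, gv, one_smul]
      have hc2g : ∀ y, c₂ (g y) = c₂ y := by
        intro y
        have : c₂ ∘ₗ (g : V →ₗ[F] V) = c₂ := by
          apply e.ext
          intro i
          fin_cases i
          · show c₂ (g (e 0)) = c₂ (e 0)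
            rw [he0, gw2]
          · show c₂ (g (e 1)) = c₂ (e 1)
            rw [he1, gw1, map_smul, c2w1, smul_zero]
          · show c₂ (g (e 2)) = c₂ (e 2)
            rw [he2, gv]
          · show c₂ (g (e 3)) = c₂ (e 3)
            rw [he3, gu, map_smul, c2u, smul_zero]
        exact congrArg (fun f : Dual F V => f y) this
      have hc2k : ∀ y, c₂ (k y) = c₂ y := by
        intro y
        rw [hky, map_add, map_smul, c2u, smul_zero, add_zero, hc2g]
      have hc2ks : c₂ ∘ₗ (k.symm : V →ₗ[F] V) = c₂ := by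
        apply LinearMap.ext
        intro x
        have := hc2k (k.symm x)
        rw [k.apply_symm_apply] at this
        simpa using this.symm
      have heq := D.b_equiv k hk α 1 (φ₀ v) hku hkv c₂ c2u c2v
      rw [hc2ks, one_smul] at heq
      have h1 := congrArg (fun f : Dual F V => f (k w₁)) heq
      simp only [LinearMap.add_apply, LinearMap.smul_apply, LinearMap.comp_apply,
        LinearEquiv.coe_coe, LinearEquiv.symm_apply_apply, smul_eq_mul] at h1
      rw [hc2k, c2w1, mul_zero, add_zero, hky, gw1] at h1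
      have h2 : (D.b c₂) (α⁻¹ • w₁ + φ₀ (α⁻¹ • w₁) • u) = α⁻¹ * ψ w₁ := by
        rw [map_add, map_smul, map_smul (D.b c₂)]
        show α⁻¹ • ψ w₁ + _ • ψ u = _
        rw [ψu, smul_zero, add_zero, smul_eq_mul]
      rw [h2] at h1
      have h3 : (α ^ 2 - 1) * ψ w₁ = 0 := by
        have : α * (α⁻¹ * ψ w₁) = α * (α * (D.b c₂) w₁) := by rw [h1]
        rw [← mul_assoc, mul_inv_cancel₀ hα0, one_mul] at this
        have h5 : (D.b c₂) w₁ = ψ w₁ := rfl
        rw [h5] at this
        linear_combination -this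
      rcases mul_eq_zero.mp h3 with h | h
      · exact absurd (sub_eq_zero.mp h) hα2
      · exact h
    · -- transvection `tv w₁ c₂`
      set g : V ≃ₗ[F] V := tv w₁ c₂ with hgdef
      have hgS : g ∈ SLV F V := tv_mem_SLV w₁ c₂
      have hgy : ∀ y, g y = y + c₂ y • w₁ := fun y => tv_apply c2w1 y
      have gu : g u = (1 : F) • u := by rw [hgy, c2u, zero_smul, add_zero, one_smul]
      obtain ⟨φ₀, hφ₀u, hk⟩ := hcov g hgS ⟨1, gu⟩
      set k : V ≃ₗ[F] V := tv u φ₀ * g with hkdef
      have hku : k u = (1 : F) • u := by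
        rw [hkdef, LinearEquiv.mul_apply, gu, one_smul, tv_apply hφ₀u, hφ₀u, zero_smul, add_zero]
      have hkv : k v = (1 : F) • v + φ₀ v • u := by
        rw [hkdef, LinearEquiv.mul_apply, hgy, c2v, zero_smul, add_zero, tv_apply hφ₀u, one_smul]
      have hks : ∀ x, k.symm x = x - φ₀ x • u - c₂ x • w₁ := by
        intro x
        have h1 : k.symm x = k⁻¹ x := rfl
        have hn1 : (-φ₀) u = 0 := by simp [hφ₀u]
        have hn2 : (-c₂) w₁ = 0 := by simp [c2w1]
        rw [h1, hkdef, mul_inv_rev, hgdef, tv_inv, tv_inv, LinearEquiv.mul_apply, tv_apply hn1,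
          tv_apply hn2]
        simp only [LinearMap.neg_apply, map_add, map_smul, map_neg, c2u, smul_eq_mul, mul_zero,
          smul_zero, neg_zero, add_zero, neg_smul]
        abel
      have hcomp : ∀ c : Dual F V, c u = 0 →
          c ∘ₗ (k.symm : V →ₗ[F] V) = c - c w₁ • c₂ := by
        intro c hcu
        apply LinearMap.ext
        intro x
        simp only [LinearMap.comp_apply, LinearEquiv.coe_coe, LinearMap.sub_apply,
          LinearMap.smul_apply, smul_eq_mul]
        rw [hks, map_sub, map_sub, map_smul, map_smul, hcu, smul_zero, sub_zero, smul_eq_mul]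
        ring
      -- first equation: `c = c₂`
      have heq1 := D.b_equiv k hk 1 1 (φ₀ v) hku hkv c₂ c2u c2v
      rw [hcomp c₂ c2u, hcomp (D.b c₂) ψu, c2w1, zero_smul, sub_zero, one_smul, one_smul] at heq1
      have e1 := congrArg (fun f : Dual F V => f w₂) heq1
      simp only [LinearMap.add_apply, LinearMap.sub_apply, LinearMap.smul_apply, smul_eq_mul,
        c2w2, mul_one] at e1
      have hε : φ₀ v = ψ w₁ := by
        have h5 : (D.b c₂) w₁ = ψ w₁ := rfl
        rw [h5] at e1
        linear_combination -e1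
      -- additivity facts
      have hb0 : D.b 0 = 0 := by
        have := D.b_add 0 0 (by simp) (by simp) (by simp) (by simp)
        rw [add_zero, smul_zero, sub_zero] at this
        exact left_eq_add.mp this
      have hn2u : (-c₂) u = 0 := by simp [c2u]
      have hn2v : (-c₂) v = 0 := by simp [c2v]
      have hbneg : D.b (-c₂) = -ψ := by
        have := D.b_add c₂ (-c₂) c2u c2v hn2u hn2v
        rw [add_neg_cancel, hb0, ha (-c₂) hn2u hn2v, zero_smul, sub_zero] at this
        exact (neg_eq_of_add_eq_zero_right this.symm).symm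
      have hbsub : D.b (c₁ - c₂) = D.b c₁ - ψ := by
        have := D.b_add c₁ (-c₂) c1u c1v hn2u hn2v
        rw [ha (-c₂) hn2u hn2v, zero_smul, sub_zero, hbneg, ← sub_eq_add_neg,
          ← sub_eq_add_neg] at this
        exact this
      -- second equation: `c = c₁`
      have ψ'u : (D.b c₁) u = 0 := D.b_u c₁ c1u c1v
      have heq2 := D.b_equiv k hk 1 1 (φ₀ v) hku hkv c₁ c1u c1v
      rw [hcomp c₁ c1u, hcomp (D.b c₁) ψ'u, c1w1, one_smul, one_smul, one_smul, hbsub] at heq2
      have e2 := congrArg (fun f : Dual F V => f w₁) heq2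
      simp only [LinearMap.add_apply, LinearMap.sub_apply, LinearMap.smul_apply, smul_eq_mul,
        c2w1, c1w1, mul_zero, sub_zero, mul_one] at e2
      rw [hε] at e2
      have h6 : (2 : F) * ψ w₁ = 0 := by linear_combination -e2
      rcases mul_eq_zero.mp h6 with h | h
      · exact absurd h h2
      · exact h
  refine ⟨c₂, ψ w₂, ?_, c2u, c2v, ?_⟩
  · intro h0
    rw [h0] at c2w2
    simp at c2w2
  · apply e.ext
    intro i
    fin_cases i
    · show ψ (e 0) = (ψ w₂ • c₂) (e 0)
      rw [he0, LinearMap.smul_apply, c2w2, smul_eq_mul, mul_one]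
    · show ψ (e 1) = (ψ w₂ • c₂) (e 1)
      rw [he1, LinearMap.smul_apply, c2w1, smul_zero, key]
    · show ψ (e 2) = (ψ w₂ • c₂) (e 2)
      rw [he2, LinearMap.smul_apply, c2v, smul_zero, ψv]
    · show ψ (e 3) = (ψ w₂ • c₂) (e 3)
      rw [he3, LinearMap.smul_apply, c2u, smul_zero, ψu]

end Cfsg.Agent.Helper96.MD

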