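import Mathlib
import Cfsg.Prelude.Def_TwoFusion
import Cfsg.Prelude.Def_CaseTheorems
import Cfsg.Prelude.Def_Local
import Cfsg.Agent.Lib.Helper20.Isolated

/-!
# Group-theoretic lemmas for the Glauberman Z*-theorem (dihedral computations)
-/

set_option autoImplicit false

namespace Cfsg.Agent.Helper96.ZStar

open Cfsg.Agent.Helper20

universe u

variable {G : Type u} [Group G]

/-- Z* (in the odd-core form) for all groups of the universe of order `< n`. -/
def ZBelow (n : ℕ) : Prop :=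
  ∀ (H : Type u) [Group H] [Finite H], Nat.card H < n →
    ∀ z : H, Cfsg.IsIsolatedInvolution z → ∀ g : H, z * g * z⁻¹ * g⁻¹ ∈ Cfsg.oddCore H

lemma sq_one_of_order_two {a : G} (h : orderOf a = 2) : a * a = 1 := by
  have h2 : a ^ 2 = 1 := by rw [← h]; exact pow_orderOf_eq_one a
  rwa [pow_two] at h2

lemma ne_one_of_order_two {a : G} (h : orderOf a = 2) : a ≠ 1 := by
  intro h1
  rw [h1, orderOf_one] at h
  omega

lemma order_two_of_sq {a : G} (h : a * a = 1) (h1 : a ≠ 1) : orderOf a = 2 := by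
  apply orderOf_eq_prime
  · rwa [pow_two]
  · exact h1

/-- two involutions whose product has odd order are conjugate -/
lemma invol_conj_of_odd {a b : G} (ha : a * a = 1) (hb : b * b = 1)
    (hodd : Odd (orderOf (a * b))) : ∃ c : G, c * a * c⁻¹ = b := by
  obtain ⟨n, hn⟩ := hodd
  refine ⟨(a * b) ^ n, ?_⟩
  rw [rot_conj_z ha hb]
  have h1 : (a * b) ^ (2 * n) * (a * b) = 1 := by
    rw [← pow_succ, ← hn, pow_orderOf_eq_one]
  calc (a * b) ^ (2 * n) * a = (a * b) ^ (2 * n) * (a * b) * b := by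
        rw [mul_assoc _ (a * b) b, mul_assoc a b b, hb, mul_one]
    _ = b := by rw [h1, one_mul]

/-- an involution commuting with an isolated involution `t` and different from `t` is not
conjugate to `t`; hence its product with any conjugate of `t` has even order. -/
lemma not_odd_mul_conj {t s : G} (ht : Cfsg.IsIsolatedInvolution t) (hs : s * s = 1)
    (hst : Commute s t) (hne : s ≠ t) (g : G) : ¬ Odd (orderOf (s * (g * t * g⁻¹))) := by
  intro hodd
  have hx : (g * t * g⁻¹) * (g * t * g⁻¹) = 1 := iso_sq (iso_conj ht g)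
  obtain ⟨c, hc⟩ := invol_conj_of_odd hs hx hodd
  -- s = c⁻¹ (g t g⁻¹) c
  have hs' : s = (c⁻¹ * g) * t * (c⁻¹ * g)⁻¹ := by
    have : s = c⁻¹ * (g * t * g⁻¹) * c := by rw [← hc]; group
    rw [this]; group
  have := ht.2 (c⁻¹ * g) (by rw [← hs']; exact hst.symm)
  exact hne (hs'.trans this)

section dihedral

variable {s x : G}

/-- the central involution of the dihedral group generated by `s`, `x` when `s * x` has even
order `2 * k`. -/
lemma dih_center_sq (k : ℕ) (hk : orderOf (s * x) = 2 * k) :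
    (s * x) ^ k * (s * x) ^ k = 1 := by
  rw [← pow_add, ← two_mul, ← hk, pow_orderOf_eq_one]

lemma dih_center_ne_one (k : ℕ) (hk0 : 0 < k) (hk : orderOf (s * x) = 2 * k) :
    (s * x) ^ k ≠ 1 := by
  intro h1
  have := orderOf_le_of_pow_eq_one hk0 h1
  omega

/-- `s` commutes with the central involution -/
lemma dih_center_comm_s (hs : s * s = 1) (hx : x * x = 1) (k : ℕ)
    (hk : orderOf (s * x) = 2 * k) : Commute s ((s * x) ^ k) := by
  have h1 := invol_conj_pow hs hx k
  have h2 : ((s * x) ^ k)⁻¹ = (s * x) ^ k := inv_eq_of_mul_eq_one_left (dih_center_sq k hk)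
  rw [h2] at h1
  show s * (s * x) ^ k = (s * x) ^ k * s
  calc s * (s * x) ^ k = (s * (s * x) ^ k * s⁻¹) * s := by group
    _ = _ := by rw [h1]

lemma dih_center_comm_x (hs : s * s = 1) (hx : x * x = 1) (k : ℕ)
    (hk : orderOf (s * x) = 2 * k) : Commute x ((s * x) ^ k) := by
  have h1 := invol_conj_pow' hs hx k
  have h2 : ((s * x) ^ k)⁻¹ = (s * x) ^ k := inv_eq_of_mul_eq_one_left (dih_center_sq k hk)
  rw [h2] at h1
  show x * (s * x) ^ k = (s * x) ^ k * x
  calc x * (s * x) ^ k = (x * (s * x) ^ k * x⁻¹) * x := by group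
    _ = _ := by rw [h1]

/-- the order of `(s x)^2` is `k` -/
lemma dih_orderOf_sq (k : ℕ) (hk0 : 0 < k) (hk : orderOf (s * x) = 2 * k) :
    orderOf ((s * x) * (s * x)) = k := by
  rw [← pow_two, orderOf_pow' _ (by norm_num : (2 : ℕ) ≠ 0), hk]
  rw [Nat.gcd_eq_right (Dvd.intro k rfl)]
  omega

/-- for `k = 2 j + 1` odd: `s x = z * v` with `v` a power of `(s x)^2` -/
lemma dih_decomp (j : ℕ) (hk : orderOf (s * x) = 2 * (2 * j + 1)) :
    s * x = (s * x) ^ (2 * j + 1) * ((s * x) * (s * x)) ^ (j + 1) := by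
  rw [← pow_two, ← pow_mul, ← pow_add]
  have : 2 * j + 1 + 2 * (j + 1) = orderOf (s * x) + 1 := by omega
  rw [this, pow_succ, pow_orderOf_eq_one, one_mul]

/-- for `k = 2 j + 1` odd: `s z` is conjugate to `x` -/
lemma dih_conj_sz (hs : s * s = 1) (hx : x * x = 1) (j : ℕ)
    (hk : orderOf (s * x) = 2 * (2 * j + 1)) :
    (s * x) ^ (j + 1) * x * ((s * x) ^ (j + 1))⁻¹ = s * (s * x) ^ (2 * j + 1) := by
  rw [rot_conj_t hs hx]
  have hc := dih_center_comm_s hs hx (2 * j + 1) hk
  rw [hc.eq]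
  rw [show 2 * (j + 1) = (2 * j + 1) + 1 by ring, pow_succ, mul_assoc, mul_assoc s x x, hx, mul_one]

end dihedral

end Cfsg.Agent.Helper96.ZStar
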