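import Mathlib
import Cfsg.Agent.Lib.Helper96.ZStarGrp
import Cfsg.Agent.Lib.Helper55.Cores
import Cfsg.Agent.S1180

/-!
# Z*-theorem: passing to proper subgroups
-/

set_option autoImplicit false

namespace Cfsg.Agent.Helper96.ZStar

open Cfsg.Agent.Helper20

universe u

variable {G : Type u} [Group G]

/-- an isolated involution of `G` lying in `H` is isolated in `H` -/
lemma isolated_subtype {x : G} (hx : Cfsg.IsIsolatedInvolution x) (H : Subgroup G)
    (hxH : x ∈ H) : Cfsg.IsIsolatedInvolution (⟨x, hxH⟩ : H) := by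
  refine ⟨?_, ?_⟩
  · rw [← hx.1]
    exact (Subgroup.orderOf_mk x hxH)
  · intro h hc
    apply Subtype.ext
    have h1 : Commute x ((h : G) * x * (h : G)⁻¹) := by
      have := congrArg (Subtype.val) hc.eq
      show x * ((h : G) * x * (h : G)⁻¹) = (h : G) * x * (h : G)⁻¹ * x
      simpa using this
    simpa using hx.2 (h : G) h1

/-- the inductive hypothesis applied to a proper subgroup -/
lemma ih_sub [Finite G] (IH : ZBelow.{u} (Nat.card G)) {x : G}
    (hx : Cfsg.IsIsolatedInvolution x) (H : Subgroup G) (hH : H ≠ ⊤) (hxH : x ∈ H)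
    (h : G) (hh : h ∈ H) :
    x * h * x⁻¹ * h⁻¹ ∈ (Cfsg.oddCore H).map H.subtype := by
  have hcard : Nat.card H < Nat.card G := by
    rcases lt_or_eq_of_le (Subgroup.card_le_card_group H) with h1 | h1
    · exact h1
    · exact absurd ((Subgroup.card_eq_iff_eq_top H).mp h1) hH
  have := IH H hcard ⟨x, hxH⟩ (isolated_subtype hx H hxH) ⟨h, hh⟩
  exact ⟨_, this, rfl⟩

/-- elements of the odd core have odd order -/
lemma odd_of_mem_oddCore [Finite G] {a : G} (ha : a ∈ Cfsg.oddCore G) : Odd (orderOf a) := by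
  have h1 : (Nat.card (Cfsg.pPrimeCore 2 G)).Coprime 2 := Cfsg.Agent.Helper55.pPrimeCore_coprime 2
  have h2 : orderOf (⟨a, ha⟩ : Cfsg.pPrimeCore 2 G) ∣ Nat.card (Cfsg.pPrimeCore 2 G) :=
    orderOf_dvd_natCard _
  rw [Subgroup.orderOf_mk] at h2
  have h3 : (orderOf a).Coprime 2 := Nat.Coprime.coprime_dvd_left h2 h1
  exact (Nat.coprime_two_right (n := orderOf a)).mp h3

lemma odd_of_mem_oddCore_map [Finite G] (H : Subgroup G) {a : G}
    (ha : a ∈ (Cfsg.oddCore H).map H.subtype) : Odd (orderOf a) := by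
  obtain ⟨b, hb, rfl⟩ := ha
  have := odd_of_mem_oddCore hb
  simpa using this

lemma mem_of_mem_oddCore_map (H : Subgroup G) {a : G}
    (ha : a ∈ (Cfsg.oddCore H).map H.subtype) : a ∈ H := by
  obtain ⟨b, _, rfl⟩ := ha
  exact b.2

/-- an involution `a` inverting an element `o` of odd order: `a * o` is conjugate to `a` -/
lemma conj_of_inverts_odd {a o : G} (hinv : a * o * a⁻¹ = o⁻¹) (hodd : Odd (orderOf o)) :
    ∃ d : G, a * o = d⁻¹ * a * d := by
  obtain ⟨n, hn⟩ := hodd
  refine ⟨o ^ (n + 1), ?_⟩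
  have hdd : o ^ (n + 1) * o ^ (n + 1) = o := by
    rw [← pow_add, show n + 1 + (n + 1) = orderOf o + 1 by omega, pow_succ, pow_orderOf_eq_one,
      one_mul]
  have hd : a * o ^ (n + 1) * a⁻¹ = (o ^ (n + 1))⁻¹ := by
    rw [conj_pow', hinv, inv_pow]
  have h1 : a * o ^ (n + 1) = (o ^ (n + 1))⁻¹ * a := by
    calc a * o ^ (n + 1) = (a * o ^ (n + 1) * a⁻¹) * a := by group
      _ = _ := by rw [hd]
  have h2 : a * o = o⁻¹ * a := by
    calc a * o = (a * o * a⁻¹) * a := by group
      _ = _ := by rw [hinv]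
  rw [h2, mul_assoc, h1, ← mul_assoc, ← mul_inv_rev, hdd]

/-- Step 4: if `y` is a conjugate of the isolated involution `t` commuting with the involution
`s` (which commutes with `t` and is not central), then `s * y` is conjugate to `s * t`. -/
lemma conj_st [Finite G] (IH : ZBelow.{u} (Nat.card G)) {t s : G}
    (ht : Cfsg.IsIsolatedInvolution t) (hs : s * s = 1) (hst : Commute s t)
    (hsc : Subgroup.centralizer ({s} : Set G) ≠ ⊤) (g : G)
    (hy : Commute s (g * t * g⁻¹)) :
    ∃ d : G, s * (g * t * g⁻¹) = d⁻¹ * (s * t) * d := by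
  set D := Subgroup.centralizer ({s} : Set G) with hD
  have htD : t ∈ D := by
    rw [hD, Subgroup.mem_centralizer_iff]
    intro a ha
    rw [Set.mem_singleton_iff] at ha
    subst ha
    exact hst.eq
  have hyD : g * t * g⁻¹ ∈ D := by
    rw [hD, Subgroup.mem_centralizer_iff]
    intro a ha
    rw [Set.mem_singleton_iff] at ha
    subst ha
    exact hy.eq
  obtain ⟨h, hhD, hh⟩ := Cfsg.Agent.S1180.result t ht D htD g hyD
  have ho := ih_sub IH ht D hsc htD h hhD
  have htt := iso_sq ht
  have htinv := iso_inv ht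
  set y := g * t * g⁻¹ with hy_def
  have hyy : y * y = 1 := iso_sq (iso_conj ht g)
  have hyinv : y⁻¹ = y := invol_inv hyy
  -- o = t * y
  have ho_eq : t * h * t⁻¹ * h⁻¹ = t * y := by
    rw [← hh, htinv]
    group
  rw [ho_eq] at ho
  have hoodd := odd_of_mem_oddCore_map D ho
  have hoD := mem_of_mem_oddCore_map D ho
  have hso : s * (t * y) = (t * y) * s := by
    rw [hD, Subgroup.mem_centralizer_iff] at hoD
    exact hoD s rfl
  have hinv : (s * t) * (t * y) * (s * t)⁻¹ = (t * y)⁻¹ := by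
    have hsinv : s⁻¹ = s := invol_inv hs
    rw [mul_inv_rev, mul_inv_rev, htinv, hsinv, hyinv]
    -- s t t y t s = y t
    calc s * t * (t * y) * (t * s) = s * (t * t) * y * t * s := by group
      _ = s * (y * t) * s := by rw [htt]; group
      _ = (y * t) * (s * s) := by
          have : s * (y * t) = (y * t) * s := by
            rw [← mul_assoc, hy.eq, mul_assoc, hst.eq, ← mul_assoc]
          rw [this, mul_assoc]
      _ = y * t := by rw [hs, mul_one]
  obtain ⟨d, hd⟩ := conj_of_inverts_odd hinv hoodd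
  refine ⟨d, ?_⟩
  rw [← hd]
  calc s * y = s * (t * t) * y := by rw [htt, mul_one]
    _ = s * t * (t * y) := by group

end Cfsg.Agent.Helper96.ZStar
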