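import Mathlib
import Cfsg.Agent.Lib.Helper96.ZStarSub
import Cfsg.Agent.S0942
import Cfsg.Agent.S0943
import Cfsg.Agent.S0925
import Cfsg.Agent.S4611
import Cfsg.Agent.Lib.Helper74.DefectZero
import Cfsg.Agent.Lib.Helper77.Principal
import Cfsg.Agent.Lib.Helper80.CharBasic

/-!
# Z*-theorem: the character-theoretic core

In a minimal situation (`O(G) = 1`, no central involution, Z* known for all smaller groups), an
isolated involution `t` commutes with no other involution.
-/

set_option autoImplicit false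

namespace Cfsg.Agent.Helper96.ZStar

open Cfsg Cfsg.Agent.Helper20

universe u

variable {G : Type u} [Group G]

lemma centralizer_ne_top_of_not_mem_center {z : G} (hz : z ∉ Subgroup.center G) :
    Subgroup.centralizer ({z} : Set G) ≠ ⊤ := by
  intro h
  apply hz
  rw [Subgroup.mem_center_iff]
  intro g
  have hg : g ∈ Subgroup.centralizer ({z} : Set G) := by rw [h]; trivial
  rw [Subgroup.mem_centralizer_iff] at hg
  exact (hg z rfl).symm

lemma mem_centralizer_singleton {z a : G} (h : Commute a z) :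
    a ∈ Subgroup.centralizer ({z} : Set G) := by
  rw [Subgroup.mem_centralizer_iff]
  intro b hb
  rw [Set.mem_singleton_iff] at hb
  subst hb
  exact h.eq.symm

variable [Finite G]

/-- Steps 2–4: principal block characters are constant on `s * t^G`. -/
lemma value_eq (IH : ZBelow.{u} (Nat.card G))
    (hZ : ∀ z : G, orderOf z = 2 → z ∉ Subgroup.center G)
    {t s : G} (ht : IsIsolatedInvolution t) (hs : orderOf s = 2) (hst : Commute s t)
    (hne : s ≠ t) (M : Ideal AlgInt) (hM : IsPModular 2 M) (χ : IrrCharacter G)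
    (hχ : χ ∈ principalBlock M G) (g : G) :
    (χ : G → ℂ) (s * (g * t * g⁻¹)) = (χ : G → ℂ) (s * t) := by
  have hss : s * s = 1 := sq_one_of_order_two hs
  have hxiso := iso_conj ht g
  set x := g * t * g⁻¹ with hx_def
  have hxx : x * x = 1 := iso_sq hxiso
  -- the order of `s x` is even
  have heven : ¬ Odd (orderOf (s * x)) := not_odd_mul_conj ht hss hst hne g
  rw [Nat.not_odd_iff_even] at heven
  obtain ⟨k, hk'⟩ := heven
  have hk : orderOf (s * x) = 2 * k := by omega
  have hk0 : 0 < k := by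
    have := orderOf_pos (s * x)
    omega
  set z := (s * x) ^ k with hz_def
  have hzz : z * z = 1 := dih_center_sq k hk
  have hz1 : z ≠ 1 := dih_center_ne_one k hk0 hk
  have hz2 : orderOf z = 2 := order_two_of_sq hzz hz1
  have hsz : Commute s z := dih_center_comm_s hss hxx k hk
  have hxz : Commute x z := dih_center_comm_x hss hxx k hk
  have hC : Subgroup.centralizer ({z} : Set G) ≠ ⊤ :=
    centralizer_ne_top_of_not_mem_center (hZ z hz2)
  have hxC : x ∈ Subgroup.centralizer ({z} : Set G) := mem_centralizer_singleton hxz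
  have hsC : s ∈ Subgroup.centralizer ({z} : Set G) := mem_centralizer_singleton hsz
  have h1 := ih_sub IH hxiso _ hC hxC s hsC
  have hsinv : s⁻¹ = s := invol_inv hss
  have hxinv : x⁻¹ = x := invol_inv hxx
  have hw : (s * x) * (s * x) ∈
      (oddCore (Subgroup.centralizer ({z} : Set G))).map
        (Subgroup.centralizer ({z} : Set G)).subtype := by
    have h2 : (s * x) * (s * x) = (x * s * x⁻¹ * s⁻¹)⁻¹ := by
      rw [hsinv, hxinv]
      simp only [mul_inv_rev, hsinv, hxinv, mul_assoc]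
    rw [h2]
    exact Subgroup.inv_mem _ h1
  have hwodd := odd_of_mem_oddCore_map _ hw
  rw [dih_orderOf_sq k hk0 hk] at hwodd
  obtain ⟨j, hj⟩ := hwodd
  subst hj
  -- decomposition
  have hdec := dih_decomp (s := s) (x := x) j hk
  have hv : ((s * x) * (s * x)) ^ (j + 1) ∈ centralizerPPrimeCore 2 z :=
    Subgroup.pow_mem _ hw _
  have e1 : (χ : G → ℂ) (s * x) = (χ : G → ℂ) z := by
    rw [hdec]
    exact Cfsg.Agent.S0942.result 2 M hM z ⟨1, by rw [hz2]; norm_num⟩ _ hv χ hχ
  -- conjugacy of `s z` and `x`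
  have hcz := dih_conj_sz hss hxx j hk
  have hsc : Subgroup.centralizer ({s} : Set G) ≠ ⊤ :=
    centralizer_ne_top_of_not_mem_center (hZ s hs)
  have hconj : ((s * x) ^ (j + 1) * g) * t * ((s * x) ^ (j + 1) * g)⁻¹ = s * z := by
    rw [← hcz, hx_def]
    group
  have hcomm : Commute s (((s * x) ^ (j + 1) * g) * t * ((s * x) ^ (j + 1) * g)⁻¹) := by
    rw [hconj]
    exact (Commute.refl s).mul_right hsz
  obtain ⟨d, hd⟩ := conj_st IH ht hss hst hsc ((s * x) ^ (j + 1) * g) hcomm
  rw [hconj] at hd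
  have hz_eq : z = d⁻¹ * (s * t) * (d⁻¹)⁻¹ := by
    rw [inv_inv, ← hd, ← mul_assoc, hss, one_mul]
  rw [e1, hz_eq, Cfsg.Agent.Helper80.irr_conj_class]

/-- Step 4': the multiplicativity relation from S0943. -/
lemma mult_eq (IH : ZBelow.{u} (Nat.card G))
    (hZ : ∀ z : G, orderOf z = 2 → z ∉ Subgroup.center G)
    {t s : G} (ht : IsIsolatedInvolution t) (hs : orderOf s = 2) (hst : Commute s t)
    (hne : s ≠ t) (M : Ideal AlgInt) (hM : IsPModular 2 M) (χ : IrrCharacter G)
    (hχ : χ ∈ principalBlock M G) :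
    (χ : G → ℂ) s * (χ : G → ℂ) t = (χ : G → ℂ) 1 * (χ : G → ℂ) (s * t) := by
  apply Cfsg.Agent.S0943.result χ s t
  intro x' y' hx' hy'
  obtain ⟨a, ha⟩ := isConj_iff.1 hx'
  obtain ⟨b, hb⟩ := isConj_iff.1 hy'
  have h1 : x' * y' = a * (s * ((a⁻¹ * b) * t * (a⁻¹ * b)⁻¹)) * a⁻¹ := by
    rw [← ha, ← hb]; group
  rw [h1, Cfsg.Agent.Helper80.irr_conj_class]
  exact value_eq IH hZ ht hs hst hne M hM χ hχ (a⁻¹ * b)

/-- Step 5: an irreducible character with `t` in its kernel is trivial. -/
lemma triv_of_ker (IH : ZBelow.{u} (Nat.card G)) (hO : oddCore G = ⊥)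
    (hZ : ∀ z : G, orderOf z = 2 → z ∉ Subgroup.center G)
    {t : G} (ht : IsIsolatedInvolution t) (χ : IrrCharacter G)
    (hχ : (χ : G → ℂ) t = (χ : G → ℂ) 1) : (χ : G → ℂ) = fun _ => 1 := by
  by_cases hN : Cfsg.Agent.Helper79.irrKer χ = ⊤
  · exact Cfsg.Agent.S4611.eq_one_of_irrKer_eq_top χ hN
  · exfalso
    set N := Cfsg.Agent.Helper79.irrKer χ with hN_def
    have htN : t ∈ N := (Cfsg.Agent.Helper79.mem_irrKer χ t).2 hχ
    have hcent : ∀ n ∈ N, t * n * t⁻¹ * n⁻¹ = 1 := by
      intro n hn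
      have h1 := ih_sub IH ht N hN htN n hn
      have h2 : (oddCore N).map N.subtype ≤ oddCore G :=
        Cfsg.Agent.Helper55.pPrimeCore_map_le 2 N
      have h3 := h2 h1
      rw [hO, Subgroup.mem_bot] at h3
      exact h3
    apply hZ t ht.1
    rw [Subgroup.mem_center_iff]
    intro g
    have hgN : g * t * g⁻¹ ∈ N := (inferInstance : N.Normal).conj_mem t htN g
    have h1 := hcent _ hgN
    have hc : Commute t (g * t * g⁻¹) := by
      show t * (g * t * g⁻¹) = (g * t * g⁻¹) * t
      have : t * (g * t * g⁻¹) * t⁻¹ * (g * t * g⁻¹)⁻¹ = 1 := h1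
      calc t * (g * t * g⁻¹) = (t * (g * t * g⁻¹) * t⁻¹ * (g * t * g⁻¹)⁻¹) * ((g * t * g⁻¹) * t) := by
            group
        _ = _ := by rw [this, one_mul]
    have h2 := ht.2 g hc
    calc g * t = (g * t * g⁻¹) * g := by group
      _ = t * g := by rw [h2]

/-- **The core of the Z*-theorem**: in a minimal situation, an isolated involution commutes with
no other involution. -/
theorem no_second_involution (IH : ZBelow.{u} (Nat.card G)) (hO : Cfsg.oddCore G = ⊥)
    (hZ : ∀ z : G, orderOf z = 2 → z ∉ Subgroup.center G) (t : G)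
    (ht : Cfsg.IsIsolatedInvolution t) (s : G) (hs : orderOf s = 2) (hst : Commute s t)
    (hne : s ≠ t) : False := by
  classical
  obtain ⟨M, hM⟩ := Cfsg.Agent.Helper74.DZ.exists_isPModular 2 Nat.prime_two
  have hprime : M.IsPrime := Cfsg.Agent.Helper77.isPrime_of_isPModular hM
  have hss : s * s = 1 := sq_one_of_order_two hs
  have htt : t * t = 1 := iso_sq ht
  have hs1 : s ≠ 1 := ne_one_of_order_two hs
  -- the second involution `s * t`
  have hst1 : s * t ≠ 1 := by
    intro h
    apply hne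
    have : s = t⁻¹ := eq_inv_of_mul_eq_one_left h
    rw [this, iso_inv ht]
  have hstst : (s * t) * (s * t) = 1 := by
    calc (s * t) * (s * t) = s * (t * s) * t := by group
      _ = s * (s * t) * t := by rw [hst.eq]
      _ = (s * s) * (t * t) := by group
      _ = 1 := by rw [hss, htt, one_mul]
  have hs' : orderOf (s * t) = 2 := order_two_of_sq hstst hst1
  have hst' : Commute (s * t) t := hst.mul_left (Commute.refl t)
  have hne' : s * t ≠ t := by
    intro h
    apply hs1
    have := mul_right_cancel (h.trans (one_mul t).symm)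
    exact this
  have hstt : s * t * t = s := by rw [mul_assoc, htt, mul_one]
  set B := principalBlock M G with hB
  have hBblock : IsPBlock M B := Cfsg.Agent.Helper77.isPBlock_principalBlock M
  have hF : Fact (Nat.Prime 2) := ⟨Nat.prime_two⟩
  have hortho := (Cfsg.Agent.S0925.result (G := G) 2 M hM).2
  have hpp1 : IsPPart 2 (1 : G) 1 :=
    ⟨1, mul_one 1, Commute.one_right 1, ⟨0, by simp⟩, by simp⟩
  have hpps : IsPPart 2 s s :=
    ⟨1, mul_one s, Commute.one_right s, ⟨1, by rw [hs]; norm_num⟩, by simp⟩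
  have hppst : IsPPart 2 (s * t) (s * t) :=
    ⟨1, mul_one _, Commute.one_right _, ⟨1, by rw [hs']; norm_num⟩, by simp⟩
  have hnc1 : ¬ IsConj s 1 := by
    rw [isConj_one_left]; exact hs1
  have hnc2 : ¬ IsConj (s * t) 1 := by
    rw [isConj_one_left]; exact hst1
  have hsum1 := hortho s 1 s 1 hpps hpp1 hnc1 B hBblock
  have hsum2 := hortho (s * t) 1 (s * t) 1 hppst hpp1 hnc2 B hBblock
  -- the pointwise evaluation
  have hpt : ∀ χ ∈ B, (χ : G → ℂ) s * (χ : G → ℂ) (1 : G)⁻¹ +
      (χ : G → ℂ) (s * t) * (χ : G → ℂ) (1 : G)⁻¹ =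
      if χ = Cfsg.Agent.Helper77.trivIrr G then 2 else 0 := by
    intro χ hχ
    rw [inv_one]
    have E1 := mult_eq IH hZ ht hs hst hne M hM χ hχ
    have E2 := mult_eq IH hZ ht hs' hst' hne' M hM χ hχ
    rw [hstt] at E2
    by_cases hcase : (χ : G → ℂ) t = (χ : G → ℂ) 1
    · have htriv := triv_of_ker IH hO hZ ht χ hcase
      have : χ = Cfsg.Agent.Helper77.trivIrr G := by
        apply Subtype.ext
        rw [htriv]
        funext g
        rfl
      rw [if_pos this, htriv]
      norm_num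
    · have hne_triv : χ ≠ Cfsg.Agent.Helper77.trivIrr G := by
        intro h
        apply hcase
        rw [h]
        rfl
      rw [if_neg hne_triv]
      have hd : (χ : G → ℂ) 1 ≠ 0 := Cfsg.Agent.Helper80.irr_one_ne_zero χ
      have h3 : ((χ : G → ℂ) s + (χ : G → ℂ) (s * t)) *
          ((χ : G → ℂ) t - (χ : G → ℂ) 1) = 0 := by
        linear_combination E1 + E2
      rcases mul_eq_zero.1 h3 with h4 | h4
      · rw [← add_mul, h4, zero_mul]
      · exact absurd (sub_eq_zero.1 h4) hcase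
  have hfin : ∀ f : IrrCharacter G → ℂ, (B ∩ Function.support f).Finite :=
    fun f => Set.toFinite _
  have hsum : ∑ᶠ χ ∈ B, ((χ : G → ℂ) s * (χ : G → ℂ) (1 : G)⁻¹ +
      (χ : G → ℂ) (s * t) * (χ : G → ℂ) (1 : G)⁻¹) = 0 := by
    rw [finsum_mem_add_distrib' (hfin _) (hfin _), hsum1, hsum2, add_zero]
  rw [finsum_mem_congr rfl hpt] at hsum
  have htrivB : Cfsg.Agent.Helper77.trivIrr G ∈ B := Cfsg.Agent.Helper77.trivIrr_mem_principalBlock M
  have : ∑ᶠ χ ∈ B, (if χ = Cfsg.Agent.Helper77.trivIrr G then (2 : ℂ) else 0) = 2 := by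
    rw [finsum_mem_def, finsum_eq_single _ (Cfsg.Agent.Helper77.trivIrr G)]
    · rw [Set.indicator_of_mem htrivB, if_pos rfl]
    · intro χ hχ
      by_cases hχB : χ ∈ B
      · rw [Set.indicator_of_mem hχB, if_neg hχ]
      · rw [Set.indicator_of_notMem hχB]
  rw [this] at hsum
  norm_num at hsum

end Cfsg.Agent.Helper96.ZStar
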