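import Mathlib
import Cfsg.Agent.Lib.Helper96.ZStarCore
import Cfsg.Agent.Lib.Helper94.ZStarRed
import Cfsg.Agent.Lib.Helper20.ZStarCor

/-!
# Glauberman's Z*-theorem, conditional on the Brauer–Suzuki theorem (statement of S0201)

`zstar_of_bs` : Z* in the odd-core form for isolated involutions;
`s0215_of_bs` : the statement of S0215;
`zStarHyp_of_bs` : helper20's `ZStarHyp`.
All three only need `Cfsg.Agent.Helper94.ZStar.BSHyp`, which is discharged by
`fun G _ _ S n e hO => Cfsg.Agent.S0201.result S n e hO`.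
-/

set_option autoImplicit false

namespace Cfsg.Agent.Helper96.ZStar

universe u

/-- the two copies of `ZBelow` agree -/
theorem zBelow_iff (n : ℕ) : ZBelow.{u} n ↔ Cfsg.Agent.Helper94.ZStar.ZBelow.{u} n := Iff.rfl

/-- the character-theoretic core in the shape wanted by `Helper94.ZStar.zstar_of_core` -/
theorem core_for_red :
    ∀ (G : Type u) [Group G] [Finite G], Cfsg.Agent.Helper94.ZStar.ZBelow.{u} (Nat.card G) →
      Cfsg.oddCore G = ⊥ →
      (∀ z : G, orderOf z = 2 → z ∉ Subgroup.center G) → ∀ t : G, Cfsg.IsIsolatedInvolution t →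
      ∀ s : G, orderOf s = 2 → Commute s t → s ≠ t → False :=
  fun _ _ _ IH hO hZ t ht s hs hst hne =>
    no_second_involution ((zBelow_iff _).2 IH) hO hZ t ht s hs hst hne

/-- Z* (odd-core form) from Brauer–Suzuki -/
theorem zstar_of_bs (bs : Cfsg.Agent.Helper94.ZStar.BSHyp.{u}) (G : Type u) [Group G] [Finite G]
    (z : G) (hz : Cfsg.IsIsolatedInvolution z) (g : G) :
    z * g * z⁻¹ * g⁻¹ ∈ Cfsg.oddCore G :=
  Cfsg.Agent.Helper94.ZStar.zstar_of_core bs core_for_red G z hz g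

/-- the statement of S0215 from Brauer–Suzuki -/
theorem s0215_of_bs (bs : Cfsg.Agent.Helper94.ZStar.BSHyp.{u}) {G : Type u} [Group G] [Finite G]
    (P : Sylow 2 G) (x : G) (hx : orderOf x = 2)
    (hxP : x ∈ P) (hiso : ∀ g : G, g * x * g⁻¹ ∈ P → g * x * g⁻¹ = x) :
    ∃ N : Subgroup G, N.Normal ∧ Odd (Nat.card N) ∧ ∀ g : G, (x * g * x⁻¹ * g⁻¹) ∈ N :=
  Cfsg.Agent.Helper94.ZStar.s0215_of_core bs core_for_red P x hx hxP hiso

/-- helper20's `ZStarHyp` from Brauer–Suzuki -/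
theorem zStarHyp_of_bs (bs : Cfsg.Agent.Helper94.ZStar.BSHyp.{u}) :
    Cfsg.Agent.Helper20.ZStarHyp.{u} :=
  fun _ _ _ P x hx hxP hiso => s0215_of_bs bs P x hx hxP hiso

end Cfsg.Agent.Helper96.ZStar
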