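import Mathlib
import Cfsg.Agent.Lib.Helper4.BS.Invol

/-!
# GT3 for the Brauer–Suzuki Q8 project: products of conjugate involutions have odd order
-/

set_option autoImplicit false

namespace Cfsg.Agent.Helper96.BSQ8GT

universe u

/-- If a Sylow 2-subgroup of `G` is quaternion of order 8, the product of two conjugates of an
involution has odd order. -/
theorem q8_odd_mul_conj {G : Type u} [Group G] [Finite G] (S : Sylow 2 G)
    (e : (S : Subgroup G) ≃* QuaternionGroup 2) (g h z : G) (hz : orderOf z = 2) :
    Odd (orderOf (g * z * g⁻¹ * (h * z * h⁻¹))) := by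
  rw [← Nat.not_even_iff_odd]
  have h1 : orderOf (g * z * g⁻¹) = 2 := by
    simpa using ((MulAut.conj g).orderOf_eq z).trans hz
  have h2 : orderOf (h * z * h⁻¹) = 2 := by
    simpa using ((MulAut.conj h).orderOf_eq z).trans hz
  exact Cfsg.Agent.Helper4.BS.odd_orderOf_mul_invol S 2 e _ _ h1 h2

/-- more generally for any two involutions -/
theorem q8_odd_mul_invol {G : Type u} [Group G] [Finite G] (S : Sylow 2 G)
    (e : (S : Subgroup G) ≃* QuaternionGroup 2) (a b : G) (ha : orderOf a = 2)
    (hb : orderOf b = 2) : Odd (orderOf (a * b)) := by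
  rw [← Nat.not_even_iff_odd]
  exact Cfsg.Agent.Helper4.BS.odd_orderOf_mul_invol S 2 e _ _ ha hb

end Cfsg.Agent.Helper96.BSQ8GT
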