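import Mathlib
import Cfsg.Agent.Lib.Helper32.N5Defs

/-!
# N5 piece (ALPHA) `centralizer_eq_self` for helper32's lemma server (row S1904)

`B` a maximal `A`-invariant normal abelian subgroup containing the central four-group `V`
(on which `σ ∈ A` acts fixed-point-freely), `B ≠ V`  ==>  `C_X(B) = B`.
-/

set_option autoImplicit false

namespace Cfsg.Agent.Helper96.N5

open Cfsg Cfsg.Agent.Helper32.N5
open scoped commutatorElement

universe u

variable {X : Type u} [Group X] [Finite X]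

theorem cover4 {U : Type*} (h : Nat.card U = 4) (a b c d : U) (hab : a ≠ b) (hac : a ≠ c)
    (had : a ≠ d) (hbc : b ≠ c) (hbd : b ≠ d) (hcd : c ≠ d) (u : U) :
    u = a ∨ u = b ∨ u = c ∨ u = d := by
  classical
  by_contra hcon
  push Not at hcon
  obtain ⟨h1, h2, h3, h4⟩ := hcon
  haveI : Finite U := Nat.finite_of_card_ne_zero (by omega)
  haveI := Fintype.ofFinite U
  have h5 : ({u, a, b, c, d} : Finset U).card = 5 := by
    rw [Finset.card_insert_of_notMem, Finset.card_insert_of_notMem,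
      Finset.card_insert_of_notMem, Finset.card_insert_of_notMem, Finset.card_singleton]
    all_goals simp [*]
  have h6 := Finset.card_le_univ ({u, a, b, c, d} : Finset U)
  rw [h5, ← Nat.card_eq_fintype_card, h] at h6
  omega

theorem vdata_sub_eq {V : Subgroup X} {σ : MulAut X} (hV : VData V σ) (S : Subgroup X)
    (hSV : S ≤ V) (hSσ : ∀ s ∈ S, σ s ∈ S) (s : X) (hs : s ∈ S) (hs1 : s ≠ 1) : V ≤ S := by
  have hdvd : Nat.card S ∣ 2 ^ 2 := by
    have := Subgroup.card_dvd_of_le hSV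
    rw [hV.card] at this
    simpa using this
  obtain ⟨k, hk, hk2⟩ := (Nat.dvd_prime_pow Nat.prime_two).1 hdvd
  interval_cases k
  · exfalso
    have : S = ⊥ := Subgroup.card_eq_one.1 (by simpa using hk2)
    rw [this, Subgroup.mem_bot] at hs
    exact hs1 hs
  · exfalso
    obtain ⟨y, hy, hyu⟩ := (Nat.card_eq_two_iff' (1 : S)).1 (by simpa using hk2)
    have e1 : (⟨s, hs⟩ : S) = y := hyu _ (by
      intro h; apply hs1; simpa using congrArg Subtype.val h)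
    have e2 : (⟨σ s, hSσ s hs⟩ : S) = y := hyu _ (by
      intro h; apply hs1
      have := congrArg Subtype.val h
      simpa using this)
    have : σ s = s := by
      have := e2.trans e1.symm
      simpa using congrArg Subtype.val this
    exact hs1 (hV.fpf s (hSV hs) this)
  · exact (Subgroup.eq_of_le_of_card_ge hSV (by rw [hV.card]; simpa using hk2.ge)).ge

/-- adjoin an element centralizing `B` with `[n, X] ≤ B` to the normal abelian `B`. -/
theorem exists_adjoin (B : Subgroup X) (hBn : B.Normal) (hBab : Ab B) (n : X)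
    (hnB : ∀ b ∈ B, b * n = n * b) (hnX : ∀ x : X, ⁅n, x⁆ ∈ B) :
    ∃ M : Subgroup X, M.Normal ∧ Ab M ∧ B ≤ M ∧ n ∈ M := by
  have hcomm : ∀ b ∈ B, ∀ k : ℤ, Commute b (n ^ k) := fun b hb k =>
    (show Commute b n from hnB b hb).zpow_right k
  let M : Subgroup X :=
    { carrier := {x | ∃ b ∈ B, ∃ k : ℤ, x = b * n ^ k}
      one_mem' := ⟨1, B.one_mem, 0, by simp⟩
      mul_mem' := by
        rintro _ _ ⟨b, hb, k, rfl⟩ ⟨b', hb', l, rfl⟩
        refine ⟨b * b', B.mul_mem hb hb', k + l, ?_⟩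
        rw [zpow_add, mul_assoc, ← mul_assoc (n ^ k) b', ← (hcomm b' hb' k).eq]
        simp [mul_assoc]
      inv_mem' := by
        rintro _ ⟨b, hb, k, rfl⟩
        refine ⟨b⁻¹, B.inv_mem hb, -k, ?_⟩
        rw [mul_inv_rev, zpow_neg, ((hcomm b hb k).inv_inv).eq] }
  have hmem : ∀ x, x ∈ M ↔ ∃ b ∈ B, ∃ k : ℤ, x = b * n ^ k := fun x => Iff.rfl
  refine ⟨M, ⟨?_⟩, ?_, ?_, ?_⟩
  · rintro _ ⟨b, hb, k, rfl⟩ x
    have hd : ⁅x, n⁆ ∈ B := by
      rw [← commutatorElement_inv]; exact B.inv_mem (hnX x)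
    have hdn : Commute ⁅x, n⁆ n := hnB _ hd
    have e1 : x * n * x⁻¹ = ⁅x, n⁆ * n := by
      rw [commutatorElement_def]; group
    refine ⟨x * b * x⁻¹ * ⁅x, n⁆ ^ k, B.mul_mem (hBn.conj_mem b hb x) (B.zpow_mem hd k), k, ?_⟩
    have e2 : x * (b * n ^ k) * x⁻¹ = (x * b * x⁻¹) * (x * n * x⁻¹) ^ k := by
      rw [conj_zpow]; group
    rw [e2, e1, hdn.mul_zpow]
    simp only [mul_assoc]
  · rintro _ ⟨b, hb, k, rfl⟩ _ ⟨b', hb', l, rfl⟩
    have h1 := (hcomm b hb l).eq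
    have h2 := (hcomm b' hb' k).eq
    have h3 := hBab b hb b' hb'
    have h4 : n ^ k * n ^ l = n ^ l * n ^ k := by rw [← zpow_add, ← zpow_add, add_comm]
    calc b * n ^ k * (b' * n ^ l) = b * (n ^ k * b') * n ^ l := by group
      _ = b * (b' * n ^ k) * n ^ l := by rw [h2]
      _ = (b * b') * (n ^ k * n ^ l) := by group
      _ = (b' * b) * (n ^ l * n ^ k) := by rw [h3, h4]
      _ = b' * (b * n ^ l) * n ^ k := by group
      _ = b' * (n ^ l * b) * n ^ k := by rw [h1]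
      _ = b' * n ^ l * (b * n ^ k) := by group
  · intro b hb
    exact ⟨b, hb, 0, by simp⟩
  · exact ⟨1, B.one_mem, 1, by simp⟩

omit [Finite X] in
theorem comm_mul_left (a b c : X) : ⁅a * b, c⁆ = a * ⁅b, c⁆ * a⁻¹ * ⁅a, c⁆ := by
  simp only [commutatorElement_def]; group

omit [Finite X] in
theorem comm_mul_right (a b c : X) : ⁅a, b * c⁆ = ⁅a, b⁆ * (b * ⁅a, c⁆ * b⁻¹) := by
  simp only [commutatorElement_def]; group

theorem centralizer_eq_self (hX : IsPGroup 2 X) (A : Subgroup (MulAut X))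
    (V : Subgroup X) (σ : MulAut X) (hσA : σ ∈ A) (hV : VData V σ)
    (hK : ∀ N : Subgroup X, N.Normal → Ab N → V ≤ N → ∀ x ∈ N, x ^ 2 = 1 → x ∈ V)
    (hmin : ∀ B C : Subgroup X, B.Normal → AInv A B → C.Normal → AInv A C → B < C →
      ∃ N : Subgroup X, N.Normal ∧ AInv A N ∧ B < N ∧ N ≤ C ∧ (∀ n ∈ N, ∀ x : X, ⁅n, x⁆ ∈ B) ∧
        (∀ n ∈ N, n ^ 2 ∈ B) ∧
        ∀ M : Subgroup X, M.Normal → AInv A M → B ≤ M → M ≤ N → M = B ∨ M = N)
    (B : Subgroup X) (hBn : B.Normal) (hBi : AInv A B) (hBab : Ab B) (hVB : V ≤ B) (hBV : B ≠ V)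
    (hmax : ∀ B' : Subgroup X, B'.Normal → AInv A B' → Ab B' → B ≤ B' → B' = B) :
    Subgroup.centralizer (B : Set X) = B := by
  classical
  have hΩ : ∀ b ∈ B, b ^ 2 = 1 → b ∈ V := hK B hBn hBab hVB
  by_contra hne
  have hBC : B ≤ Subgroup.centralizer (B : Set X) := fun b hb =>
    Subgroup.mem_centralizer_iff.2 fun c hc => hBab c hc b hb
  have hlt : B < Subgroup.centralizer (B : Set X) := lt_of_le_of_ne hBC (Ne.symm hne)
  haveI := hBn
  have hCn : (Subgroup.centralizer (B : Set X)).Normal := Subgroup.normal_centralizer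
  have hCi : AInv A (Subgroup.centralizer (B : Set X)) := by
    intro φ hφ c hc
    rw [Subgroup.mem_centralizer_iff] at hc ⊢
    intro b hb
    have hb' : φ⁻¹ b ∈ B := hBi φ⁻¹ (A.inv_mem hφ) b hb
    have := congrArg φ (hc _ hb')
    simpa using this
  obtain ⟨N, hNn, hNi, hBN, hNC, hNX, hNsq, -⟩ := hmin B _ hBn hBi hCn hCi hlt
  have hNB : ∀ n ∈ N, ∀ b ∈ B, b * n = n * b := fun n hn b hb =>
    Subgroup.mem_centralizer_iff.1 (hNC hn) b hb
  have hNab : ¬ Ab N := fun hab => hBN.ne' (hmax N hNn hNi hab hBN.le)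
  -- squares of B
  let B2 : Subgroup X :=
    { carrier := {x | ∃ b ∈ B, b ^ 2 = x}
      one_mem' := ⟨1, B.one_mem, by simp⟩
      mul_mem' := by
        rintro _ _ ⟨b, hb, rfl⟩ ⟨b', hb', rfl⟩
        exact ⟨b * b', B.mul_mem hb hb', (show Commute b b' from hBab b hb b' hb').mul_pow 2⟩
      inv_mem' := by
        rintro _ ⟨b, hb, rfl⟩
        exact ⟨b⁻¹, B.inv_mem hb, inv_pow b 2⟩ }
  have hB2mem : ∀ x, x ∈ B2 ↔ ∃ b ∈ B, b ^ 2 = x := fun x => Iff.rfl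
  have hB2B : B2 ≤ B := by
    rintro _ ⟨b, hb, rfl⟩
    exact B.pow_mem hb 2
  have hVB2 : ∀ v ∈ V, ∃ b ∈ B, b ^ 2 = v := by
    obtain ⟨b₁, hb₁, hb₁V⟩ : ∃ b ∈ B, b ∉ V := by
      by_contra h
      push Not at h
      exact hBV (le_antisymm h hVB)
    have hb₁2 : b₁ ^ 2 ≠ 1 := fun h => hb₁V (hΩ b₁ hb₁ h)
    have hB2ne : Nat.card B2 ≠ 1 := by
      intro h
      have h' : B2 = ⊥ := Subgroup.card_eq_one.1 h
      have hm : b₁ ^ 2 ∈ B2 := ⟨b₁, hb₁, rfl⟩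
      rw [h', Subgroup.mem_bot] at hm
      exact hb₁2 hm
    obtain ⟨m, hm⟩ := IsPGroup.iff_card.1 (hX.to_subgroup B2)
    have h2 : 2 ∣ Nat.card B2 := by
      rw [hm]
      cases m with
      | zero => exact absurd (hm.trans (pow_zero 2)) hB2ne
      | succ m => exact dvd_pow_self 2 (Nat.succ_ne_zero m)
    obtain ⟨x, hx⟩ := exists_prime_orderOf_dvd_card' 2 h2
    have hx2 : (x : X) ^ 2 = 1 := by
      have := pow_orderOf_eq_one x
      rw [hx] at this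
      simpa using congrArg Subtype.val this
    have hx1 : (x : X) ≠ 1 := by
      intro h
      have : x = 1 := Subtype.ext h
      rw [this, orderOf_one] at hx
      omega
    have hxV : (x : X) ∈ V := hΩ _ (hB2B x.2) hx2
    have hle : V ≤ B2 ⊓ V := by
      refine vdata_sub_eq hV (B2 ⊓ V) inf_le_right ?_ (x : X) ⟨x.2, hxV⟩ hx1
      rintro s ⟨⟨b, hb, rfl⟩, hsV⟩
      exact ⟨⟨σ b, hBi σ hσA b hb, by simp⟩, hV.inv _ hsV⟩
    intro v hv
    exact (hle hv).1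
  -- the key injectivity
  have hkey : ∀ n ∈ N, ∀ b ∈ B, n ^ 2 = b ^ 2 → n ∈ B := by
    intro n hn b hb hnb
    obtain ⟨M, hMn, hMab, hBM, hnM⟩ := exists_adjoin B hBn hBab n (hNB n hn) (hNX n hn)
    have hc : Commute n b⁻¹ := ((show Commute b n from hNB n hn b hb).symm).inv_right
    have h1 : (n * b⁻¹) ^ 2 = 1 := by
      rw [hc.mul_pow, hnb, inv_pow, mul_inv_cancel]
    have h2 : n * b⁻¹ ∈ V :=
      hK M hMn hMab (hVB.trans hBM) _ (M.mul_mem hnM (M.inv_mem (hBM hb))) h1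
    have h3 : n = (n * b⁻¹) * b := by group
    rw [h3]
    exact B.mul_mem (hVB h2) hb
  -- commutators of N
  have hcB : ∀ n ∈ N, ∀ n' ∈ N, ⁅n, n'⁆ ∈ B := fun n hn n' _ => hNX n hn n'
  have hcsq : ∀ n ∈ N, ∀ n' ∈ N, ⁅n, n'⁆ ^ 2 = 1 := by
    intro n hn n' hn'
    have hcn : ⁅n, n'⁆ * n = n * ⁅n, n'⁆ := hNB n hn _ (hcB n hn n' hn')
    have hsq : Commute (n * n) n' := by
      have := hNB n' hn' _ (hNsq n hn)
      rw [pow_two] at this
      exact this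
    have h1 : ⁅n * n, n'⁆ = 1 := (commutatorElement_eq_one_iff_commute).2 hsq
    rw [comm_mul_left, ← hcn] at h1
    rw [pow_two, ← h1]
    group
  have hcV : ∀ n ∈ N, ∀ n' ∈ N, ⁅n, n'⁆ ∈ V := fun n hn n' hn' =>
    hΩ _ (hcB n hn n' hn') (hcsq n hn n' hn')
  have hcZ : ∀ n ∈ N, ∀ n' ∈ N, ∀ x : X, x * ⁅n, n'⁆ = ⁅n, n'⁆ * x := fun n hn n' hn' x =>
    Subgroup.mem_center_iff.1 (hV.cen (hcV n hn n' hn')) x
  have hbilL : ∀ x ∈ N, ∀ x' ∈ N, ∀ y ∈ N, ⁅x * x', y⁆ = ⁅x, y⁆ * ⁅x', y⁆ := by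
    intro x hx x' hx' y hy
    rw [comm_mul_left, hcZ x' hx' y hy x, hcZ x hx y hy]
    group
  have hbilR : ∀ x ∈ N, ∀ y ∈ N, ∀ y' ∈ N, ⁅x, y * y'⁆ = ⁅x, y⁆ * ⁅x, y'⁆ := by
    intro x hx y hy y' hy'
    rw [comm_mul_right, hcZ x hx y' hy' y]
    group
  have hsymm : ∀ x ∈ N, ∀ y ∈ N, ⁅y, x⁆ = ⁅x, y⁆ := by
    intro x hx y hy
    have h := hcsq x hx y hy
    rw [← commutatorElement_inv x y]
    rw [pow_two] at h
    exact inv_eq_of_mul_eq_one_left h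
  have hsqmul : ∀ n ∈ N, ∀ n' ∈ N, (n * n') ^ 2 = ⁅n', n⁆ * (n ^ 2 * n' ^ 2) := by
    intro n hn n' hn'
    have h : (n * n') ^ 2 = n * ⁅n', n⁆ * n * n' * n' := by
      simp only [commutatorElement_def, pow_two]; group
    rw [h, hcZ n' hn' n hn n]
    simp only [pow_two, mul_assoc]
  -- the squaring hom on ↥B and the quotient of order 4
  let f : ↥B →* ↥B := MonoidHom.mk' (fun x => x ^ 2) (by
    intro x y
    have : Commute x y := Subtype.ext (hBab x x.2 y y.2)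
    exact this.mul_pow 2)
  have hfval : ∀ y : ↥B, ((f y : ↥B) : X) = (y : X) ^ 2 := fun y => rfl
  have hker : Nat.card f.ker = 4 := by
    have h : f.ker = V.subgroupOf B := by
      ext x
      rw [MonoidHom.mem_ker, Subgroup.mem_subgroupOf]
      constructor
      · intro h
        have h' : (x : X) ^ 2 = 1 := by
          have := congrArg Subtype.val h
          rwa [hfval] at this
        exact hΩ x x.2 h'
      · intro h
        exact Subtype.ext (by rw [hfval]; exact hV.el x h)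
    rw [h, Nat.card_congr (Subgroup.subgroupOfEquivOfLe hVB).toEquiv, hV.card]
  have hidx : f.range.index = 4 := by
    have h1 := f.ker.card_mul_index
    rw [Subgroup.index_ker, hker] at h1
    have h2 := f.range.card_mul_index
    have hpos : 0 < Nat.card f.range := Nat.card_pos
    have h3 : Nat.card f.range * f.range.index = Nat.card f.range * 4 := by
      rw [h2, ← h1, mul_comm]
    exact Nat.eq_of_mul_eq_mul_left hpos h3
  have hU : Nat.card (↥B ⧸ f.range) = 4 := by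
    rw [← Subgroup.index_eq_card]; exact hidx
  let Q : ↥N → ↥B ⧸ f.range := fun n => QuotientGroup.mk ⟨(n : X) ^ 2, hNsq n n.2⟩
  have hQ : ∀ n n' : ↥N, Q n = Q n' → (n : X)⁻¹ * n' ∈ B := by
    intro n n' h
    obtain ⟨y, hy⟩ := QuotientGroup.eq.1 h
    have hy' : (y : X) ^ 2 = ((n : X) ^ 2)⁻¹ * (n' : X) ^ 2 := by
      have := congrArg Subtype.val hy
      rw [hfval] at this
      simpa using this
    have hn1 : (n : X)⁻¹ ∈ N := N.inv_mem n.2
    obtain ⟨b', hb', hb'2⟩ := hVB2 _ (hcV _ n'.2 _ hn1)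
    have h4 : ((n : X)⁻¹ * n') ^ 2 = (b' * y) ^ 2 := by
      rw [hsqmul _ hn1 _ n'.2, inv_pow, ← hy', ← hb'2,
        (show Commute b' (y : X) from hBab b' hb' y y.2).mul_pow]
    exact hkey _ (N.mul_mem hn1 n'.2) _ (B.mul_mem hb' y.2) h4
  -- a non-commuting pair
  obtain ⟨n1, hn1, n2, hn2, hnc⟩ : ∃ n1 ∈ N, ∃ n2 ∈ N, n1 * n2 ≠ n2 * n1 := by
    by_contra h
    push Not at h
    exact hNab h
  have hBc1 : ∀ b ∈ B, b * n1 = n1 * b := hNB n1 hn1
  have hBc2 : ∀ b ∈ B, b * n2 = n2 * b := hNB n2 hn2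
  let e0 : ↥N := 1
  let e1 : ↥N := ⟨n1, hn1⟩
  let e2 : ↥N := ⟨n2, hn2⟩
  let e3 : ↥N := ⟨n1 * n2, N.mul_mem hn1 hn2⟩
  have d01 : Q e0 ≠ Q e1 := by
    intro h
    have hb := hQ _ _ h
    have hb' : n1 ∈ B := by simpa [e0, e1] using hb
    exact hnc (hBc2 n1 hb')
  have d02 : Q e0 ≠ Q e2 := by
    intro h
    have hb := hQ _ _ h
    have hb' : n2 ∈ B := by simpa [e0, e2] using hb
    exact hnc (hBc1 n2 hb').symm
  have d03 : Q e0 ≠ Q e3 := by
    intro h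
    have hb := hQ _ _ h
    have hb' : n1 * n2 ∈ B := by simpa [e0, e3] using hb
    have h1 := hBc1 _ hb'
    apply hnc
    have h2 : n1 * (n2 * n1) = n1 * (n1 * n2) := by rw [← mul_assoc, h1]
    exact (mul_left_cancel h2).symm
  have d12 : Q e1 ≠ Q e2 := by
    intro h
    have hb : n1⁻¹ * n2 ∈ B := hQ _ _ h
    have h1 := hBc1 _ hb
    apply hnc
    have h2 : n1⁻¹ * n2 * n1 = n2 := by rw [h1]; group
    calc n1 * n2 = n1 * (n1⁻¹ * n2 * n1) := by rw [h2]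
      _ = n2 * n1 := by group
  have d13 : Q e1 ≠ Q e3 := by
    intro h
    have hb : n1⁻¹ * (n1 * n2) ∈ B := hQ _ _ h
    have hb' : n2 ∈ B := by simpa using hb
    exact hnc (hBc1 n2 hb').symm
  have d23 : Q e2 ≠ Q e3 := by
    intro h
    have hb : n2⁻¹ * (n1 * n2) ∈ B := hQ _ _ h
    have h2 := hBc2 _ hb
    apply hnc
    have h3 : n2⁻¹ * (n1 * n2) * n2 = n1 * n2 := by rw [h2]; group
    have h4 : n2⁻¹ * (n1 * n2) = n1 := mul_right_cancel h3
    calc n1 * n2 = n2 * (n2⁻¹ * (n1 * n2)) := by group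
      _ = n2 * n1 := by rw [h4]
  have hcov : ∀ n ∈ N, ∃ b ∈ B, ∃ w : X,
      (w = 1 ∨ w = n1 ∨ w = n2 ∨ w = n1 * n2) ∧ n = w * b := by
    intro n hn
    rcases cover4 hU (Q e0) (Q e1) (Q e2) (Q e3) d01 d02 d03 d12 d13 d23 (Q ⟨n, hn⟩)
      with h | h | h | h
    · have hb : (1 : X)⁻¹ * n ∈ B := hQ _ _ h.symm
      exact ⟨_, hb, 1, Or.inl rfl, by simp⟩
    · have hb : n1⁻¹ * n ∈ B := hQ _ _ h.symm
      exact ⟨_, hb, n1, Or.inr (Or.inl rfl), by simp⟩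
    · have hb : n2⁻¹ * n ∈ B := hQ _ _ h.symm
      exact ⟨_, hb, n2, Or.inr (Or.inr (Or.inl rfl)), by simp⟩
    · have hb : (n1 * n2)⁻¹ * n ∈ B := hQ _ _ h.symm
      exact ⟨_, hb, n1 * n2, Or.inr (Or.inr (Or.inr rfl)), by group⟩
  have hred : ∀ w ∈ N, ∀ w' ∈ N, ∀ b ∈ B, ∀ b' ∈ B, ⁅w * b, w' * b'⁆ = ⁅w, w'⁆ := by
    intro w hw w' hw' b hb b' hb'
    have hbN := hBN.le hb
    have hb'N := hBN.le hb'
    rw [hbilL w hw b hbN _ (N.mul_mem hw' hb'N), hbilR w hw w' hw' b' hb'N,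
      hbilR b hbN w' hw' b' hb'N]
    have h1 : ⁅w, b'⁆ = 1 := commutatorElement_eq_one_iff_commute.2 (hNB w hw b' hb').symm
    have h2 : ⁅b, w'⁆ = 1 := commutatorElement_eq_one_iff_commute.2 (hNB w' hw' b hb)
    have h3 : ⁅b, b'⁆ = 1 := commutatorElement_eq_one_iff_commute.2 (hBab b hb b' hb')
    rw [h1, h2, h3]
    simp
  have hw : ∀ w w' : X, (w = 1 ∨ w = n1 ∨ w = n2 ∨ w = n1 * n2) →
      (w' = 1 ∨ w' = n1 ∨ w' = n2 ∨ w' = n1 * n2) → ⁅w, w'⁆ = 1 ∨ ⁅w, w'⁆ = ⁅n1, n2⁆ := by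
    have h21 : ⁅n2, n1⁆ = ⁅n1, n2⁆ := hsymm n1 hn1 n2 hn2
    have h1_12 : ⁅n1, n1 * n2⁆ = ⁅n1, n2⁆ := by
      rw [hbilR n1 hn1 n1 hn1 n2 hn2, commutatorElement_self, one_mul]
    have h2_12 : ⁅n2, n1 * n2⁆ = ⁅n1, n2⁆ := by
      rw [hbilR n2 hn2 n1 hn1 n2 hn2, commutatorElement_self, mul_one, h21]
    have h12_1 : ⁅n1 * n2, n1⁆ = ⁅n1, n2⁆ := by
      rw [hbilL n1 hn1 n2 hn2 n1 hn1, commutatorElement_self, one_mul, h21]
    have h12_2 : ⁅n1 * n2, n2⁆ = ⁅n1, n2⁆ := by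
      rw [hbilL n1 hn1 n2 hn2 n2 hn2, commutatorElement_self, mul_one]
    rintro w w' (rfl | rfl | rfl | rfl) (rfl | rfl | rfl | rfl) <;>
      simp [h21, h1_12, h2_12, h12_1, h12_2]
  have hall : ∀ x ∈ N, ∀ y ∈ N, ⁅x, y⁆ = 1 ∨ ⁅x, y⁆ = ⁅n1, n2⁆ := by
    intro x hx y hy
    obtain ⟨b, hb, w, hw1, rfl⟩ := hcov x hx
    obtain ⟨b', hb', w', hw1', rfl⟩ := hcov y hy
    have hmemN : ∀ w : X, (w = 1 ∨ w = n1 ∨ w = n2 ∨ w = n1 * n2) → w ∈ N := by
      rintro w (rfl | rfl | rfl | rfl)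
      · exact N.one_mem
      · exact hn1
      · exact hn2
      · exact N.mul_mem hn1 hn2
    rw [hred w (hmemN w hw1) w' (hmemN w' hw1') b hb b' hb']
    exact hw w w' hw1 hw1'
  have hc1 : ⁅n1, n2⁆ ≠ 1 := fun h => hnc (commutatorElement_eq_one_iff_commute.1 h)
  have hσc : σ ⁅n1, n2⁆ = ⁅σ n1, σ n2⁆ := map_commutatorElement σ n1 n2
  rcases hall (σ n1) (hNi σ hσA n1 hn1) (σ n2) (hNi σ hσA n2 hn2) with h | h
  · rw [← hσc] at h
    exact hc1 ((MulEquiv.map_eq_one_iff σ).1 h)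
  · rw [← hσc] at h
    exact hc1 (hV.fpf _ (hcV n1 hn1 n2 hn2) h)

end Cfsg.Agent.Helper96.N5
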