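import Cfsg.Agent.Lib.Helper39.StbDefs
import Cfsg.Agent.Lib.Helper59.WeylGlue
import Cfsg.Prelude.Def_ParabolicCharacters

/-!
# STB piece (W3) `nJ_mul_add` for helper39's lemma server (row S2327)

`n(u v) = n(u) + n_J(v)` for `u` minimal, `v ∈ W_J`.
-/

set_option autoImplicit false
set_option linter.unusedSectionVars false

namespace Cfsg.Agent.Helper96.Stb

open Cfsg Cfsg.Agent.Helper6 Cfsg.Agent.Helper6.Weyl Cfsg.Agent.Helper59.Poincare Cfsg.Agent.Helper39.Stb Matrix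

section Weyl

variable {n : ℕ} (D : VDatum n)
variable (J : Fin n → Prop) [DecidablePred J]

/-- (W3) `n(u v) = n(u) + n_J(v)` for `u` minimal, `v ∈ W_J`. -/
theorem nJ_mul_add
    (hsd : ∀ x ∈ D.W J, ∀ β ∈ D.posJ VDatum.allJ \ D.posJ J, x • β ∈ D.posJ VDatum.allJ \ D.posJ J)
    {u v : (Mat n)ˣ} (hu : u ∈ D.Wf) (hmin : IsMin D J u) (hv : v ∈ D.W J) :
    D.nJ VDatum.allJ (u * v) = D.nJ VDatum.allJ u + D.nJ J v := by
  have hsub : D.posJ J ⊆ D.posJ VDatum.allJ := by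
    intro β hβ
    rw [VDatum.mem_posJ] at hβ ⊢
    exact ⟨hβ.1, fun j hj => absurd trivial hj⟩
  have hJJ : ∀ i, J i → VDatum.allJ i := fun _ _ => trivial
  have h1 : D.nJ VDatum.allJ (u * v) =
      (∑ β ∈ D.posJ VDatum.allJ \ D.posJ J,
        if -((u * v) • β) ∈ D.posJ VDatum.allJ then 1 else 0) + mJ D VDatum.allJ J (u * v) := by
    unfold VDatum.nJ mJ
    rw [Finset.sum_sdiff hsub]
  have h2 : D.nJ VDatum.allJ u =
      (∑ β ∈ D.posJ VDatum.allJ \ D.posJ J,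
        if -(u • β) ∈ D.posJ VDatum.allJ then 1 else 0) + 0 := by
    unfold VDatum.nJ
    rw [← Finset.sum_sdiff hsub]
    congr 1
    apply Finset.sum_eq_zero
    intro β hβ
    rw [if_neg (D.neg_not_mem_posJ VDatum.allJ (min_pos D VDatum.allJ J hu hJJ hmin hβ))]
  rw [h1, h2, mJ_mul D VDatum.allJ J hu hv hJJ hmin, add_zero]
  congr 1
  apply Finset.sum_nbij' (fun β => v • β) (fun γ => v⁻¹ • γ)
  · intro β hβ
    exact hsd v hv β hβ
  · intro γ hγ
    exact hsd v⁻¹ ((D.W J).inv_mem hv) γ hγ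
  · intro β _
    simp
  · intro γ _
    simp
  · intro β _
    simp only [mul_smul]

end Weyl

end Cfsg.Agent.Helper96.Stb
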