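import Cfsg.Agent.Lib.Helper39.StbDefs
import Cfsg.Agent.Lib.Helper59.WeylGlue
import Cfsg.Prelude.Def_ParabolicCharacters

/-!
# STB piece (W5) `poinc_factor` for helper39's lemma server (row S2327)

`W(t) = W_J(t) * ∑_{u minimal} t^{n(u)}`.
-/

set_option autoImplicit false
set_option linter.unusedSectionVars false

namespace Cfsg.Agent.Helper96.Stb

open Cfsg Cfsg.Agent.Helper6 Cfsg.Agent.Helper6.Weyl Cfsg.Agent.Helper59.Poincare Cfsg.Agent.Helper39.Stb Matrix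

section Weyl

variable {n : ℕ} (D : VDatum n)
variable (J : Fin n → Prop) [DecidablePred J]

/-- (W5) `W(t) = W_J(t) * ∑_{u minimal} t^{n(u)}`: the map `(u, v) ↦ u * v` is a bijection
`{u : D.Wf // IsMin D J u} × D.W J ≃ D.Wf` (`hex`, `huniq`) and `t^{n(uv)} = t^{n(u)} * t^{n_J(v)}` (`hadd`). -/
theorem poinc_factor
    (hadd : ∀ u v : (Mat n)ˣ, u ∈ D.Wf → IsMin D J u → v ∈ D.W J →
      D.nJ VDatum.allJ (u * v) = D.nJ VDatum.allJ u + D.nJ J v)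
    (hex : ∀ w ∈ D.Wf, ∃ u ∈ D.Wf, ∃ v ∈ D.W J, w = u * v ∧ IsMin D J u)
    (huniq : ∀ u u' v v' : (Mat n)ˣ, u ∈ D.Wf → u' ∈ D.Wf → IsMin D J u → IsMin D J u' →
      v ∈ D.W J → v' ∈ D.W J → u * v = u' * v' → u = u' ∧ v = v')
    (t : ℕ) :
    poinc D VDatum.allJ t = poinc D J t * minSum D J t := by
  classical
  haveI := finite_Wf D
  haveI := finite_W D J
  have hle : D.W J ≤ D.Wf := D.W_mono VDatum.allJ J (fun _ _ => trivial)
  let Φ : {u : D.Wf // IsMin D J ((u : D.Wf) : (Mat n)ˣ)} × (D.W J) → D.W VDatum.allJ := fun p =>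
    ⟨(p.1.1 : (Mat n)ˣ) * p.2.1, (D.W VDatum.allJ).mul_mem p.1.1.2 (hle p.2.2)⟩
  have hΦ : Function.Bijective Φ := by
    constructor
    · rintro ⟨⟨⟨u, hu⟩, hmu⟩, ⟨v, hv⟩⟩ ⟨⟨⟨u', hu'⟩, hmu'⟩, ⟨v', hv'⟩⟩ h
      have h1 : u * v = u' * v' := congrArg Subtype.val h
      obtain ⟨h2, h3⟩ := huniq u u' v v' hu hu' hmu hmu' hv hv' h1
      subst h2
      subst h3
      rfl
    · rintro ⟨w, hw⟩
      obtain ⟨u, hu, v, hv, huv, hmin⟩ := hex w hw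
      exact ⟨(⟨⟨u, hu⟩, hmin⟩, ⟨v, hv⟩), Subtype.ext huv.symm⟩
  have hn : ∀ p, D.nJ VDatum.allJ (Φ p : (Mat n)ˣ) =
      D.nJ J (p.2 : (Mat n)ˣ) + D.nJ VDatum.allJ ((p.1.1 : D.Wf) : (Mat n)ˣ) := by
    rintro ⟨⟨⟨u, hu⟩, hmu⟩, ⟨v, hv⟩⟩
    show D.nJ VDatum.allJ (u * v) = D.nJ J v + D.nJ VDatum.allJ u
    rw [hadd u v hu hmu hv, add_comm]
  unfold poinc minSum
  rw [← finsum_comp_equiv (Equiv.ofBijective Φ hΦ)]
  simp only [Equiv.ofBijective_apply, hn, pow_add]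
  haveI : Finite {u : D.Wf // IsMin D J ((u : D.Wf) : (Mat n)ˣ)} := Subtype.finite
  letI : Fintype {u : D.Wf // IsMin D J ((u : D.Wf) : (Mat n)ˣ)} := Fintype.ofFinite _
  letI : Fintype (D.W J) := Fintype.ofFinite _
  rw [finsum_eq_sum_of_fintype, finsum_eq_sum_of_fintype, finsum_eq_sum_of_fintype,
    Fintype.sum_prod_type, Finset.sum_comm, Finset.sum_mul_sum]

end Weyl

end Cfsg.Agent.Helper96.Stb
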