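import Mathlib
import Cfsg.Agent.Lib.Helper62.SUO0
import Cfsg.Agent.Lib.Helper13.SUOEnd

/-!
# SUO server (helper62, S2282), piece (E5) `top_of_Q`  (helper96)
This is helper13's general endgame `Cfsg.Agent.Helper13.SUOEnd.top_of_Qe` in the server's argument order.
-/

set_option autoImplicit false
set_option linter.unusedSectionVars false
set_option linter.unusedVariables false
set_option quotPrecheck false

namespace Cfsg.Agent.Helper96.SUO

open Matrix Cfsg Cfsg.Agent.Helper13 Cfsg.Agent.Helper87.PsuA Cfsg.Agent.Helper62.SUO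

variable {F : Type*} [Field F] [Fintype F] {q n : ℕ} (hF : Fintype.card F = q ^ 2)
  {Hs : Subgroup ↥(Cfsg.SU n F q)}

local notation "V" => Fin n → F
local notation "G" => ↥(Cfsg.SU n F q)
local notation "H" => Cfsg.hermForm n F q

include hF

/-- (E5) -/
theorem top_of_Q (hn : 3 ≤ n) (h32 : ¬(n = 3 ∧ q = 2)) {e0 : V} (h00 : H e0 e0 = 0)
    (hQ : ∀ (w : V) (a : F), H e0 w = 0 → a + a ^ q + H w w = 0 → eich hF e0 w a ∈ Hs)
    {t : G} (ht : t ∈ Hs) (hte : H (actv t e0) e0 ≠ 0) : Hs = ⊤ :=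
  Cfsg.Agent.Helper13.SUOEnd.top_of_Qe hF hn h32 Hs e0 h00 hQ t ht hte

end Cfsg.Agent.Helper96.SUO
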