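import Mathlib
import Cfsg.Agent.Lib.Helper52.FCDefs
import Cfsg.Agent.Lib.Helper52.Coprime
import Cfsg.Agent.Lib.Helper52.CoprimeSylow
import Cfsg.Agent.Lib.Helper55.FrobFree2

/-!
# FC server (helper52, S3816), piece (R1d) `frob_case`  (helper96)

`V` an elementary abelian `q`-group normalised by `A₀` and `a` (`a^p = 1`), `A₀/C_{A₀}(V)` abelian with `a` acting fixed-point-freely,
`C_V(A₀) = 1`, `a` nontrivial on `V`  ⟹  `|V| = |C_V(a)|^p`  (`V|_P` is free, via `frobenius_free`).
-/

namespace Cfsg.Agent.Helper96.FC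

open Subgroup Cfsg.Agent.Helper52.FC
open scoped commutatorElement

universe u

variable {G : Type u} [Group G]

section LinAlg

variable {k M A : Type*} [Field k] [AddCommGroup M] [Module k M] [Group A] [DecidableEq A]

/-- coordinates in an internal direct sum `⊕_{h ∈ H} ρ(h) W` -/
theorem h96_phi_bij (ρ : Representation k A M) (H : Subgroup A) [Fintype ↥H] (W : Submodule k M)
    (hI : DirectSum.IsInternal (fun h : ↥H => W.map (ρ (h : A)))) :
    Function.Bijective (fun w : ↥H → ↥W => ∑ h : ↥H, ρ (h : A) (w h : M)) := by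
  have hof : ∀ y : (∀ h : ↥H, ↥(W.map (ρ (h : A)))),
      DirectSum.coeAddMonoidHom (fun h : ↥H => W.map (ρ (h : A)))
        (∑ h : ↥H, DirectSum.of (fun h : ↥H => ↥(W.map (ρ (h : A)))) h (y h)) =
        ∑ h : ↥H, (y h : M) := by
    intro y
    rw [map_sum]
    exact Finset.sum_congr rfl (fun h _ => DirectSum.coeAddMonoidHom_of _ _ _)
  have hcoord : ∀ (y : (∀ h : ↥H, ↥(W.map (ρ (h : A))))) (h₀ : ↥H),
      (∑ h : ↥H, DirectSum.of (fun h : ↥H => ↥(W.map (ρ (h : A)))) h (y h)) h₀ = y h₀ := by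
    intro y h₀
    rw [DirectSum.sum_apply, Finset.sum_eq_single h₀]
    · exact DirectSum.of_eq_same _ _
    · intro b _ hb
      exact DirectSum.of_eq_of_ne _ _ _ (Ne.symm hb)
    · intro h
      exact absurd (Finset.mem_univ _) h
  constructor
  · intro w w' hww
    simp only at hww
    let y : ∀ h : ↥H, ↥(W.map (ρ (h : A))) :=
      fun h => ⟨ρ (h : A) (w h : M), Submodule.mem_map_of_mem (w h).2⟩
    let y' : ∀ h : ↥H, ↥(W.map (ρ (h : A))) :=
      fun h => ⟨ρ (h : A) (w' h : M), Submodule.mem_map_of_mem (w' h).2⟩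
    have h1 : DirectSum.coeAddMonoidHom (fun h : ↥H => W.map (ρ (h : A)))
        (∑ h : ↥H, DirectSum.of (fun h : ↥H => ↥(W.map (ρ (h : A)))) h (y h)) =
        DirectSum.coeAddMonoidHom (fun h : ↥H => W.map (ρ (h : A)))
        (∑ h : ↥H, DirectSum.of (fun h : ↥H => ↥(W.map (ρ (h : A)))) h (y' h)) := by
      rw [hof, hof]
      exact hww
    have h2 := hI.1 h1
    funext h
    have h3 : y h = y' h := by rw [← hcoord y h, ← hcoord y' h, h2]
    have h4 : ρ (h : A) (w h : M) = ρ (h : A) (w' h : M) := congrArg Subtype.val h3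
    have h5 := congrArg (ρ ((h : A)⁻¹)) h4
    rw [← Module.End.mul_apply, ← Module.End.mul_apply, ← map_mul, inv_mul_cancel, map_one,
      Module.End.one_apply, Module.End.one_apply] at h5
    exact Subtype.ext h5
  · intro m
    obtain ⟨x, hx⟩ := hI.2 m
    have hw : ∀ h : ↥H, ∃ w : ↥W, ρ (h : A) (w : M) = (x h : M) := by
      intro h
      obtain ⟨w, hw, hwe⟩ := Submodule.mem_map.mp (x h).2
      exact ⟨⟨w, hw⟩, hwe⟩
    choose w hw using hw
    refine ⟨w, ?_⟩
    simp only
    have hx' := DirectSum.sum_univ_of x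
    rw [← hx, ← hx', map_sum]
    refine Finset.sum_congr rfl (fun h _ => ?_)
    rw [DirectSum.coeAddMonoidHom_of, hw]

/-- cardinalities in `V = ⊕_{h ∈ ⟨t⟩} ρ(h) W` -/
theorem h96_card_of_internal [Finite M] (ρ : Representation k A M) (t : A)
    [Fintype ↥(Subgroup.zpowers t)] (W : Submodule k M)
    (hI : DirectSum.IsInternal (fun h : ↥(Subgroup.zpowers t) => W.map (ρ (h : A)))) :
    Nat.card M = Nat.card ↥W ^ Nat.card ↥(Subgroup.zpowers t) ∧
      Nat.card {v : M // ρ t v = v} = Nat.card ↥W := by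
  have hb := h96_phi_bij ρ (Subgroup.zpowers t) W hI
  set Φ : (↥(Subgroup.zpowers t) → ↥W) → M :=
    fun w => ∑ h : ↥(Subgroup.zpowers t), ρ (h : A) (w h : M) with hΦ
  constructor
  · rw [← Nat.card_congr (Equiv.ofBijective Φ hb), Nat.card_fun]
  · let t' : ↥(Subgroup.zpowers t) := ⟨t, Subgroup.mem_zpowers t⟩
    have hshift : ∀ w : ↥(Subgroup.zpowers t) → ↥W,
        ρ t (Φ w) = Φ (fun h => w (t'⁻¹ * h)) := by
      intro w
      simp only [hΦ, map_sum]
      refine Fintype.sum_equiv (Equiv.mulLeft t') _ _ (fun h => ?_)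
      simp only [Equiv.coe_mulLeft, inv_mul_cancel_left]
      rw [← Module.End.mul_apply, ← map_mul]
      rfl
    have hconst : ∀ w : ↥(Subgroup.zpowers t) → ↥W,
        (∀ h, w (t'⁻¹ * h) = w h) → ∀ h, w h = w 1 := by
      intro w hw
      have hw' : ∀ h, w (t' * h) = w h := fun h => by
        have := hw (t' * h)
        rw [inv_mul_cancel_left] at this
        exact this.symm
      have hz : ∀ n : ℤ, w (t' ^ n) = w 1 := by
        intro n
        induction n using Int.induction_on with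
        | zero => rw [zpow_zero]
        | succ i ih => rw [add_comm, zpow_one_add, hw', ih]
        | pred i ih =>
          have : t' ^ (-(i : ℤ) - 1) = t'⁻¹ * t' ^ (-(i : ℤ)) := by
            rw [sub_eq_add_neg, add_comm, zpow_add, zpow_neg_one]
          rw [this, hw, ih]
      intro h
      obtain ⟨n, hn⟩ := Subgroup.mem_zpowers_iff.mp h.2
      have : h = t' ^ n := Subtype.ext (by simp [t', hn])
      rw [this, hz]
    let f : ↥W → {v : M // ρ t v = v} := fun w => ⟨Φ (fun _ => w), by rw [hshift]⟩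
    have hf : Function.Bijective f := by
      constructor
      · intro w w' hww
        have h1 : Φ (fun _ => w) = Φ (fun _ => w') := congrArg Subtype.val hww
        have h2 := hb.1 h1
        exact congrFun h2 1
      · rintro ⟨v, hv⟩
        obtain ⟨w, rfl⟩ := hb.2 v
        rw [hshift] at hv
        have h1 := hb.1 hv
        have h2 := hconst w (fun h => congrFun h1 h)
        refine ⟨w 1, Subtype.ext ?_⟩
        show Φ (fun _ => w 1) = Φ w
        congr 1
        funext h
        exact (h2 h).symm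
    exact (Nat.card_congr (Equiv.ofBijective f hf)).symm

end LinAlg

section Abstract

/-- abstract form: `F ≤ Aut(V₀)` abelian, normalised by `t` of prime order `p` acting fixed-point-freely on `F`,
`C_{V₀}(F) = 1`  ⟹  `|V₀| = |C_{V₀}(t)|^p`. -/
theorem h96_frob_abstract {V₀ : Type*} [Group V₀] [Finite V₀] (hcomm : ∀ x y : V₀, x * y = y * x)
    (q : ℕ) (hq : q.Prime) (hexp : ∀ v : V₀, v ^ q = 1) {p : ℕ} (hp : p.Prime)
    (F : Subgroup (MulAut V₀)) (t : MulAut V₀)
    (hFc : ∀ f ∈ F, ∀ f' ∈ F, f * f' = f' * f) (htF : ∀ f ∈ F, t * f * t⁻¹ ∈ F)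
    (ht : orderOf t = p) (hfpf : ∀ f ∈ F, t * f = f * t → f = 1)
    (hfix : ∀ v : V₀, (∀ f ∈ F, f v = v) → v = 1) :
    Nat.card V₀ = Nat.card {v : V₀ // t v = v} ^ p := by
  classical
  have : Fact q.Prime := ⟨hq⟩
  have : Fact p.Prime := ⟨hp⟩
  let _ : CommGroup V₀ := { (inferInstance : Group V₀) with mul_comm := hcomm }
  have hq0 : ∀ x : Additive V₀, q • x = 0 := fun x => by
    apply Additive.toMul.injective
    rw [toMul_nsmul, hexp, toMul_zero]
  let _ : Module (ZMod q) (Additive V₀) := AddCommGroup.zmodModule (n := q) hq0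
  let ρ₁ : MulAut V₀ →* Module.End (ZMod q) (Additive V₀) :=
    { toFun := fun f => (MulEquiv.toAdditive f).toAddMonoidHom.toZModLinearMap q
      map_one' := by
        apply LinearMap.ext
        intro x
        rfl
      map_mul' := fun f g => by
        apply LinearMap.ext
        intro x
        rfl }
  let ρ₀ : Representation (ZMod q) (MulAut V₀) (Additive V₀) := ρ₁
  have htpow : t ^ p = 1 := ht ▸ pow_orderOf_eq_one t
  have hiter : ∀ n : ℕ, ∀ f ∈ F, t ^ n * f * (t ^ n)⁻¹ ∈ F := by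
    intro n
    induction n with
    | zero => intro f hf; simpa using hf
    | succ n ih =>
      intro f hf
      have := htF _ (ih f hf)
      rw [pow_succ']
      convert this using 1
      group
  have htinv : ∀ f ∈ F, t⁻¹ * f * t ∈ F := by
    intro f hf
    have h1 : t⁻¹ = t ^ (p - 1) := by
      apply inv_eq_of_mul_eq_one_right
      rw [← pow_succ', Nat.sub_add_cancel hp.one_le, htpow]
    have := hiter (p - 1) f hf
    rw [← h1, inv_inv] at this
    exact this
  have htN : t ∈ Subgroup.normalizer (F : Set (MulAut V₀)) := by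
    rw [Subgroup.mem_normalizer_iff]
    intro f
    constructor
    · exact htF f
    · intro hf
      have := htinv _ hf
      convert this using 1
      group
  set N : Subgroup (MulAut V₀) := Subgroup.normalizer (F : Set (MulAut V₀)) with hN
  let ρ : Representation (ZMod q) ↥N (Additive V₀) := ρ₀.comp N.subtype
  let Fk : Subgroup ↥N := F.subgroupOf N
  have : Fk.Normal := Subgroup.normal_in_normalizer
  let t' : ↥N := ⟨t, htN⟩
  have hnil : Group.IsNilpotent ↥Fk := by
    let _ : CommGroup ↥Fk :=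
      { (inferInstance : Group ↥Fk) with
        mul_comm := fun x y => Subtype.ext (Subtype.ext
          (hFc _ (Subgroup.mem_subgroupOf.mp x.2) _ (Subgroup.mem_subgroupOf.mp y.2))) }
    exact CommGroup.isNilpotent
  have ht'ord : orderOf t' = p := by
    rw [← ht]
    exact Subgroup.orderOf_mk t htN
  have hcardH : Nat.card ↥(Subgroup.zpowers t') = p := by rw [Nat.card_zpowers, ht'ord]
  have hfpf' : ∀ h ∈ Subgroup.zpowers t', h ≠ 1 → ∀ f ∈ Fk, h * f = f * h → f = 1 := by
    intro h hh hne f hf hcm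
    have htop := zpowers_eq_top_of_prime_card hcardH (g := ⟨h, hh⟩)
      (by intro h1; exact hne (congrArg Subtype.val h1))
    have hmem : (⟨t', Subgroup.mem_zpowers t'⟩ : ↥(Subgroup.zpowers t')) ∈
        Subgroup.zpowers (⟨h, hh⟩ : ↥(Subgroup.zpowers t')) := by
      rw [htop]
      exact Subgroup.mem_top _
    obtain ⟨j, hj⟩ := Subgroup.mem_zpowers_iff.mp hmem
    have hj' : h ^ j = t' := by
      have := congrArg Subtype.val hj
      simpa using this
    have hc2 : t' * f = f * t' := by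
      rw [← hj']
      exact (Commute.zpow_left (show Commute h f from hcm) j).eq
    have hc3 : t * (f : MulAut V₀) = (f : MulAut V₀) * t := congrArg Subtype.val hc2
    have := hfpf _ (Subgroup.mem_subgroupOf.mp hf) hc3
    exact Subtype.ext this
  have hfix' : ∀ v : Additive V₀, (∀ f ∈ Fk, ρ f v = v) → v = 0 := by
    intro v hv
    have := hfix v.toMul (fun f hf => by
      have h1 := hv ⟨f, Subgroup.le_normalizer hf⟩ (Subgroup.mem_subgroupOf.mpr hf)
      exact congrArg Additive.toMul h1)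
    exact Additive.toMul.injective this
  obtain ⟨W, hW⟩ := Cfsg.Agent.Helper55.FrobFree.frobenius_free ρ Fk (Subgroup.zpowers t')
    hnil hfpf' hfix'
  have : Fintype ↥(Subgroup.zpowers t') := Fintype.ofFinite _
  obtain ⟨h1, h2⟩ := h96_card_of_internal ρ t' W hW
  have h3 : Nat.card {v : V₀ // t v = v} = Nat.card {v : Additive V₀ // ρ t' v = v} :=
    Nat.card_congr (Additive.ofMul.subtypeEquiv (fun v => by
      show t v = v ↔ ρ t' (Additive.ofMul v) = Additive.ofMul v
      constructor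
      · intro h
        exact congrArg Additive.ofMul h
      · intro h
        exact congrArg Additive.toMul h))
  rw [h3, h2, ← hcardH, ← h1]
  exact Nat.card_congr Additive.ofMul

end Abstract

section Main

/-- an `a`-invariant subgroup is normalised by `a` when `a` has finite order -/
theorem h96_mem_normalizer_of_inv (a : G) {p : ℕ} (hp : 0 < p) (hpow : a ^ p = 1) (X : Subgroup G)
    (hX : Inv a X) : a ∈ normalizer (X : Set G) := by
  have hiter : ∀ n : ℕ, ∀ x ∈ X, a ^ n * x * (a ^ n)⁻¹ ∈ X := by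
    intro n
    induction n with
    | zero => intro x hx; simpa using hx
    | succ n ih =>
      intro x hx
      have := hX _ (ih x hx)
      rw [pow_succ']
      convert this using 1
      group
  have h1 : a⁻¹ = a ^ (p - 1) := by
    apply inv_eq_of_mul_eq_one_right
    rw [← pow_succ', Nat.sub_add_cancel hp, hpow]
  rw [Subgroup.mem_normalizer_iff]
  intro x
  constructor
  · exact hX x
  · intro hx
    have := hiter (p - 1) _ hx
    rw [← h1, inv_inv] at this
    convert this using 1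
    group

/-- (R1d) -/
theorem frob_case [Finite G] {p : ℕ} (hp : p.Prime) (a : G) (hpow : a ^ p = 1) (V A₀ : Subgroup G) (hVab : Ab V) (q : ℕ) (hq : q.Prime)
    (hVq : ∀ v ∈ V, v ^ q = 1) (hVa : Inv a V) (hAa : Inv a A₀) (hAV : ∀ x ∈ A₀, ∀ v ∈ V, x * v * x⁻¹ ∈ V)
    (hcopA : (Nat.card A₀).Coprime p)
    (hAab : ∀ x ∈ A₀, ∀ x' ∈ A₀, ∀ v ∈ V, (x * x' * x⁻¹ * x'⁻¹) * v = v * (x * x' * x⁻¹ * x'⁻¹))
    (hfix : ∀ x ∈ A₀, x ∈ Fix a → ∀ v ∈ V, x * v = v * x)
    (hCV : ∀ v ∈ V, (∀ x ∈ A₀, x * v = v * x) → v = 1) (hact : ∃ v ∈ V, a * v ≠ v * a) :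
    Nat.card V = Nat.card (V ⊓ Fix a : Subgroup G) ^ p := by
  classical
  have hp0 : 0 < p := hp.pos
  have : Fact p.Prime := ⟨hp⟩
  have haV : a ∈ normalizer (V : Set G) := h96_mem_normalizer_of_inv a hp0 hpow V hVa
  have haA : a ∈ normalizer (A₀ : Set G) := h96_mem_normalizer_of_inv a hp0 hpow A₀ hAa
  have hA₀N : A₀ ≤ normalizer (V : Set G) := by
    intro x hx
    rw [Subgroup.mem_normalizer_iff]
    intro v
    constructor
    · exact hAV x hx v
    · intro hv
      have := hAV x⁻¹ (A₀.inv_mem hx) _ hv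
      rw [inv_inv] at this
      convert this using 1
      group
  set ψ : ↥(normalizer (V : Set G)) →* MulAut ↥V := V.normalizerMonoidHom with hψ
  have hψv : ∀ (g : ↥(normalizer (V : Set G))) (v : ↥V),
      ((ψ g v : ↥V) : G) = (g : G) * v * (g : G)⁻¹ := fun g v => rfl
  set F : Subgroup (MulAut ↥V) := (A₀.subgroupOf (normalizer (V : Set G))).map ψ with hF
  set aN : ↥(normalizer (V : Set G)) := ⟨a, haV⟩ with haN
  set t : MulAut ↥V := ψ aN with ht
  have hFmem : ∀ f ∈ F, ∃ x, ∃ hx : x ∈ A₀, f = ψ ⟨x, hA₀N hx⟩ := by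
    rintro f ⟨g, hg, rfl⟩
    exact ⟨g.1, Subgroup.mem_subgroupOf.mp hg, rfl⟩
  have hFin : ∀ x (hx : x ∈ A₀), ψ ⟨x, hA₀N hx⟩ ∈ F := fun x hx =>
    Subgroup.mem_map.mpr ⟨⟨x, hA₀N hx⟩, Subgroup.mem_subgroupOf.mpr hx, rfl⟩
  have hcentV : ∀ (g : ↥(normalizer (V : Set G))),
      ψ g = 1 ↔ ∀ v ∈ V, (g : G) * v = v * (g : G) := by
    intro g
    constructor
    · intro h v hv
      have h1 : ((ψ g ⟨v, hv⟩ : ↥V) : G) = v := by rw [h]; rfl
      rw [hψv] at h1
      calc (g : G) * v = (g : G) * v * (g : G)⁻¹ * g := by group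
        _ = v * g := by rw [h1]
    · intro h
      apply MulEquiv.ext
      intro v
      apply Subtype.ext
      rw [hψv, h v v.2]
      simp
  have hFc : ∀ f ∈ F, ∀ f' ∈ F, f * f' = f' * f := by
    intro f hf f' hf'
    obtain ⟨x, hx, rfl⟩ := hFmem f hf
    obtain ⟨x', hx', rfl⟩ := hFmem f' hf'
    have hc : ψ ((⟨x, hA₀N hx⟩ : ↥(normalizer (V : Set G))) * ⟨x', hA₀N hx'⟩ *
        (⟨x, hA₀N hx⟩ : ↥(normalizer (V : Set G)))⁻¹ *
        (⟨x', hA₀N hx'⟩ : ↥(normalizer (V : Set G)))⁻¹) = 1 := by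
      rw [hcentV]
      intro v hv
      exact hAab x hx x' hx' v hv
    rw [map_mul, map_mul, map_mul, map_inv, map_inv] at hc
    exact commutatorElement_eq_one_iff_mul_comm.mp hc
  have htF : ∀ f ∈ F, t * f * t⁻¹ ∈ F := by
    intro f hf
    obtain ⟨x, hx, rfl⟩ := hFmem f hf
    have h1 : t * ψ ⟨x, hA₀N hx⟩ * t⁻¹ = ψ ⟨a * x * a⁻¹, hA₀N (hAa x hx)⟩ := by
      rw [ht, ← map_inv, ← map_mul, ← map_mul]
      rfl
    rw [h1]
    exact hFin _ (hAa x hx)
  have htp : t ^ p = 1 := by
    rw [ht, ← map_pow]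
    have h1 : aN ^ p = 1 := Subtype.ext (by simp [haN, hpow])
    rw [h1, map_one]
  have htne : t ≠ 1 := by
    intro h1
    obtain ⟨v, hv, hne⟩ := hact
    exact hne (((hcentV aN).mp h1) v hv)
  have hord : orderOf t = p := orderOf_eq_prime htp htne
  have hfpf : ∀ f ∈ F, t * f = f * t → f = 1 := by
    intro f hf hcm
    obtain ⟨x, hx, rfl⟩ := hFmem f hf
    set xt : ↥(normalizer (V : Set G)) := ⟨x, hA₀N hx⟩ with hxt
    set C : Subgroup G := A₀ ⊓ centralizer (V : Set G) with hC
    have hzV : zpowers a ≤ normalizer (V : Set G) := Subgroup.zpowers_le.mpr haV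
    have hzA : zpowers a ≤ normalizer (A₀ : Set G) := Subgroup.zpowers_le.mpr haA
    have hCinv : Inv a C := by
      intro y hy
      refine Subgroup.mem_inf.mpr ⟨hAa y hy.1, ?_⟩
      rw [Subgroup.mem_centralizer_iff]
      intro v hv
      have hv' : a⁻¹ * v * a ∈ V := (Subgroup.mem_normalizer_iff''.mp haV v).mp hv
      have h1 := Subgroup.mem_centralizer_iff.mp hy.2 _ hv'
      calc v * (a * y * a⁻¹) = a * ((a⁻¹ * v * a) * y) * a⁻¹ := by group
        _ = a * (y * (a⁻¹ * v * a)) * a⁻¹ := by rw [h1]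
        _ = a * y * a⁻¹ * v := by group
    have hzC : zpowers a ≤ normalizer (C : Set G) :=
      Subgroup.zpowers_le.mpr (h96_mem_normalizer_of_inv a hp0 hpow C hCinv)
    have hcop : (Nat.card (zpowers a)).Coprime (Nat.card A₀) := by
      rw [Nat.card_zpowers]
      exact Nat.Coprime.coprime_dvd_left (orderOf_dvd_of_pow_eq_one hpow) hcopA.symm
    have hsolv : Group.IsSolvable ↥C ∨ Group.IsSolvable ↥(zpowers a) :=
      Or.inr (Group.isSolvable_of_comm (fun y z => (zpowers_isMulCommutative a).is_comm.comm y z))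
    have hcomm : ∀ b ∈ zpowers a, x * b * x⁻¹ * b⁻¹ ∈ C := by
      intro b hb
      obtain ⟨k, rfl⟩ := Subgroup.mem_zpowers_iff.mp hb
      have hbV : a ^ k ∈ normalizer (V : Set G) := hzV hb
      refine Subgroup.mem_inf.mpr ⟨?_, ?_⟩
      · have h1 : a ^ k * x⁻¹ * (a ^ k)⁻¹ ∈ A₀ :=
          (Subgroup.mem_normalizer_iff.mp (hzA hb) x⁻¹).mp (A₀.inv_mem hx)
        have h2 := A₀.mul_mem hx h1
        have h3 : x * a ^ k * x⁻¹ * (a ^ k)⁻¹ = x * (a ^ k * x⁻¹ * (a ^ k)⁻¹) := by group
        rw [h3]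
        exact h2
      · have hbt : (⟨a ^ k, hbV⟩ : ↥(normalizer (V : Set G))) = aN ^ k := Subtype.ext (by simp [haN])
        have hcm2 : Commute (ψ ⟨a ^ k, hbV⟩) (ψ xt) := by
          rw [hbt, map_zpow]
          exact Commute.zpow_left hcm k
        have h3 : ψ (xt * ⟨a ^ k, hbV⟩ * xt⁻¹ * (⟨a ^ k, hbV⟩ : ↥(normalizer (V : Set G)))⁻¹) = 1 := by
          rw [map_mul, map_mul, map_mul, map_inv, map_inv]
          exact commutatorElement_eq_one_iff_mul_comm.mpr hcm2.eq.symm
        rw [Subgroup.mem_centralizer_iff]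
        intro v hv
        exact ((hcentV _).mp h3 v hv).symm
    obtain ⟨n, hn, c, hc, hxnc⟩ := Cfsg.Agent.Helper52.exists_mul_centralizer_of_comm_mem A₀ C
      (zpowers a) inf_le_left hzA hzC hcop hsolv x hx hcomm
    have hcfix : c ∈ Fix a := by
      show c ∈ Subgroup.centralizer {a}
      rw [Subgroup.mem_centralizer_iff]
      intro y hy
      rw [Set.mem_singleton_iff] at hy
      rw [hy]
      exact Subgroup.mem_centralizer_iff.mp hc.2 a (Subgroup.mem_zpowers a)
    have hcV := hfix c hc.1 hcfix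
    have hnV : ∀ v ∈ V, v * n = n * v := fun v hv => Subgroup.mem_centralizer_iff.mp hn.2 v hv
    rw [hcentV]
    intro v hv
    show x * v = v * x
    rw [hxnc]
    calc n * c * v = n * (c * v) := by group
      _ = n * (v * c) := by rw [hcV v hv]
      _ = (n * v) * c := by group
      _ = (v * n) * c := by rw [hnV v hv]
      _ = v * (n * c) := by group
  have hfixV : ∀ v : ↥V, (∀ f ∈ F, f v = v) → v = 1 := by
    intro v hv
    have h0 := hCV v.1 v.2 (fun x hx => by
      have h1 := hv _ (hFin x hx)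
      have h2 : x * (v : G) * x⁻¹ = v := by
        rw [← hψv ⟨x, hA₀N hx⟩ v]
        exact congrArg Subtype.val h1
      calc x * (v : G) = x * v * x⁻¹ * x := by group
        _ = v * x := by rw [h2])
    exact Subtype.ext h0
  have hmain := h96_frob_abstract (V₀ := ↥V) (fun x y => Subtype.ext (hVab x x.2 y y.2)) q hq
    (fun v => Subtype.ext (by simpa using hVq v v.2)) hp F t hFc htF hord hfpf hfixV
  have hfixiff : ∀ v : ↥V, t v = v ↔ (v : G) ∈ Fix a := by
    intro v
    show _ ↔ (v : G) ∈ Subgroup.centralizer {a}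
    rw [Subgroup.mem_centralizer_iff]
    constructor
    · intro h y hy
      rw [Set.mem_singleton_iff] at hy
      rw [hy]
      have h2 : a * (v : G) * a⁻¹ = v := by
        have h3 := congrArg Subtype.val h
        rw [ht, hψv] at h3
        exact h3
      calc a * (v : G) = a * v * a⁻¹ * a := by group
        _ = v * a := by rw [h2]
    · intro h
      apply Subtype.ext
      rw [ht, hψv]
      show a * (v : G) * a⁻¹ = v
      rw [h a rfl]
      group
  rw [hmain]
  congr 1
  exact Nat.card_congr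
    { toFun := fun v => ⟨v.1.1, ⟨v.1.2, (hfixiff v.1).mp v.2⟩⟩
      invFun := fun w => ⟨⟨w.1, w.2.1⟩, (hfixiff _).mpr w.2.2⟩
      left_inv := fun v => rfl
      right_inv := fun w => rfl }

end Main

end Cfsg.Agent.Helper96.FC
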