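import Mathlib
import Cfsg.Agent.Lib.Helper22.BGAsymAS2
import Cfsg.Agent.Lib.Helper22.BGAsymAS3a
import Cfsg.Agent.Lib.Helper60.BGAsymAS3b
import Cfsg.Agent.Lib.Helper16.BGAsymAS4
import Cfsg.Agent.Lib.Helper41.BGAsymZ
import Cfsg.Agent.Lib.Helper98.BG139R6
import Cfsg.Agent.Lib.Helper98.BG139Q3
import Cfsg.Agent.Lib.Helper15.BGV.Core
import Cfsg.Agent.Lib.Helper34.BG10a
import Cfsg.Agent.Lib.Helper79.BG10.Alpha
import Cfsg.Agent.S1403

/-!
# B-G 13.8 (tau1 asymmetry): assembly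
-/

set_option autoImplicit false

namespace Cfsg.Agent.Helper96.BGAsym

open Subgroup Cfsg
open Cfsg.Agent.Helper52 (sylCard)

variable {G : Type*} [Group G] [Finite G]

theorem not_mem_alpha_of_tau1 {M : Subgroup G} {q : ℕ} (hq : q ∈ tau1 M) : q ∉ alpha M := by
  intro h
  apply h.2
  intro A hA hAe
  have h1 := hq.2.2.2.2 A hA hAe
  have hq1 : 1 ≤ q := hq.1.one_lt.le
  calc Nat.card A ≤ q ^ 1 := h1
    _ ≤ q ^ 2 := Nat.pow_le_pow_right hq1 (by norm_num)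

/-- everything one side of the configuration gives (AS2 + AS3a + AS3b) -/
theorem side_all (hG : IsMinSimpleOddOrder G) {M H Q W : Subgroup G} {q w : ℕ}
    [Fact q.Prime] [Fact w.Prime] (hM : IsCoatom M) (hH : IsCoatom H) (hne : M ≠ H)
    (hqM : q ∈ tau1 M)
    (hQ : Nat.card Q = q) (hQI : Q ≤ M ⊓ H) (hwq : w ≠ q)
    (hW : IsPGroup w W) (hWI : W ≤ M ⊓ H) (hWs : Nat.card W = sylCard w (M ⊓ H))
    (hQW : Q ≤ normalizer (W : Set G))
    (hfpf : ∀ x ∈ W, (∀ y ∈ Q, y * x = x * y) → x = 1)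
    (hN : normalizer (W : Set G) ≤ H) :
    W ≠ ⊥ ∧ w ∉ alpha M ∧ M ≤ alphaCore M ⊔ (M ⊓ H) ∧
      ∃ (t : ℕ) (A : Subgroup G), t ∈ beta M ∧ A ≤ M ⊓ centralizer (Q : Set G) ∧ A ≠ ⊥ ∧
        IsCyclic ↥A ∧ Nat.card ↥A = sylCard t (centralizer (Q : Set G)) := by
  obtain ⟨hW1, -, hwα, hWM', hfac⟩ :=
    Cfsg.Agent.Helper22.BGAsym.side_basic hG hM hH hne hQ hQI hwq hW hWI hWs hQW hfpf hN
  have hqα : q ∉ alpha M := not_mem_alpha_of_tau1 hqM
  obtain ⟨t, St, htα, hStα, hStc, hWSt, hQSt, hmove⟩ :=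
    Cfsg.Agent.Helper22.BGAsym.exists_moved_sylow hG hM hH hne hqα hwα hQ hQI hW hWI hQW hN hfac
  haveI : Fact t.Prime := ⟨htα.1⟩
  obtain ⟨htβ, hA1, hAc, hAcard⟩ :=
    Cfsg.Agent.Helper60.BGAsym.side_beta hG hM hqM hwq hwα hQ (hQI.trans inf_le_left) hW hWM' hQW hfpf htα hStα hStc hWSt
      hQSt hmove
  refine ⟨hW1, hwα, hfac, t, St ⊓ centralizer (Q : Set G), htβ, ?_, hA1, hAc, hAcard⟩
  have hαM : alphaCore M ≤ M := Subgroup.map_subtype_le _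
  exact inf_le_inf_right _ (hStα.trans hαM)

theorem not_conj_symm {M H : Subgroup G}
    (hnc : ∀ g : G, H ≠ M.map (MulAut.conj g).toMonoidHom) :
    ∀ g : G, M ≠ H.map (MulAut.conj g).toMonoidHom := by
  intro g h
  apply hnc g⁻¹
  rw [h, Cfsg.Agent.Helper15.BGV.map_conj_inv_map_conj]

/-- the one-sided conclusion from `z_asym` -/
theorem finish (hG : IsMinSimpleOddOrder G) {M H Q W' A A' X : Subgroup G} {q w' t t' : ℕ}
    [Fact q.Prime] [Fact w'.Prime] [Fact t.Prime] [Fact t'.Prime]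
    (hM : IsCoatom M) (hH : IsCoatom H) (hne : M ≠ H)
    (hqM : q ∈ tau1 M) (hqH : q ∈ tau1 H) (hQ : Nat.card Q = q) (hQI : Q ≤ M ⊓ H)
    (hfacM : M ≤ alphaCore M ⊔ (M ⊓ H))
    (hW' : IsPGroup w' W') (hW'1 : W' ≠ ⊥) (hW'I : W' ≤ M ⊓ H) (hw'q : w' ≠ q)
    (hw'α : w' ∉ alpha H) (hQW' : Q ≤ normalizer (W' : Set G))
    (hfpf' : ∀ x ∈ W', (∀ y ∈ Q, y * x = x * y) → x = 1)
    (hN' : normalizer (W' : Set G) ≤ M)
    (htβ : t ∈ beta M) (hAM : A ≤ M ⊓ centralizer (Q : Set G))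
    (ht'H : t' ∈ alpha H) (ht'M : t' ∉ alpha M)
    (hA'C : A' ≤ centralizer (Q : Set G))
    (hA'card : Nat.card ↥A' = sylCard t' (centralizer (Q : Set G)))
    (hXA : X ≤ A) (hX : Nat.card X = t) (c : G) (hc : c ∈ centralizer (Q : Set G))
    (hcN : A'.map (MulAut.conj c).toMonoidHom ≤ normalizer (X : Set G)) : False := by
  have hXM : X ≤ M := hXA.trans (hAM.trans inf_le_left)
  have hXe : IsElementaryAbelian t X := by
    haveI : Fact (Nat.card ↥X).Prime := ⟨by rw [hX]; exact Fact.out⟩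
    refine ⟨?_, ?_⟩
    · have hc := isCyclic_of_prime_card (α := ↥X) rfl
      exact hc.isMulCommutative
    · intro a ha
      have h1 : (⟨a, ha⟩ : X) ^ Nat.card X = 1 := pow_card_eq_one'
      rw [hX] at h1
      exact congrArg Subtype.val h1
  have hX1 : X ≠ ⊥ := by
    intro h
    rw [h, Subgroup.card_bot] at hX
    exact (Fact.out : t.Prime).one_lt.ne hX
  have hNX : normalizer (X : Set G) ≤ M :=
    Cfsg.Agent.Helper98.BG139Req.normalizer_le_of_mem_beta hG M hM t htβ X hXM hXe hX1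
  set B : Subgroup G := A'.map (MulAut.conj c).toMonoidHom with hBdef
  have hBM : B ≤ M := hcN.trans hNX
  have hBC : B ≤ centralizer (Q : Set G) := by
    rintro _ ⟨a, ha, rfl⟩
    have h1 : a ∈ centralizer (Q : Set G) := hA'C ha
    simp only [MulEquiv.coe_toMonoidHom, MulAut.conj_apply]
    exact Subgroup.mul_mem _ (Subgroup.mul_mem _ hc h1) (Subgroup.inv_mem _ hc)
  have hBcard : Nat.card ↥B = sylCard t' (centralizer (Q : Set G)) := by
    rw [hBdef, Cfsg.Agent.Helper52.card_map_conj, hA'card]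
  exact Cfsg.Agent.Helper16.BGAsym.one_sided hG hM hH hne hqM hqH hQ hQI hfacM hW' hW'1 hW'I hw'q hw'α hQW' hfpf' hN'
    ht'H ht'M (le_inf hBM hBC) hBcard

/-- B-G 13.8 -/
theorem asymmetry (hG : IsMinSimpleOddOrder G) {M H Q W W' : Subgroup G} {q w w' : ℕ}
    [Fact q.Prime] [Fact w.Prime] [Fact w'.Prime]
    (hM : IsCoatom M) (hH : IsCoatom H)
    (hnc : ∀ g : G, H ≠ M.map (MulAut.conj g).toMonoidHom)
    (hqM : q ∈ tau1 M) (hqH : q ∈ tau1 H) (hQ : Nat.card Q = q) (hQI : Q ≤ M ⊓ H)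
    (hwq : w ≠ q) (hw'q : w' ≠ q)
    (hW : IsPGroup w W) (hWI : W ≤ M ⊓ H) (hWs : Nat.card W = sylCard w (M ⊓ H))
    (hQW : Q ≤ normalizer (W : Set G))
    (hfpf : ∀ x ∈ W, (∀ y ∈ Q, y * x = x * y) → x = 1)
    (hN : normalizer (W : Set G) ≤ H)
    (hW' : IsPGroup w' W') (hW'I : W' ≤ M ⊓ H) (hW's : Nat.card W' = sylCard w' (M ⊓ H))
    (hQW' : Q ≤ normalizer (W' : Set G))
    (hfpf' : ∀ x ∈ W', (∀ y ∈ Q, y * x = x * y) → x = 1)
    (hN' : normalizer (W' : Set G) ≤ M) : False := by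
  have hne : M ≠ H := by
    intro h
    apply hnc 1
    rw [Cfsg.Agent.Helper15.BGV.map_conj_one, h]
  have hnc' := not_conj_symm hnc
  have hI : H ⊓ M = M ⊓ H := inf_comm _ _
  have hQI' : Q ≤ H ⊓ M := by rw [hI]; exact hQI
  have hW'I' : W' ≤ H ⊓ M := by rw [hI]; exact hW'I
  have hW's' : Nat.card W' = sylCard w' (H ⊓ M) := by rw [hI]; exact hW's
  obtain ⟨hW1, hwα, hfacM, t, A, htβ, hAM, hA1, hAc, hAcard⟩ :=
    side_all hG hM hH hne hqM hQ hQI hwq hW hWI hWs hQW hfpf hN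
  obtain ⟨hW'1, hw'α, hfacH, t', A', ht'β, hA'H, hA'1, hA'c, hA'card⟩ :=
    side_all hG hH hM hne.symm hqH hQ hQI' hw'q hW' hW'I' hW's' hQW' hfpf' hN'
  haveI : Fact t.Prime := ⟨htβ.1.1⟩
  haveI : Fact t'.Prime := ⟨ht'β.1.1⟩
  have hU : Cfsg.Agent.Helper79.BG10.UniqHyp G :=
    fun K hK h1 h2 => Cfsg.Agent.S1403.result hG K hK h1 h2
  have ht'M : t' ∉ alpha M := fun h =>
    Cfsg.Agent.Helper98.BG139.alpha_disj hG H M hH hM hnc' t' ht'β.1
      (Cfsg.Agent.Helper79.BG10.alpha_subset_sigma hG hU hM h)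
  have htH : t ∉ alpha H := fun h =>
    Cfsg.Agent.Helper98.BG139.alpha_disj hG M H hM hH hnc t htβ.1
      (Cfsg.Agent.Helper79.BG10.alpha_subset_sigma hG hU hH h)
  have htt' : t ≠ t' := by
    rintro rfl
    exact ht'M htβ.1
  -- `C_G(Q)` is solvable
  have hQ1 : Q ≠ ⊥ := by
    intro h
    rw [h, Subgroup.card_bot] at hQ
    exact (Fact.out : q.Prime).one_lt.ne hQ
  have hNtop : normalizer (Q : Set G) ≠ ⊤ :=
    Cfsg.Agent.Helper15.BGV.normalizer_ne_top_of_le_coatom hG hM (hQI.trans inf_le_left) hQ1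
  have hCtop : centralizer (Q : Set G) ≠ ⊤ := by
    intro h
    apply hNtop
    have := Subgroup.centralizer_le_normalizer (Q : Set G)
    rw [h] at this
    exact top_le_iff.mp this
  have hCs : Group.IsSolvable ↥(centralizer (Q : Set G)) :=
    Cfsg.Agent.Helper34.BG.solvable_of_ne_top hG hCtop
  rcases Cfsg.Agent.Helper41.BGAsym.z_asym (centralizer (Q : Set G)) hCs htt' A A'
      (hAM.trans inf_le_right) (hA'H.trans inf_le_right) hAcard hA'card hA1 hA'1 hAc hA'c with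
    ⟨X, hXA, hX, c, hc, hcN⟩ | ⟨X, hXA', hX, c, hc, hcN⟩
  · exact finish hG hM hH hne hqM hqH hQ hQI hfacM hW' hW'1 hW'I hw'q hw'α hQW' hfpf' hN'
      htβ hAM ht'β.1 ht'M (hA'H.trans inf_le_right) hA'card hXA hX c hc hcN
  · have hfacH' : H ≤ alphaCore H ⊔ (H ⊓ M) := hfacH
    have hWI' : W ≤ H ⊓ M := by rw [hI]; exact hWI
    exact finish hG hH hM hne.symm hqH hqM hQ hQI' hfacH' hW hW1 hWI' hwq hwα hQW hfpf hN
      ht'β hA'H htβ.1 htH (hAM.trans inf_le_right) hAcard hXA' hX c hc hcN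

end Cfsg.Agent.Helper96.BGAsym
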