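import Mathlib
import Cfsg.Agent.Lib.Helper7.CWDefs
import Cfsg.Agent.S1587
import Cfsg.Agent.S1588

/-!
# CW server (helper7, S0406), piece (F1): `frame_exists`
-/

set_option autoImplicit false
open Matrix

namespace Cfsg.Agent.Helper96.CW
open Cfsg Cfsg.Agent.Helper7.CW

/-- (F1) existence of an orthogonal frame. -/
theorem frame_exists (B : Matrix (Fin 24) (Fin 24) ℤ) (hsymm : B.IsSymm)
    (hpos : ∀ x : Fin 24 → ℤ, x ≠ 0 → 0 < x ⬝ᵥ (B *ᵥ x))
    (heven : ∀ x : Fin 24 → ℤ, (2 : ℤ) ∣ x ⬝ᵥ (B *ᵥ x))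
    (h2 : ∀ x : Fin 24 → ℤ, x ⬝ᵥ (B *ᵥ x) ≠ 2)
    (h4 : {x : Fin 24 → ℤ | x ⬝ᵥ (B *ᵥ x) = 4}.ncard = 196560)
    (h6 : {x : Fin 24 → ℤ | x ⬝ᵥ (B *ᵥ x) = 6}.ncard = 16773120)
    (h8 : {x : Fin 24 → ℤ | x ⬝ᵥ (B *ᵥ x) = 8}.ncard = 398034000) :
    ∃ v : Fin 24 → V, (∀ i, (v i) ⬝ᵥ (B *ᵥ (v i)) = 8) ∧
      (∀ i j, i ≠ j → (v i) ⬝ᵥ (B *ᵥ (v j)) = 0) ∧
      (∀ i j k, (2 : ℤ) ∣ (v i - v j) k) := by
  classical
  have hne : {x : Fin 24 → ℤ | x ⬝ᵥ (B *ᵥ x) = 8}.Nonempty := by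
    by_contra h
    rw [Set.not_nonempty_iff_eq_empty] at h
    rw [h, Set.ncard_empty] at h8
    omega
  obtain ⟨x0, hx0⟩ := hne
  have hx0' : x0 ⬝ᵥ (B *ᵥ x0) = 8 := hx0
  have hF48 : {y : Fin 24 → ℤ | y ⬝ᵥ (B *ᵥ y) = 8 ∧ ∀ i, (2 : ℤ) ∣ (x0 - y) i}.ncard = 48 :=
    Cfsg.Agent.S1588.result B hsymm hpos heven h2 h4 h6 h8 x0 hx0'
  set F : Set (Fin 24 → ℤ) := {y | y ⬝ᵥ (B *ᵥ y) = 8 ∧ ∀ i, (2 : ℤ) ∣ (x0 - y) i} with hF
  have hFfin : F.Finite := Set.finite_of_ncard_ne_zero (by rw [hF48]; norm_num)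
  have hneg : ∀ y ∈ F, -y ∈ F := by
    rintro y ⟨hy8, hy2⟩
    refine ⟨?_, ?_⟩
    · rw [Matrix.mulVec_neg, neg_dotProduct, dotProduct_neg, neg_neg]
      exact hy8
    · intro i
      have h1 := hy2 i
      have e : (x0 - -y) i = (x0 - y) i + 2 * y i := by
        simp only [Pi.sub_apply, Pi.neg_apply]
        ring
      rw [e]
      exact dvd_add h1 (dvd_mul_right 2 _)
  have hne0 : ∀ y ∈ F, y ≠ -y := by
    rintro y ⟨hy8, _⟩ h
    have hy0 : y = 0 := by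
      funext i
      have h1 := congrFun h i
      simp only [Pi.neg_apply] at h1
      simp only [Pi.zero_apply]
      omega
    rw [hy0] at hy8
    simp at hy8
  set T : Set (Fin 24 → ℤ) := {y | y ∈ F ∧ toLex (-y) < toLex y} with hT
  set T' : Set (Fin 24 → ℤ) := {y | y ∈ F ∧ toLex y < toLex (-y)} with hT'
  have hunion : F = T ∪ T' := by
    ext y
    constructor
    · intro hy
      have h1 : toLex y ≠ toLex (-y) := fun h => hne0 y hy (toLex.injective h)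
      rcases lt_or_gt_of_ne h1 with h | h
      · exact Or.inr ⟨hy, h⟩
      · exact Or.inl ⟨hy, h⟩
    · rintro (h | h)
      · exact h.1
      · exact h.1
  have hdisj : Disjoint T T' := by
    rw [Set.disjoint_left]
    rintro y ⟨_, h1⟩ ⟨_, h2⟩
    exact lt_asymm h1 h2
  have hT'img : T' = Neg.neg '' T := by
    ext y
    constructor
    · rintro ⟨hy, h⟩
      refine ⟨-y, ⟨hneg y hy, ?_⟩, neg_neg y⟩
      rw [neg_neg]
      exact h
    · rintro ⟨z, ⟨hz, h⟩, rfl⟩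
      refine ⟨hneg z hz, ?_⟩
      rw [neg_neg]
      exact h
  have hTfin : T.Finite := hFfin.subset (fun y hy => hy.1)
  have hT'fin : T'.Finite := hFfin.subset (fun y hy => hy.1)
  have hcard : T.ncard = 24 := by
    have h1 : F.ncard = T.ncard + T'.ncard := by
      rw [hunion]
      exact Set.ncard_union_eq hdisj hTfin hT'fin
    have h3 : T'.ncard = T.ncard := by
      rw [hT'img]
      exact Set.ncard_image_of_injective _ neg_injective
    omega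
  have : Finite T := hTfin.to_subtype
  have hcard' : Nat.card T = 24 := by
    rw [Nat.card_coe_set_eq, hcard]
  let e : T ≃ Fin 24 := Finite.equivFinOfCardEq hcard'
  have hcong : ∀ y ∈ F, ∀ z ∈ F, ∀ k, (2 : ℤ) ∣ (y - z) k := by
    rintro y ⟨_, hy2⟩ z ⟨_, hz2⟩ k
    have e1 : (y - z) k = (x0 - z) k - (x0 - y) k := by
      simp only [Pi.sub_apply]
      ring
    rw [e1]
    exact dvd_sub (hz2 k) (hy2 k)
  refine ⟨fun i => (e.symm i).1, ?_, ?_, ?_⟩
  · intro i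
    exact (e.symm i).2.1.1
  · intro i j hij
    have hyT := (e.symm i).2
    have hzT := (e.symm j).2
    have hne1 : (e.symm j).1 ≠ (e.symm i).1 := by
      intro h
      exact hij (e.symm.injective (Subtype.ext h)).symm
    have hne2 : (e.symm j).1 ≠ -(e.symm i).1 := by
      intro h
      have h1 := hzT.2
      rw [h, neg_neg] at h1
      exact lt_asymm h1 hyT.2
    rcases Cfsg.Agent.S1587.result B hsymm hpos heven h2 (e.symm i).1 (e.symm j).1
      hyT.1.1 hzT.1.1 (hcong _ hyT.1 _ hzT.1) with h | h | h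
    · exact absurd h hne1
    · exact absurd h hne2
    · exact h
  · intro i j k
    exact hcong _ (e.symm i).2.1 _ (e.symm j).2.1 k

end Cfsg.Agent.Helper96.CW
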