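import Mathlib
import Cfsg.Prelude.Def_Solvable
import Cfsg.Agent.Lib.Helper96.FrobCompl

set_option autoImplicit false
set_option linter.unusedSectionVars false

namespace Cfsg.Agent.Helper96

open Pointwise
open scoped commutatorElement

universe u
variable {G : Type u} [Group G]

/-- A Frobenius complement `H` normalizes a nontrivial abelian subgroup contained in the Frobenius
kernel. -/
theorem exists_invariant_abelian_subgroup [Finite G] {H : Subgroup G}
    (hH : Cfsg.IsFrobeniusComplement H) :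
    ∃ V : Subgroup G, (V : Set G) ⊆ Cfsg.frobeniusKernel H ∧ V ≠ ⊥ ∧
      (∀ a ∈ V, ∀ b ∈ V, a * b = b * a) ∧ H ≤ Subgroup.normalizer (V : Set G) := by
  classical
  have hidx1 : H.index ≠ 1 := fun h => hH.2.1 (Subgroup.index_eq_one.mp h)
  have hp : Fact (Nat.minFac H.index).Prime := ⟨Nat.minFac_prime hidx1⟩
  obtain ⟨Q, hQK, hQp, hQ1, hHQ⟩ :=
    exists_invariant_pSubgroup hH (Nat.minFac H.index) (Nat.minFac_dvd _)
  refine ⟨Q ⊓ Subgroup.centralizer (Q : Set G), ?_, ?_, ?_, ?_⟩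
  · intro v hv
    exact hQK (Subgroup.mem_inf.mp hv).1
  · have hQnt : Nontrivial Q := (Subgroup.nontrivial_iff_ne_bot Q).mpr hQ1
    have hcnt : Nontrivial (Subgroup.center Q) := hQp.center_nontrivial
    obtain ⟨z, hz⟩ := exists_ne (1 : Subgroup.center Q)
    intro hbot
    have hzV : ((z : Q) : G) ∈ Q ⊓ Subgroup.centralizer (Q : Set G) := by
      refine Subgroup.mem_inf.mpr ⟨(z : Q).2, ?_⟩
      rw [Subgroup.mem_centralizer_iff]
      intro y hy
      have := Subgroup.mem_center_iff.mp z.2 ⟨y, hy⟩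
      exact congrArg Subtype.val this
    rw [hbot, Subgroup.mem_bot] at hzV
    apply hz
    apply Subtype.ext
    apply Subtype.ext
    exact hzV
  · intro a ha b hb
    have ha' : a ∈ Subgroup.centralizer (Q : Set G) := (Subgroup.mem_inf.mp ha).2
    have hb' : b ∈ Q := (Subgroup.mem_inf.mp hb).1
    rw [Subgroup.mem_centralizer_iff] at ha'
    exact (ha' b hb').symm
  · have key : ∀ h : G, h ∈ Subgroup.normalizer (Q : Set G) →
        ∀ v ∈ Q ⊓ Subgroup.centralizer (Q : Set G),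
          h * v * h⁻¹ ∈ Q ⊓ Subgroup.centralizer (Q : Set G) := by
      intro h hh v hv
      obtain ⟨hv1, hv2⟩ := Subgroup.mem_inf.mp hv
      have hh' := Subgroup.mem_normalizer_iff.mp hh
      refine Subgroup.mem_inf.mpr ⟨(hh' v).mp hv1, ?_⟩
      rw [Subgroup.mem_centralizer_iff]
      intro y hy
      have hy' : h⁻¹ * y * h ∈ Q := by
        rw [hh' (h⁻¹ * y * h)]
        have e : h * (h⁻¹ * y * h) * h⁻¹ = y := by group
        rw [e]; exact hy
      rw [Subgroup.mem_centralizer_iff] at hv2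
      have hc := hv2 _ hy'
      calc y * (h * v * h⁻¹) = h * ((h⁻¹ * y * h) * v) * h⁻¹ := by group
        _ = h * (v * (h⁻¹ * y * h)) * h⁻¹ := by rw [hc]
        _ = h * v * h⁻¹ * y := by group
    intro h hh
    have hhQ := hHQ hh
    rw [Subgroup.mem_normalizer_iff]
    intro v
    constructor
    · exact key h hhQ v
    · intro hv
      have := key h⁻¹ ((Subgroup.normalizer (Q : Set G)).inv_mem hhQ) _ hv
      have e : h⁻¹ * (h * v * h⁻¹) * h⁻¹⁻¹ = v := by group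
      rwa [e] at this

/-- If `G = N B` with `N` normal and `B` abelian then `G' ≤ N`. -/
theorem commutator_le_of_sup_eq_top (N B : Subgroup G) [hN : N.Normal]
    (hB : ∀ a ∈ B, ∀ b ∈ B, a * b = b * a) (hsup : N ⊔ B = ⊤) : commutator G ≤ N := by
  rw [commutator_def, Subgroup.commutator_le]
  intro g₁ _ g₂ _
  have hmem : ∀ g : G, ∃ n ∈ N, ∃ b ∈ B, n * b = g := by
    intro g
    have hg : g ∈ ((N ⊔ B : Subgroup G) : Set G) := by rw [hsup]; exact Set.mem_univ _
    rw [Subgroup.normal_mul N B] at hg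
    obtain ⟨n, hn, b, hb, h⟩ := Set.mem_mul.mp hg
    exact ⟨n, hn, b, hb, h⟩
  obtain ⟨n₁, hn₁, b₁, hb₁, rfl⟩ := hmem g₁
  obtain ⟨n₂, hn₂, b₂, hb₂, rfl⟩ := hmem g₂
  rw [← QuotientGroup.eq_one_iff]
  have e0 : ((⁅n₁ * b₁, n₂ * b₂⁆ : G) : G ⧸ N) = ⁅((n₁ * b₁ : G) : G ⧸ N), ((n₂ * b₂ : G) : G ⧸ N)⁆ :=
    map_commutatorElement (QuotientGroup.mk' N) _ _
  have e3 : ((⁅b₁, b₂⁆ : G) : G ⧸ N) = ⁅((b₁ : G) : G ⧸ N), ((b₂ : G) : G ⧸ N)⁆ :=
    map_commutatorElement (QuotientGroup.mk' N) _ _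
  rw [e0]
  have e1 : ((n₁ * b₁ : G) : G ⧸ N) = (b₁ : G ⧸ N) := by
    rw [QuotientGroup.mk_mul, (QuotientGroup.eq_one_iff n₁).mpr hn₁, one_mul]
  have e2 : ((n₂ * b₂ : G) : G ⧸ N) = (b₂ : G ⧸ N) := by
    rw [QuotientGroup.mk_mul, (QuotientGroup.eq_one_iff n₂).mpr hn₂, one_mul]
  rw [e1, e2, ← e3, commutatorElement_def, hB b₁ hb₁ b₂ hb₂]
  simp

end Cfsg.Agent.Helper96
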