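import Mathlib
import Cfsg.Prelude.Def_Solvable
import Cfsg.Agent.Lib.Helper96.FrobCompl
import Cfsg.Agent.S3383

set_option autoImplicit false
set_option linter.unusedSectionVars false

namespace Cfsg.Agent.Helper96

open Pointwise

universe u
variable {G : Type u} [Group G]

/-- Lifting fixed cosets: if a nonidentity element `r` of a Frobenius complement fixes the coset
`kN` of a normal subgroup `N` inside the kernel `K`, then `k ∈ N`. -/
theorem frob_coset_fixed [Finite G] {R : Subgroup G} (hR : Cfsg.IsFrobeniusComplement R)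
    (K : Subgroup G) (hK : (K : Set G) = Cfsg.frobeniusKernel R)
    (N : Subgroup G) [hNn : N.Normal] (hNK : N ≤ K)
    {r k : G} (hr : r ∈ R) (hr1 : r ≠ 1) (hk : k ∈ K)
    (h : r⁻¹ * k⁻¹ * r * k ∈ N) : k ∈ N := by
  classical
  have hmemK : ∀ x, x ∈ K → x ∈ Cfsg.frobeniusKernel R := fun x hx => by rw [← hK]; exact hx
  have hφmem : ∀ n : N, r⁻¹ * (n : G)⁻¹ * r * n ∈ N := by
    intro n
    have h1 : r⁻¹ * (n : G)⁻¹ * r ∈ N := by
      have := hNn.conj_mem _ (N.inv_mem n.2) r⁻¹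
      simpa using this
    exact N.mul_mem h1 n.2
  have hcancel : ∀ a b : G, a ∈ K → b ∈ K → r⁻¹ * a⁻¹ * r * a = r⁻¹ * b⁻¹ * r * b → a = b := by
    intro a b ha hb hab
    have hc : r * (a * b⁻¹) * r⁻¹ = a * b⁻¹ := by
      have h3 : a⁻¹ * r * a = b⁻¹ * r * b := by
        have := congrArg (fun t => r * t) hab
        simpa [mul_assoc] using this
      calc r * (a * b⁻¹) * r⁻¹ = a * (a⁻¹ * r * a) * b⁻¹ * r⁻¹ := by group
        _ = a * (b⁻¹ * r * b) * b⁻¹ * r⁻¹ := by rw [h3]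
        _ = a * b⁻¹ := by group
    have hmem : a * b⁻¹ ∈ Cfsg.frobeniusKernel R := hmemK _ (K.mul_mem ha (K.inv_mem hb))
    have := frob_kernel_fixed_eq_one hR hr hr1 hmem hc
    calc a = (a * b⁻¹) * b := by group
      _ = b := by rw [this, one_mul]
  let φ : N → N := fun n => ⟨r⁻¹ * (n : G)⁻¹ * r * n, hφmem n⟩
  have hφ : Function.Injective φ := by
    intro a b hab
    have hab' : r⁻¹ * (a : G)⁻¹ * r * a = r⁻¹ * (b : G)⁻¹ * r * b := congrArg Subtype.val hab
    exact Subtype.ext (hcancel _ _ (hNK a.2) (hNK b.2) hab')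
  obtain ⟨n, hn⟩ := (Finite.injective_iff_surjective.mp hφ) ⟨_, h⟩
  have hn' : r⁻¹ * (n : G)⁻¹ * r * n = r⁻¹ * k⁻¹ * r * k := congrArg Subtype.val hn
  have := hcancel _ _ (hNK n.2) hk hn'
  rw [← this]
  exact n.2

/-- Quotients of Frobenius groups by normal subgroups not containing the kernel. -/
theorem frob_quotient [Finite G] {R : Subgroup G} (hR : Cfsg.IsFrobeniusComplement R)
    (N : Subgroup G) [hNn : N.Normal] (hKN : ¬ Cfsg.frobeniusKernel R ⊆ N) :
    Cfsg.IsFrobeniusComplement (R.map (QuotientGroup.mk' N)) ∧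
      Cfsg.frobeniusKernel (R.map (QuotientGroup.mk' N))
        = QuotientGroup.mk' N '' Cfsg.frobeniusKernel R := by
  classical
  have := Fintype.ofFinite G
  obtain ⟨K, hK, hKn, hKc⟩ := frobenius_kernel_normal_complement hR
  have hmemK : ∀ x, x ∈ K ↔ x ∈ Cfsg.frobeniusKernel R := fun x => by rw [← hK]; rfl
  have hNK : N ≤ K := by
    rcases (Cfsg.Agent.S3383.result R hR K hK).2 N hNn with h | h
    · exfalso
      apply hKN
      intro x hx
      exact h ((hmemK x).mpr hx)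
    · exact h
  have hKR : ∀ x, x ∈ K → x ∈ R → x = 1 := fun x hxK hxR =>
    Cfsg.Agent.S3383.K_inf_H R K hK x hxK hxR
  have hprod : ∀ x : G, ∃ k ∈ K, ∃ r ∈ R, x = k * r := by
    intro x
    obtain ⟨⟨⟨k, hk⟩, ⟨r, hr⟩⟩, hkr⟩ := hKc.2 x
    exact ⟨k, hk, r, hr, hkr.symm⟩
  set π := QuotientGroup.mk' N with hπ
  have hπeq : ∀ a b : G, π a = π b ↔ a⁻¹ * b ∈ N := fun a b => QuotientGroup.eq
  have hπ1 : ∀ a : G, π a = 1 ↔ a ∈ N := fun a => QuotientGroup.eq_one_iff a
  have hmemR : ∀ y : G, π y ∈ R.map π ↔ ∃ r ∈ R, r⁻¹ * y ∈ N := by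
    intro y
    rw [Subgroup.mem_map]
    constructor
    · rintro ⟨r, hr, h⟩
      exact ⟨r, hr, (hπeq r y).mp h⟩
    · rintro ⟨r, hr, h⟩
      exact ⟨r, hr, (hπeq r y).mpr h⟩
  -- an element of `R` congruent mod `N` to an element of `K` is trivial
  have hRK : ∀ r ∈ R, ∀ k ∈ K, r⁻¹ * k ∈ N → r = 1 := by
    intro r hr k hk h
    have h1 : r⁻¹ ∈ K := by
      have := K.mul_mem (hNK h) (K.inv_mem hk)
      simpa using this
    have := hKR r⁻¹ h1 (R.inv_mem hr)
    simpa using this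
  have hfrob : Cfsg.IsFrobeniusComplement (R.map π) := by
    refine ⟨?_, ?_, ?_⟩
    · intro hbot
      obtain ⟨r, hr, hr1⟩ : ∃ r ∈ R, r ≠ 1 := by
        by_contra h
        push Not at h
        exact hR.1 ((Subgroup.eq_bot_iff_forall _).mpr h)
      have h1 : π r ∈ R.map π := Subgroup.mem_map_of_mem π hr
      rw [hbot, Subgroup.mem_bot, hπ1] at h1
      exact hr1 (hKR r (hNK h1) hr)
    · intro htop
      apply hKN
      intro k hk
      have hkK : k ∈ K := (hmemK k).mpr hk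
      have h1 : π k ∈ R.map π := by rw [htop]; exact Subgroup.mem_top _
      obtain ⟨r, hr, h2⟩ := (hmemR k).mp h1
      have hr1 := hRK r hr k hkK h2
      rw [hr1] at h2
      simpa using h2
    · intro xbar hxbar
      obtain ⟨x, rfl⟩ := QuotientGroup.mk'_surjective N xbar
      rw [Subgroup.eq_bot_iff_forall]
      intro ybar hybar
      by_contra hybar1
      obtain ⟨hy1, hy2⟩ := Subgroup.mem_inf.mp hybar
      rw [mem_conj_smul_iff] at hy2
      obtain ⟨r₁, hr₁, rfl⟩ := Subgroup.mem_map.mp hy1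
      have hy2' : π (x⁻¹ * r₁ * x) ∈ R.map π := by
        rw [map_mul, map_mul, map_inv]; exact hy2
      obtain ⟨r₂, hr₂, h2⟩ := (hmemR _).mp hy2'
      obtain ⟨k, hk, r, hr, rfl⟩ := hprod x
      have hr₁N : r₁ ∉ N := fun h => hybar1 ((hπ1 r₁).mpr h)
      obtain ⟨s, hs⟩ : ∃ s, s = r⁻¹ * r₁ * r := ⟨_, rfl⟩
      obtain ⟨k', hk'⟩ : ∃ k', k' = r⁻¹ * k * r := ⟨_, rfl⟩
      have hsR : s ∈ R := by rw [hs]; exact R.mul_mem (R.mul_mem (R.inv_mem hr) hr₁) hr
      have hs1 : s ≠ 1 := by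
        intro h
        apply hr₁N
        have : r₁ = r * s * r⁻¹ := by rw [hs]; group
        rw [this, h]; simp
      have hk'K : k' ∈ K := by
        rw [hk']
        have := hKn.conj_mem k hk r⁻¹
        simpa using this
      have e1 : r₂⁻¹ * ((k * r)⁻¹ * r₁ * (k * r)) = r₂⁻¹ * k'⁻¹ * s * k' := by
        rw [hs, hk']; group
      rw [e1] at h2
      -- `r₂ = s`
      have hr₂s : r₂⁻¹ * s ∈ K := by
        have h3 : r₂⁻¹ * k'⁻¹ * r₂ ∈ K := by
          have := hKn.conj_mem k'⁻¹ (K.inv_mem hk'K) r₂⁻¹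
          simpa using this
        have h4 := K.mul_mem (K.mul_mem (K.inv_mem h3) (hNK h2)) (K.inv_mem hk'K)
        have e : (r₂⁻¹ * k'⁻¹ * r₂)⁻¹ * (r₂⁻¹ * k'⁻¹ * s * k') * k'⁻¹ = r₂⁻¹ * s := by group
        rwa [e] at h4
      have hr₂s1 : r₂⁻¹ * s = 1 := hKR _ hr₂s (R.mul_mem (R.inv_mem hr₂) hsR)
      have hr₂eq : r₂ = s := by
        calc r₂ = r₂ * (r₂⁻¹ * s) := by rw [hr₂s1, mul_one]
          _ = s := by group
      rw [hr₂eq] at h2
      have hk'N : k' ∈ N := frob_coset_fixed hR K hK N hNK hsR hs1 hk'K h2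
      have hkN : k ∈ N := by
        have := hNn.conj_mem k' hk'N r
        have e : r * k' * r⁻¹ = k := by rw [hk']; group
        rwa [e] at this
      apply hxbar
      rw [hmemR]
      refine ⟨r, hr, ?_⟩
      have e : r⁻¹ * (k * r) = r⁻¹ * k * r⁻¹⁻¹ := by group
      rw [e]
      exact hNn.conj_mem k hkN r⁻¹
  refine ⟨hfrob, ?_⟩
  apply Set.Subset.antisymm
  · intro ybar hy
    obtain ⟨y, rfl⟩ := QuotientGroup.mk'_surjective N ybar
    by_cases hyK : y ∈ Cfsg.frobeniusKernel R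
    · exact ⟨y, hyK, rfl⟩
    · rw [not_mem_frobeniusKernel_iff] at hyK
      obtain ⟨-, g, hg⟩ := hyK
      rw [mem_frobeniusKernel_iff] at hy
      rcases hy with hy | hy
      · refine ⟨1, (mem_frobeniusKernel_iff R 1).mpr (Or.inl rfl), ?_⟩
        rw [map_one]; exact hy.symm
      · exfalso
        apply hy (π g)
        have : (π g)⁻¹ * π y * π g = π (g⁻¹ * y * g) := by
          rw [map_mul, map_mul, map_inv]
        rw [this]
        exact Subgroup.mem_map_of_mem π hg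
  · rintro _ ⟨k, hk, rfl⟩
    have hkK : k ∈ K := (hmemK k).mpr hk
    rw [mem_frobeniusKernel_iff]
    by_cases hkN : k ∈ N
    · left; exact (hπ1 k).mpr hkN
    · right
      intro gbar
      obtain ⟨g, rfl⟩ := QuotientGroup.mk'_surjective N gbar
      have e : (π g)⁻¹ * π k * π g = π (g⁻¹ * k * g) := by
        rw [map_mul, map_mul, map_inv]
      rw [e, hmemR]
      rintro ⟨r, hr, h⟩
      have hgk : g⁻¹ * k * g ∈ K := by
        have := hKn.conj_mem k hkK g⁻¹
        simpa using this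
      have hr1 := hRK r hr _ hgk h
      rw [hr1] at h
      apply hkN
      have h' : g⁻¹ * k * g ∈ N := by simpa using h
      have := hNn.conj_mem _ h' g
      have e2 : g * (g⁻¹ * k * g) * g⁻¹ = k := by group
      rwa [e2] at this

end Cfsg.Agent.Helper96
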