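import Mathlib

/-!
# Perfect groups generated by 2-elements (helper96)
-/

set_option autoImplicit false
open scoped commutatorElement

namespace Cfsg.Agent.Helper96.Glaub

/-- `D` is perfect and generated by its 2-elements. -/
def Perf2 {A : Type*} [Group A] (D : Subgroup A) : Prop :=
  ⁅D, D⁆ = D ∧ Subgroup.closure {d : A | d ∈ D ∧ ∃ k : ℕ, d ^ 2 ^ k = 1} = D

variable {A B : Type*} [Group A] [Group B]

theorem Perf2.map {D : Subgroup A} (h : Perf2 D) (f : A →* B) : Perf2 (D.map f) := by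
  refine ⟨?_, ?_⟩
  · rw [← Subgroup.map_commutator, h.1]
  · apply le_antisymm
    · rw [Subgroup.closure_le]
      rintro x ⟨hx, -⟩
      exact hx
    · have h2 := h.2
      calc D.map f = (Subgroup.closure {d : A | d ∈ D ∧ ∃ k : ℕ, d ^ 2 ^ k = 1}).map f := by rw [h2]
        _ = Subgroup.closure (f '' {d : A | d ∈ D ∧ ∃ k : ℕ, d ^ 2 ^ k = 1}) :=
            MonoidHom.map_closure f _
        _ ≤ _ := by
            apply Subgroup.closure_mono
            rintro _ ⟨d, ⟨hd, k, hk⟩, rfl⟩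
            exact ⟨⟨d, hd, rfl⟩, k, by rw [← map_pow, hk, map_one]⟩

theorem Perf2.of_map_injective {D : Subgroup A} (f : A →* B) (hf : Function.Injective f)
    (h : Perf2 (D.map f)) : Perf2 D := by
  refine ⟨?_, ?_⟩
  · apply Subgroup.map_injective hf
    rw [Subgroup.map_commutator, h.1]
  · apply Subgroup.map_injective hf
    rw [MonoidHom.map_closure]
    have : (f '' {d : A | d ∈ D ∧ ∃ k : ℕ, d ^ 2 ^ k = 1})
        = {d : B | d ∈ D.map f ∧ ∃ k : ℕ, d ^ 2 ^ k = 1} := by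
      ext x
      constructor
      · rintro ⟨d, ⟨hd, k, hk⟩, rfl⟩
        exact ⟨⟨d, hd, rfl⟩, k, by rw [← map_pow, hk, map_one]⟩
      · rintro ⟨⟨d, hd, rfl⟩, k, hk⟩
        refine ⟨d, ⟨hd, k, ?_⟩, rfl⟩
        apply hf
        rw [map_pow, hk, map_one]
    rw [this, h.2]

theorem Perf2.top_subtype {D : Subgroup A} (h : Perf2 D) : Perf2 (⊤ : Subgroup ↥D) := by
  apply Perf2.of_map_injective D.subtype D.subtype_injective
  have : (⊤ : Subgroup ↥D).map D.subtype = D := by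
    rw [← MonoidHom.range_eq_map, Subgroup.range_subtype]
  rw [this]
  exact h

theorem Perf2.range {D : Subgroup A} (h : Perf2 D) (f : ↥D →* B) : Perf2 f.range := by
  rw [MonoidHom.range_eq_map]
  exact h.top_subtype.map f

theorem Perf2.eq_bot_of_comm {D : Subgroup A} (h : Perf2 D)
    (hc : ∀ a ∈ D, ∀ b ∈ D, a * b = b * a) : D = ⊥ := by
  rw [← h.1, Subgroup.commutator_eq_bot_iff_le_centralizer]
  intro a ha
  rw [Subgroup.mem_centralizer_iff]
  intro b hb
  exact hc b hb a ha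

/-- A nontrivial `Perf2` group contains an element of order two. -/
theorem Perf2.exists_involution {D : Subgroup A} (h : Perf2 D) (hne : D ≠ ⊥) :
    ∃ σ ∈ D, σ ≠ 1 ∧ σ * σ = 1 := by
  have h1 : ∃ d ∈ D, d ≠ 1 ∧ ∃ k : ℕ, d ^ 2 ^ k = 1 := by
    by_contra hcon
    push Not at hcon
    apply hne
    rw [← h.2, Subgroup.closure_eq_bot_iff]
    rintro x ⟨hx, k, hk⟩
    by_contra hx1
    exact hcon x hx hx1 k hk
  obtain ⟨d, hd, hd1, k, hk⟩ := h1
  have hord : orderOf d ∣ 2 ^ k := orderOf_dvd_of_pow_eq_one hk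
  obtain ⟨a, -, ha⟩ := (Nat.dvd_prime_pow Nat.prime_two).mp hord
  have ha0 : a ≠ 0 := by
    rintro rfl
    rw [pow_zero, orderOf_eq_one_iff] at ha
    exact hd1 ha
  obtain ⟨b, rfl⟩ := Nat.exists_eq_succ_of_ne_zero ha0
  refine ⟨d ^ 2 ^ b, D.pow_mem hd _, ?_, ?_⟩
  · intro hcon
    have := orderOf_dvd_of_pow_eq_one hcon
    rw [ha] at this
    have h2 : 2 ^ (b + 1) ≤ 2 ^ b := Nat.le_of_dvd (by positivity) this
    have h3 : 2 ^ b < 2 ^ (b + 1) := Nat.pow_lt_pow_right (by norm_num) (Nat.lt_succ_self b)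
    omega
  · rw [← pow_add, ← two_mul, ← pow_succ', ← ha, pow_orderOf_eq_one]

end Cfsg.Agent.Helper96.Glaub
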