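import Mathlib
import Cfsg.Agent.S0201
import Cfsg.Agent.Lib.Helper96.ZStarCond
import Cfsg.Agent.Lib.Helper54.PSolv

/-!
# An isolated involutory automorphism of a core-free group is trivial (helper96)
-/

set_option autoImplicit false
open scoped commutatorElement

namespace Cfsg.Agent.Helper96.Glaub

universe u

/-- Glauberman's Z*-theorem, odd-core form (unconditional). -/
theorem zstar_main (G : Type u) [Group G] [Finite G] (z : G) (hz : Cfsg.IsIsolatedInvolution z)
    (g : G) : z * g * z⁻¹ * g⁻¹ ∈ Cfsg.oddCore G :=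
  Cfsg.Agent.Helper96.ZStar.zstar_of_bs
    (fun _ _ _ S n e hO => Cfsg.Agent.S0201.result S n e hO) G z hz g

section SDP
open SemidirectProduct
variable {N K : Type*} [Group N] [Group K] {φ : K →* MulAut N}

theorem conj_inr_right (h : N ⋊[φ] K) (k : K) (hk : ∀ x : K, x * k = k * x) :
    (h * inr k * h⁻¹).right = k := by
  rw [SemidirectProduct.mul_right, SemidirectProduct.mul_right, SemidirectProduct.inv_right,
    right_inr, hk, mul_assoc, mul_inv_cancel, mul_one]

theorem conj_inr_left (h : N ⋊[φ] K) (k : K) (hk : ∀ x : K, x * k = k * x) :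
    (h * inr k * h⁻¹).left = h.left * (φ k h.left)⁻¹ := by
  rw [SemidirectProduct.mul_left, SemidirectProduct.mul_left, SemidirectProduct.inv_left,
    SemidirectProduct.mul_right, left_inr, right_inr, map_one, mul_one]
  congr 1
  rw [← MulAut.mul_apply, ← map_mul, hk, mul_assoc, mul_inv_cancel, mul_one, map_inv]

theorem commute_inr_left (k : K) (x : N ⋊[φ] K) (h : Commute (inr k : N ⋊[φ] K) x) :
    φ k x.left = x.left := by
  have h1 := congrArg SemidirectProduct.left h.eq
  rw [SemidirectProduct.mul_left, SemidirectProduct.mul_left, left_inr, right_inr, one_mul,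
    map_one, mul_one] at h1
  exact h1

end SDP

open SemidirectProduct in
/-- If `σ` is an involutory automorphism of a finite group `G` with `O(G) = 1` which is "isolated"
(`g σ(g)⁻¹` fixed by `σ` only if trivial), then `σ = 1`. -/
theorem aut_eq_one_of_isolated {G : Type u} [Group G] [Finite G] (hO : Cfsg.oddCore G = ⊥)
    (σ : MulAut G) (hσ2 : σ * σ = 1)
    (hiso : ∀ g w : G, w = g * (σ g)⁻¹ → σ w = w → w = 1) : σ = 1 := by
  by_contra hne
  set K : Subgroup (MulAut G) := Subgroup.zpowers σ with hK
  set σ' : ↥K := ⟨σ, Subgroup.mem_zpowers σ⟩ with hσ'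
  have hσ'2 : σ' * σ' = 1 := Subtype.ext hσ2
  have hσ'ne : σ' ≠ 1 := fun h => hne (congrArg Subtype.val h)
  have hKcomm : ∀ k : ↥K, k * σ' = σ' * k := by
    intro k
    obtain ⟨n, hn⟩ := Subgroup.mem_zpowers_iff.mp k.2
    apply Subtype.ext
    show (k : MulAut G) * σ = σ * (k : MulAut G)
    rw [← hn]
    exact ((Commute.refl σ).zpow_left n).eq
  let H := G ⋊[K.subtype] K
  haveI : Finite H := Finite.of_equiv _ (SemidirectProduct.equivProd (φ := K.subtype)).symm
  set z : H := inr σ' with hz
  have hz2 : z * z = 1 := by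
    rw [hz, ← map_mul, hσ'2, map_one]
  have hz1 : z ≠ 1 := by
    intro h
    apply hσ'ne
    have := congrArg SemidirectProduct.right h
    simpa [hz] using this
  have hzord : orderOf z = 2 := by
    apply orderOf_eq_prime
    · rw [pow_two]; exact hz2
    · exact hz1
  have hzinv : z⁻¹ = z := inv_eq_of_mul_eq_one_right hz2
  -- conjugates of z
  have hconj : ∀ h : H, (h * z * h⁻¹).right = σ' ∧
      (h * z * h⁻¹).left = h.left * (σ h.left)⁻¹ := by
    intro h
    exact ⟨conj_inr_right h σ' hKcomm, conj_inr_left h σ' hKcomm⟩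
  have hziso : Cfsg.IsIsolatedInvolution z := by
    refine ⟨hzord, fun h hcomm => ?_⟩
    obtain ⟨hr, hl⟩ := hconj h
    set w := h.left * (σ h.left)⁻¹ with hw
    have hσw : σ w = w := by
      have h1 := commute_inr_left σ' _ hcomm
      rw [hl] at h1
      exact h1
    have hw1 : w = 1 := hiso h.left w hw hσw
    apply SemidirectProduct.ext
    · rw [hl, hw1, hz, left_inr]
    · rw [hr, hz, right_inr]
  -- apply Z*
  have hZ := zstar_main H z hziso
  set N : Subgroup G := (Cfsg.oddCore H).comap (inl : G →* H) with hN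
  haveI hOn : (Cfsg.oddCore H).Normal := by
    haveI : (Cfsg.pPrimeCore 2 H).Characteristic := Cfsg.Agent.Helper54.pPrimeCore_characteristic 2
    exact Subgroup.normal_of_characteristic _
  haveI hNn : N.Normal := hOn.comap _
  have hNcard : (Nat.card N).Coprime 2 := by
    have hinj : Function.Injective ((inl : G →* H).subgroupComap (Cfsg.oddCore H)) := by
      intro a b hab
      apply Subtype.ext
      have := congrArg Subtype.val hab
      exact inl_injective this
    have hdvd := Subgroup.card_dvd_of_injective _ hinj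
    exact Nat.Coprime.coprime_dvd_left hdvd (Cfsg.Agent.Helper54.pPrimeCore_coprime 2)
  have hNle : N ≤ Cfsg.oddCore G := Cfsg.Agent.Helper54.le_pPrimeCore hNn hNcard
  rw [hO] at hNle
  apply hne
  ext g
  have h1 := hZ (inl g)
  rw [hzinv] at h1
  have h2 : z * inl g * z = inl (σ g) := by
    have := inl_aut (φ := K.subtype) σ' g
    rw [show inr σ'⁻¹ = (inr σ' : H)⁻¹ from map_inv _ _, ← hz, hzinv] at this
    rw [← this]; rfl
  rw [h2, ← map_inv, ← map_mul] at h1
  have h3 : σ g * g⁻¹ ∈ N := h1
  have h4 := hNle h3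
  rw [Subgroup.mem_bot] at h4
  show σ g = g
  exact mul_inv_eq_one.mp h4

end Cfsg.Agent.Helper96.Glaub
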