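import Mathlib
import Cfsg.Agent.Lib.Helper33.TameStep

/-!
# Local control of an involutory automorphism implies it is isolated (helper96)
-/

set_option autoImplicit false
open scoped commutatorElement Pointwise

namespace Cfsg.Agent.Helper96.Glaub

open Cfsg.Agent.Helper33

variable {G : Type*} [Group G]

/-- The fixed-point subgroup of an automorphism. -/
def fixSub (σ : MulAut G) : Subgroup G where
  carrier := {x | σ x = x}
  one_mem' := map_one σ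
  mul_mem' := by
    intro a b ha hb
    show σ (a * b) = a * b
    rw [map_mul, ha, hb]
  inv_mem' := by
    intro a ha
    show σ a⁻¹ = a⁻¹
    rw [map_inv, ha]

theorem mem_fixSub {σ : MulAut G} {x : G} : x ∈ fixSub σ ↔ σ x = x := Iff.rfl

/-- The local hypothesis: on the normalizer of every nontrivial fully normalized subgroup of `S`,
`x⁻¹ σ(x)` has odd order and centralizes the subgroup. -/
def LocalOdd (S : Sylow 2 G) (σ : MulAut G) : Prop :=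
  ∀ T : Subgroup G, T ≤ (S : Subgroup G) → T ≠ ⊥ →
    IsSylIn 2 ((S : Subgroup G) ⊓ Subgroup.normalizer (T : Set G))
      (Subgroup.normalizer (T : Set G)) →
    ∀ x ∈ Subgroup.normalizer (T : Set G),
      Odd (orderOf (x⁻¹ * σ x)) ∧ ∀ t ∈ T, (x⁻¹ * σ x) * t = t * (x⁻¹ * σ x)

theorem exists_fixed_mul {σ : MulAut G} (hσ2 : ∀ g, σ (σ g) = g) {x : G}
    (hodd : Odd (orderOf (x⁻¹ * σ x))) :
    ∃ j : ℕ, σ (x * (x⁻¹ * σ x) ^ j) = x * (x⁻¹ * σ x) ^ j := by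
  set c := x⁻¹ * σ x with hc
  obtain ⟨k, hk⟩ := hodd
  have hσc : σ c = c⁻¹ := by
    rw [hc, map_mul, map_inv, hσ2, mul_inv_rev, inv_inv]
  have h1 : c ^ (k + 1) * c ^ (k + 1) = c := by
    rw [← pow_add, show k + 1 + (k + 1) = (2 * k + 1) + 1 by ring, pow_succ, ← hk,
      pow_orderOf_eq_one, one_mul]
  refine ⟨k + 1, ?_⟩
  rw [map_mul, map_pow, hσc, inv_pow]
  have h2 : σ x = x * c := by rw [hc]; group
  rw [h2, mul_assoc]
  congr 1
  calc c * (c ^ (k + 1))⁻¹ = c ^ (k + 1) * c ^ (k + 1) * (c ^ (k + 1))⁻¹ := by rw [h1]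
    _ = c ^ (k + 1) := by rw [mul_assoc, mul_inv_cancel, mul_one]

variable [Finite G]

/-- Fusion control: along an Alperin chain, conjugation is induced by a `σ`-fixed element. -/
theorem fusion_control (S : Sylow 2 G) (σ : MulAut G) (hσ2 : ∀ g, σ (σ g) = g)
    (hL : LocalOdd S σ) :
    ∀ (l : List (Subgroup G × G)) (A : Set G), IsChainP (TameP 2 S) A l → (∃ a ∈ A, a ≠ 1) →
      ∃ h, σ h = h ∧ ∀ a ∈ A, h⁻¹ * a * h
        = ((l.map Prod.snd).prod)⁻¹ * a * (l.map Prod.snd).prod := by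
  intro l
  induction l with
  | nil =>
    intro A _ _
    exact ⟨1, map_one σ, fun a _ => by simp⟩
  | cons hd tl ih =>
    intro A hch hA
    obtain ⟨T, x⟩ := hd
    obtain ⟨hT, hxN, hAT, hrest⟩ := hch
    obtain ⟨a₀, ha₀, ha₀1⟩ := hA
    obtain ⟨Q, hTQ, hsyl, -, -⟩ := hT
    have hTS : T ≤ (S : Subgroup G) := by rw [hTQ]; exact inf_le_left
    have hTne : T ≠ ⊥ := by
      intro h
      have := hAT ha₀
      rw [h] at this
      exact ha₀1 (Subgroup.mem_bot.mp this)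
    obtain ⟨hodd, hcent⟩ := hL T hTS hTne hsyl x hxN
    obtain ⟨j, hj⟩ := exists_fixed_mul hσ2 hodd
    set o := (x⁻¹ * σ x) ^ j with ho
    have hoc : ∀ t ∈ T, o * t = t * o := by
      intro t ht
      have : Commute (x⁻¹ * σ x) t := hcent t ht
      exact (this.pow_left j).eq
    have hA' : ∃ a ∈ rc x A, a ≠ 1 := by
      refine ⟨x⁻¹ * a₀ * x, ⟨a₀, ha₀, rfl⟩, ?_⟩
      intro h
      apply ha₀1
      have : a₀ = x * (x⁻¹ * a₀ * x) * x⁻¹ := by group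
      rw [this, h]; group
    obtain ⟨h₂, hh₂, hh₂c⟩ := ih (rc x A) hrest hA'
    refine ⟨x * o * h₂, by rw [map_mul, hj, hh₂], ?_⟩
    intro a ha
    have haT : a ∈ T := hAT ha
    have hxa : x⁻¹ * a * x ∈ T := by
      have := (Subgroup.mem_normalizer_iff.mp (Subgroup.inv_mem _ hxN) a).mp haT
      simpa using this
    have h1 : o⁻¹ * (x⁻¹ * a * x) * o = x⁻¹ * a * x := by
      rw [mul_assoc, ← hoc _ hxa, ← mul_assoc, inv_mul_cancel, one_mul]
    have h2 := hh₂c (x⁻¹ * a * x) ⟨a, ha, rfl⟩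
    simp only [List.map_cons, List.prod_cons]
    calc (x * o * h₂)⁻¹ * a * (x * o * h₂)
        = h₂⁻¹ * (o⁻¹ * (x⁻¹ * a * x) * o) * h₂ := by group
      _ = h₂⁻¹ * (x⁻¹ * a * x) * h₂ := by rw [h1]
      _ = _ := by rw [h2]; group

/-- Fusion control, subgroup form. -/
theorem fusion_control' (S : Sylow 2 G) (σ : MulAut G) (hσ2 : ∀ g, σ (σ g) = g)
    (hL : LocalOdd S σ) (A : Subgroup G) (hA : A ≤ (S : Subgroup G)) (hA1 : A ≠ ⊥) (g : G)
    (hg : MulAut.conj g⁻¹ • A ≤ (S : Subgroup G)) :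
    ∃ h, σ h = h ∧ ∀ a ∈ A, h⁻¹ * a * h = g⁻¹ * a * g := by
  obtain ⟨l, hl, rfl⟩ := reachP_tame S A hA g hg
  obtain ⟨a, ha⟩ := (Subgroup.ne_bot_iff_exists_ne_one).mp hA1
  exact fusion_control S σ hσ2 hL l (A : Set G) hl ⟨a, a.2, fun h => ha (Subtype.ext h)⟩

/-- Elements of order two of the fixed-point subgroup are conjugate into `S` under it. -/
theorem exists_conj_mem_of_fixed (S : Sylow 2 G) (σ : MulAut G) (hσS : ∀ s ∈ S, σ s = s)
    {y : G} (hy : σ y = y) (hy2 : y * y = 1) : ∃ h, σ h = h ∧ h * y * h⁻¹ ∈ S := by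
  set H := fixSub σ with hH
  have hSH : (S : Subgroup G) ≤ H := fun s hs => hσS s hs
  set S' : Sylow 2 ↥H := S.subtype hSH with hS'
  have hz : IsPGroup 2 (Subgroup.zpowers (⟨y, hy⟩ : ↥H)) := by
    by_cases h1 : y = 1
    · apply IsPGroup.of_card (n := 0)
      rw [Nat.card_zpowers]
      have : (⟨y, hy⟩ : ↥H) = 1 := Subtype.ext h1
      rw [this, orderOf_one, pow_zero]
    · apply IsPGroup.of_card (n := 1)
      rw [Nat.card_zpowers, pow_one]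
      apply orderOf_eq_prime
      · apply Subtype.ext
        rw [pow_two]
        exact hy2
      · intro h
        exact h1 (congrArg Subtype.val h)
  obtain ⟨S'', hS''⟩ := hz.exists_le_sylow
  obtain ⟨h, hh⟩ := MulAction.exists_smul_eq ↥H S'' S'
  have h1 : h * ⟨y, hy⟩ * h⁻¹ ∈ (S' : Subgroup ↥H) := by
    rw [← hh, Sylow.coe_subgroup_smul]
    have := Subgroup.smul_mem_pointwise_smul (⟨y, hy⟩ : ↥H) (MulAut.conj h)
      (S'' : Subgroup ↥H) (hS'' (Subgroup.mem_zpowers _))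
    simpa [MulAut.smul_def] using this
  refine ⟨(h : G), h.2, ?_⟩
  have h2 : h * ⟨y, hy⟩ * h⁻¹ ∈ (S : Subgroup G).subgroupOf H := h1
  rw [Subgroup.mem_subgroupOf] at h2
  have h3 : (h : G) * y * (h : G)⁻¹ ∈ (S : Subgroup G) := by simpa using h2
  exact h3

/-- **Isolation from local control.** -/
theorem isolated_of_localOdd (S : Sylow 2 G) (σ : MulAut G) (hσ2 : ∀ g, σ (σ g) = g)
    (hσS : ∀ s ∈ S, σ s = s) (hL : LocalOdd S σ) :
    ∀ g w : G, w = g * (σ g)⁻¹ → σ w = w → w = 1 := by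
  intro g w hw hσw
  by_contra hw1
  -- w is an involution
  have hσw' : σ w = w⁻¹ := by
    rw [hw, map_mul, map_inv, hσ2, mul_inv_rev, inv_inv]
  have hw2 : w * w = 1 := by
    have : w = w⁻¹ := hσw.symm.trans hσw'
    calc w * w = w * w⁻¹ := by rw [← this]
      _ = 1 := mul_inv_cancel w
  -- move w into S
  obtain ⟨h, hh, hhw⟩ := exists_conj_mem_of_fixed S σ hσS hσw hw2
  set w₁ := h * w * h⁻¹ with hw₁
  set g₁ := h * g with hg₁
  have hw₁g : w₁ = g₁ * (σ g₁)⁻¹ := by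
    rw [hw₁, hg₁, map_mul, hh, hw]; group
  have hσw₁ : σ w₁ = w₁ := by rw [hw₁, map_mul, map_mul, map_inv, hh, hσw]
  have hw₁1 : w₁ ≠ 1 := by
    intro h1
    apply hw1
    have : w = h⁻¹ * w₁ * h := by rw [hw₁]; group
    rw [this, h1]; group
  have hw₁2 : w₁ * w₁ = 1 := by
    rw [hw₁]
    calc h * w * h⁻¹ * (h * w * h⁻¹) = h * (w * w) * h⁻¹ := by group
      _ = 1 := by rw [hw2]; group
  have hw₁inv : w₁⁻¹ = w₁ := inv_eq_of_mul_eq_one_right hw₁2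
  have hσg₁ : σ g₁ = w₁ * g₁ := by
    have : σ g₁ = w₁⁻¹ * g₁ := by rw [hw₁g]; group
    rw [this, hw₁inv]
  -- s = g₁⁻¹ w₁ g₁ is fixed
  set s := g₁⁻¹ * w₁ * g₁ with hs
  have hσs : σ s = s := by
    rw [hs, map_mul, map_mul, map_inv, hσg₁, hσw₁]
    calc (w₁ * g₁)⁻¹ * w₁ * (w₁ * g₁) = g₁⁻¹ * (w₁⁻¹ * w₁ * w₁) * g₁ := by group
      _ = g₁⁻¹ * w₁ * g₁ := by rw [inv_mul_cancel, one_mul]
  have hs2 : s * s = 1 := by
    rw [hs]
    calc g₁⁻¹ * w₁ * g₁ * (g₁⁻¹ * w₁ * g₁) = g₁⁻¹ * (w₁ * w₁) * g₁ := by group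
      _ = 1 := by rw [hw₁2]; group
  obtain ⟨h', hh', hh's⟩ := exists_conj_mem_of_fixed S σ hσS hσs hs2
  set g₂ := g₁ * h'⁻¹ with hg₂
  have hσg₂ : σ g₂ = w₁ * g₂ := by
    rw [hg₂, map_mul, map_inv, hh', hσg₁]; group
  have hs₂ : g₂⁻¹ * w₁ * g₂ = h' * s * h'⁻¹ := by
    rw [hg₂, hs]; group
  -- Alperin
  set A : Subgroup G := Subgroup.zpowers w₁ with hA
  have hAS : A ≤ (S : Subgroup G) := by
    rw [hA, Subgroup.zpowers_le]; exact hhw
  have hA1 : A ≠ ⊥ := by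
    intro h0
    have : w₁ ∈ A := Subgroup.mem_zpowers w₁
    rw [h0, Subgroup.mem_bot] at this
    exact hw₁1 this
  have hconjA : MulAut.conj g₂⁻¹ • A ≤ (S : Subgroup G) := by
    rintro _ ⟨a, ha, rfl⟩
    obtain ⟨n, rfl⟩ := Subgroup.mem_zpowers_iff.mp ha
    show g₂⁻¹ * w₁ ^ n * g₂⁻¹⁻¹ ∈ (S : Subgroup G)
    rw [inv_inv]
    have : g₂⁻¹ * w₁ ^ n * g₂ = (g₂⁻¹ * w₁ * g₂) ^ n := by
      have := map_zpow (MulAut.conj g₂⁻¹) w₁ n
      simpa [MulAut.conj_apply] using this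
    rw [this, hs₂]
    exact Subgroup.zpow_mem _ hh's n
  obtain ⟨k, hk, hkc⟩ := fusion_control' S σ hσ2 hL A hAS hA1 g₂ hconjA
  -- c = g₂ k⁻¹ centralizes w₁ and σ c = w₁ c
  set c := g₂ * k⁻¹ with hc
  have hcw : c⁻¹ * w₁ * c = w₁ := by
    have h1 := hkc w₁ (Subgroup.mem_zpowers w₁)
    rw [hc]
    calc (g₂ * k⁻¹)⁻¹ * w₁ * (g₂ * k⁻¹) = k * (g₂⁻¹ * w₁ * g₂) * k⁻¹ := by group
      _ = k * (k⁻¹ * w₁ * k) * k⁻¹ := by rw [h1]
      _ = w₁ := by group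
  have hσc : σ c = w₁ * c := by
    rw [hc, map_mul, map_inv, hk, hσg₂]; group
  -- fully normalized conjugate of A
  obtain ⟨g₀, -, hg₀S, hg₀syl⟩ := exists_conj_fully_normalized S hAS
  have hconjA0 : MulAut.conj (g₀⁻¹)⁻¹ • A ≤ (S : Subgroup G) := by rw [inv_inv]; exact hg₀S
  obtain ⟨k₀, hk₀, hk₀c⟩ := fusion_control' S σ hσ2 hL A hAS hA1 g₀⁻¹ hconjA0
  set T' : Subgroup G := MulAut.conj g₀ • A with hT'
  set c' := k₀⁻¹ * c * k₀ with hc'
  set w' := k₀⁻¹ * w₁ * k₀ with hw'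
  have hT'ne : T' ≠ ⊥ := by
    intro h0
    have : g₀ * w₁ * g₀⁻¹ ∈ T' := ⟨w₁, Subgroup.mem_zpowers w₁, rfl⟩
    rw [h0, Subgroup.mem_bot] at this
    apply hw₁1
    have e : w₁ = g₀⁻¹ * (g₀ * w₁ * g₀⁻¹) * g₀ := by group
    rw [e, this]; group
  have hmemT' : ∀ t ∈ T', ∃ a ∈ A, t = k₀⁻¹ * a * k₀ := by
    rintro _ ⟨a, ha, rfl⟩
    refine ⟨a, ha, ?_⟩
    have := hk₀c a ha
    rw [inv_inv] at this
    show g₀ * a * g₀⁻¹ = _
    rw [this]
  have hc'cent : c' ∈ Subgroup.centralizer (T' : Set G) := by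
    rw [Subgroup.mem_centralizer_iff]
    intro t ht
    obtain ⟨a, ha, rfl⟩ := hmemT' t ht
    obtain ⟨n, rfl⟩ := Subgroup.mem_zpowers_iff.mp ha
    have hcomm : Commute c w₁ := by
      have : w₁ * c = c * w₁ := by
        calc w₁ * c = c * (c⁻¹ * w₁ * c) := by group
          _ = c * w₁ := by rw [hcw]
      exact this.symm
    have h2 : Commute c (w₁ ^ n) := hcomm.zpow_right n
    rw [hc']
    calc k₀⁻¹ * w₁ ^ n * k₀ * (k₀⁻¹ * c * k₀) = k₀⁻¹ * (w₁ ^ n * c) * k₀ := by group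
      _ = k₀⁻¹ * (c * w₁ ^ n) * k₀ := by rw [h2.eq]
      _ = _ := by group
  have hc'N : c' ∈ Subgroup.normalizer (T' : Set G) :=
    Subgroup.centralizer_le_normalizer _ hc'cent
  obtain ⟨hodd, -⟩ := hL T' hg₀S hT'ne hg₀syl c' hc'N
  have hσc' : σ c' = w' * c' := by
    rw [hc', map_mul, map_mul, map_inv, hk₀, hσc, hw']; group
  have hw'c' : c'⁻¹ * w' * c' = w' := by
    rw [hc', hw']
    calc (k₀⁻¹ * c * k₀)⁻¹ * (k₀⁻¹ * w₁ * k₀) * (k₀⁻¹ * c * k₀)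
        = k₀⁻¹ * (c⁻¹ * w₁ * c) * k₀ := by group
      _ = _ := by rw [hcw]
  have hval : c'⁻¹ * σ c' = w' := by
    rw [hσc', ← mul_assoc, hw'c']
  rw [hval] at hodd
  have hw'ord : orderOf w' = 2 := by
    apply orderOf_eq_prime
    · rw [hw', pow_two]
      calc k₀⁻¹ * w₁ * k₀ * (k₀⁻¹ * w₁ * k₀) = k₀⁻¹ * (w₁ * w₁) * k₀ := by group
        _ = 1 := by rw [hw₁2]; group
    · intro h1
      apply hw₁1
      have e : w₁ = k₀ * w' * k₀⁻¹ := by rw [hw']; group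
      rw [e, h1]; group
  rw [hw'ord] at hodd
  exact absurd hodd (by decide)

end Cfsg.Agent.Helper96.Glaub
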