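import Mathlib
import Cfsg.Agent.Lib.Helper96.GlaubA1
import Cfsg.Agent.Lib.Helper54.PSolv

/-!
# Tools for the Glauberman-type theorem: restriction and quotient of automorphism groups,
central 2-quotients, stability groups (helper96)
-/

set_option autoImplicit false
open scoped commutatorElement

namespace Cfsg.Agent.Helper96.Glaub

variable {G : Type*} [Group G]

/-! ### Restriction of a group of automorphisms to an invariant subgroup -/

/-- Restriction of `D ≤ Aut G` to a `D`-invariant subgroup. -/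
def resHom (D : Subgroup (MulAut G)) (H : Subgroup G) (hH : ∀ d ∈ D, ∀ x ∈ H, d x ∈ H) :
    ↥D →* MulAut ↥H where
  toFun d :=
    { toFun := fun x => ⟨(d : MulAut G) x, hH d d.2 x x.2⟩
      invFun := fun x => ⟨(d : MulAut G)⁻¹ x, hH _ (D.inv_mem d.2) x x.2⟩
      left_inv := fun x => Subtype.ext (by simp)
      right_inv := fun x => Subtype.ext (by simp)
      map_mul' := fun x y => Subtype.ext (by simp) }
  map_one' := by ext x; rfl
  map_mul' := fun a b => by ext x; rfl

@[simp] theorem resHom_apply (D : Subgroup (MulAut G)) (H : Subgroup G)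
    (hH : ∀ d ∈ D, ∀ x ∈ H, d x ∈ H) (d : ↥D) (x : ↥H) :
    ((resHom D H hH d) x : G) = (d : MulAut G) x := rfl

theorem fix_mem_iff {T : Subgroup G} {d : MulAut G} (hfix : ∀ t ∈ T, d t = t) (y : G) :
    d y ∈ T ↔ y ∈ T := by
  constructor
  · intro h
    have h1 : d (d y) = d y := hfix _ h
    have h2 : d y = y := d.injective h1
    rw [← h2]; exact h
  · intro h
    rw [hfix y h]; exact h

theorem inv_fix {T : Subgroup G} {d : MulAut G} (hfix : ∀ t ∈ T, d t = t) :
    ∀ t ∈ T, d⁻¹ t = t := by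
  intro t ht
  have : d⁻¹ (d t) = t := by simp
  rw [hfix t ht] at this
  exact this

/-- The normalizer of a pointwise fixed subgroup is invariant. -/
theorem map_mem_normalizer_of_fix {T : Subgroup G} {d : MulAut G} (hfix : ∀ t ∈ T, d t = t)
    {y : G} (hy : y ∈ Subgroup.normalizer (T : Set G)) :
    d y ∈ Subgroup.normalizer (T : Set G) := by
  rw [Subgroup.mem_normalizer_iff] at hy ⊢
  intro t
  have h1 : d y * t * (d y)⁻¹ = d (y * d⁻¹ t * y⁻¹) := by simp
  rw [h1, fix_mem_iff hfix, ← hy, ← fix_mem_iff hfix (d⁻¹ t)]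
  simp

/-- The centralizer of a pointwise fixed subgroup is invariant. -/
theorem map_mem_centralizer_of_fix {T : Subgroup G} {d : MulAut G} (hfix : ∀ t ∈ T, d t = t)
    {y : G} (hy : y ∈ Subgroup.centralizer (T : Set G)) :
    d y ∈ Subgroup.centralizer (T : Set G) := by
  rw [Subgroup.mem_centralizer_iff] at hy ⊢
  intro t ht
  have := congrArg d (hy t ht)
  rw [map_mul, map_mul, hfix t ht] at this
  exact this

/-! ### Quotient by a characteristic subgroup -/

/-- The automorphism induced on the quotient by a characteristic subgroup. -/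
noncomputable def quotAut (N : Subgroup G) [hN : N.Characteristic] :
    MulAut G →* MulAut (G ⧸ N) where
  toFun α := QuotientGroup.congr N N α (Subgroup.characteristic_iff_map_eq.mp hN α)
  map_one' := by
    ext x
    induction x using QuotientGroup.induction_on with | _ x => rfl
  map_mul' α β := by
    ext x
    induction x using QuotientGroup.induction_on with | _ x => rfl

theorem quotAut_mk (N : Subgroup G) [hN : N.Characteristic] (α : MulAut G) (x : G) :
    quotAut N α (x : G ⧸ N) = ((α x : G) : G ⧸ N) := rfl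

/-! ### Stability groups are abelian -/

/-- If all the elements `g⁻¹ d(g)` (`d ∈ D`) are fixed by `D`, then `D` is commutative. -/
theorem comm_of_fixed {D : Subgroup (MulAut G)}
    (hfix : ∀ d ∈ D, ∀ g : G, ∀ e ∈ D, e (g⁻¹ * d g) = g⁻¹ * d g) :
    ∀ a ∈ D, ∀ b ∈ D, a * b = b * a := by
  -- step 1
  have step1 : ∀ a ∈ D, ∀ b ∈ D, ∀ g h : G,
      (g⁻¹ * a g) * (b h * h⁻¹) = (b h * h⁻¹) * (g⁻¹ * a g) := by
    intro a ha b hb g h
    have e1 : (g * h)⁻¹ * a (g * h) = h⁻¹ * (g⁻¹ * a g) * h * (h⁻¹ * a h) := by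
      rw [map_mul]; group
    have e2 := hfix a ha (g * h) b hb
    rw [e1] at e2
    rw [map_mul, map_mul, map_mul, map_inv, hfix a ha g b hb, hfix a ha h b hb] at e2
    -- e2 : (b h)⁻¹ * (g⁻¹ * a g) * b h * (h⁻¹ * a h) = h⁻¹ * (g⁻¹ * a g) * h * (h⁻¹ * a h)
    have e3 : (b h)⁻¹ * (g⁻¹ * a g) * b h = h⁻¹ * (g⁻¹ * a g) * h := mul_right_cancel e2
    calc (g⁻¹ * a g) * (b h * h⁻¹)
        = b h * ((b h)⁻¹ * (g⁻¹ * a g) * b h) * h⁻¹ := by group
      _ = b h * (h⁻¹ * (g⁻¹ * a g) * h) * h⁻¹ := by rw [e3]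
      _ = _ := by group
  intro a ha b hb
  ext g
  show a (b g) = b (a g)
  have hb' : b g = g * (g⁻¹ * b g) := by group
  have ha' : a g = g * (g⁻¹ * a g) := by group
  have e1 : a (b g) = g * ((g⁻¹ * a g) * (g⁻¹ * b g)) := by
    rw [hb', map_mul, hfix b hb g a ha]
    nth_rewrite 1 [ha']
    group
  have e2 : b (a g) = g * ((g⁻¹ * b g) * (g⁻¹ * a g)) := by
    rw [ha', map_mul, hfix a ha g b hb]
    nth_rewrite 1 [hb']
    group
  rw [e1, e2]
  congr 1
  -- commute λ_a g with λ_b g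
  have h1 := step1 a ha b hb g g⁻¹
  rw [map_inv, inv_inv] at h1
  -- h1 : λ_a g * ((b g)⁻¹ * g) = ((b g)⁻¹ * g) * λ_a g
  have h2 : (b g)⁻¹ * g = (g⁻¹ * b g)⁻¹ := by group
  rw [h2] at h1
  have h3 : Commute (g⁻¹ * a g) (g⁻¹ * b g)⁻¹ := h1
  have h4 := h3.inv_right
  rw [inv_inv] at h4
  exact h4.eq

/-! ### Quotient by a central 2-subgroup keeps the odd core trivial -/

theorem oddCore_quotient_central [Finite G] (hO : Cfsg.oddCore G = ⊥) (M : Subgroup G)
    [hMn : M.Normal] (hMc : M ≤ Subgroup.center G) (hM2 : IsPGroup 2 M) :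
    Cfsg.oddCore (G ⧸ M) = ⊥ := by
  set π := QuotientGroup.mk' M with hπ
  set Nb := Cfsg.oddCore (G ⧸ M) with hNb
  set N : Subgroup G := Nb.comap π with hN
  haveI hNbn : Nb.Normal := by
    haveI : (Cfsg.pPrimeCore 2 (G ⧸ M)).Characteristic :=
      Cfsg.Agent.Helper54.pPrimeCore_characteristic 2
    exact Subgroup.normal_of_characteristic _
  haveI hNn : N.Normal := hNbn.comap π
  have hMN : M ≤ N := by
    intro m hm
    rw [hN, Subgroup.mem_comap]
    have : π m = 1 := by rw [hπ, QuotientGroup.mk'_apply, QuotientGroup.eq_one_iff]; exact hm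
    rw [this]; exact Subgroup.one_mem _
  set M' : Subgroup ↥N := M.subgroupOf N with hM'
  haveI hM'n : M'.Normal := hMn.subgroupOf N
  have hoddNb : (Nat.card Nb).Coprime 2 := Cfsg.Agent.Helper54.pPrimeCore_coprime 2
  have hcardNb : M.relIndex N = Nat.card Nb := by
    have h1 : M = (⊥ : Subgroup (G ⧸ M)).comap π := by
      rw [MonoidHom.comap_bot, hπ, QuotientGroup.ker_mk']
    have h2 : N.map π = Nb := Subgroup.map_comap_eq_self_of_surjective
      (QuotientGroup.mk'_surjective M) Nb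
    conv_lhs => rw [h1]
    rw [Subgroup.relIndex_comap, Subgroup.relIndex_bot_left, h2]
  have hidx : M'.index = Nat.card Nb := hcardNb
  have hM'2 : IsPGroup 2 M' := hM2.comap_subtype
  obtain ⟨k, hk⟩ := IsPGroup.iff_card.mp hM'2
  have hcop : (Nat.card M').Coprime M'.index := by
    rw [hk, hidx]
    exact Nat.Coprime.pow_left k hoddNb.symm
  obtain ⟨H', hH'⟩ := Subgroup.exists_right_complement'_of_coprime hcop
  have hH'card : Nat.card H' = Nat.card Nb := by
    rw [← hidx]
    exact (hH'.symm.index_eq_card).symm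
  have hH'odd : (Nat.card H').Coprime 2 := by rw [hH'card]; exact hoddNb
  -- odd elements of N lie in H'
  have key : ∀ x : ↥N, Odd (orderOf x) → x ∈ H' := by
    intro x hx
    obtain ⟨⟨m, h⟩, hmh⟩ := hH'.2 x
    simp only at hmh
    have hmc : ∀ y : ↥N, (m : ↥N) * y = y * (m : ↥N) := by
      intro y
      apply Subtype.ext
      have h1 : ((m : ↥N) : G) ∈ Subgroup.center G := hMc m.2
      have := Subgroup.mem_center_iff.mp h1 (y : G)
      simpa using this.symm
    set r := orderOf x with hr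
    have hxr : ((m : ↥N) * (h : ↥N)) ^ r = 1 := by rw [hmh, hr, pow_orderOf_eq_one]
    have hcomm : Commute (m : ↥N) (h : ↥N) := hmc _
    rw [hcomm.mul_pow] at hxr
    have hmr : (m : ↥N) ^ r ∈ M' ⊓ H' := by
      refine Subgroup.mem_inf.mpr ⟨M'.pow_mem m.2 r, ?_⟩
      have : (m : ↥N) ^ r = ((h : ↥N) ^ r)⁻¹ := eq_inv_of_mul_eq_one_left hxr
      rw [this]
      exact H'.inv_mem (H'.pow_mem h.2 r)
    rw [hH'.disjoint.eq_bot, Subgroup.mem_bot] at hmr
    obtain ⟨j, hj⟩ := hM'2 m
    have hj' : (m : ↥N) ^ 2 ^ j = 1 := by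
      have := congrArg Subtype.val hj
      simpa using this
    have hd1 : orderOf (m : ↥N) ∣ r := orderOf_dvd_of_pow_eq_one hmr
    have hd2 : orderOf (m : ↥N) ∣ 2 ^ j := orderOf_dvd_of_pow_eq_one hj'
    have hrc : r.Coprime (2 ^ j) := Nat.Coprime.pow_right j (Nat.coprime_two_right.mpr hx)
    have h1 : orderOf (m : ↥N) = 1 :=
      Nat.Coprime.eq_one_of_dvd (Nat.Coprime.coprime_dvd_left hd1 hrc) hd2
    rw [orderOf_eq_one_iff] at h1
    rw [← hmh, h1, one_mul]
    exact h.2
  set H : Subgroup G := H'.map N.subtype with hH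
  have hHcard : Nat.card H = Nat.card H' :=
    (Nat.card_congr (H'.equivMapOfInjective N.subtype N.subtype_injective).toEquiv).symm
  have hHn : H.Normal := by
    refine ⟨fun y hy g => ?_⟩
    obtain ⟨y', hy', rfl⟩ := hy
    have hmem : g * (y' : G) * g⁻¹ ∈ N := hNn.conj_mem _ y'.2 g
    refine ⟨⟨g * (y' : G) * g⁻¹, hmem⟩, ?_, rfl⟩
    apply key
    have h1 : orderOf (⟨g * (y' : G) * g⁻¹, hmem⟩ : ↥N) = orderOf y' := by
      rw [← Subgroup.orderOf_coe, ← Subgroup.orderOf_coe]
      show orderOf (g * (y' : G) * g⁻¹) = orderOf (y' : G)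
      exact orderOf_injective (MulAut.conj g).toMonoidHom (MulAut.conj g).injective (y' : G)
    rw [h1]
    have h2 : orderOf y' ∣ Nat.card H' := Subgroup.orderOf_dvd_natCard H' hy'
    exact Nat.coprime_two_right.mp (Nat.Coprime.coprime_dvd_left h2 hH'odd)
  have hHbot : H ≤ ⊥ := by
    rw [← hO]
    apply Cfsg.Agent.Helper54.le_pPrimeCore hHn
    rw [hHcard]; exact hH'odd
  have hH1 : Nat.card H = 1 := by
    rw [le_bot_iff.mp hHbot]; exact Subgroup.card_bot
  have hNb1 : Nat.card Nb = 1 := by rw [← hH'card, ← hHcard, hH1]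
  exact Subgroup.card_eq_one.mp hNb1

end Cfsg.Agent.Helper96.Glaub
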