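import Mathlib
import Cfsg.Agent.Lib.Helper96.GlaubA1
import Cfsg.Agent.Lib.Helper96.GlaubA2
import Cfsg.Agent.Lib.Helper96.GlaubA3
import Cfsg.Agent.Lib.Helper96.GlaubA4
import Cfsg.Agent.Lib.Helper34.PPrimeCore

/-!
# A Glauberman-type theorem: a perfect group generated by 2-elements which acts on a finite
group `G` centralizing a Sylow 2-subgroup acts trivially on `G / O(G)` (helper96)
-/

set_option autoImplicit false
open scoped commutatorElement

namespace Cfsg.Agent.Helper96.Glaub

universe u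

open Cfsg.Agent.Helper33

/-- The statement for groups of order `n`. -/
def GlaubStmt (n : ℕ) : Prop :=
  ∀ (G : Type u) [Group G] [Finite G], Nat.card G = n → ∀ (D : Subgroup (MulAut G)), Perf2 D →
    ∀ S : Sylow 2 G, (∀ d ∈ D, ∀ s ∈ S, d s = s) →
      ∀ d ∈ D, ∀ g : G, g⁻¹ * d g ∈ Cfsg.oddCore G

theorem ih_subgroup {n : ℕ} (IH : ∀ m < n, GlaubStmt.{u} m) {G : Type u} [Group G] [Finite G]
    (hcard : Nat.card G = n) (D : Subgroup (MulAut G)) (hD : Perf2 D) (H : Subgroup G)
    (hHne : H ≠ ⊤) (hHinv : ∀ d ∈ D, ∀ x ∈ H, d x ∈ H) (T : Subgroup G) (hT : IsSylIn 2 T H)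
    (hTfix : ∀ d ∈ D, ∀ t ∈ T, d t = t) (d : MulAut G) (hd : d ∈ D) (x : G) (hx : x ∈ H) :
    (⟨x, hx⟩ : ↥H)⁻¹ * ⟨d x, hHinv d hd x hx⟩ ∈ Cfsg.oddCore ↥H := by
  set D' : Subgroup (MulAut ↥H) := (resHom D H hHinv).range with hD'
  have hD'p : Perf2 D' := hD.range _
  set SH : Sylow 2 ↥H := hT.toSylow with hSH
  have hlt : Nat.card ↥H < n := by
    rw [← hcard, ← Subgroup.card_top (G := G)]
    exact card_lt_of_lt (lt_top_iff_ne_top.mpr hHne)
  have hfix : ∀ d' ∈ D', ∀ s ∈ SH, d' s = s := by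
    rintro _ ⟨d0, rfl⟩ s hs
    have hs' : s ∈ T.subgroupOf H := by
      have : (SH : Subgroup ↥H) = T.subgroupOf H := hT.coe_toSylow
      rw [← this]; exact hs
    rw [Subgroup.mem_subgroupOf] at hs'
    apply Subtype.ext
    rw [resHom_apply]
    exact hTfix d0 d0.2 _ hs'
  have := IH _ hlt ↥H rfl D' hD'p SH hfix (resHom D H hHinv ⟨d, hd⟩) ⟨⟨d, hd⟩, rfl⟩ ⟨x, hx⟩
  exact this

theorem ih_quotient {n : ℕ} (IH : ∀ m < n, GlaubStmt.{u} m) {G : Type u} [Group G] [Finite G]
    (hcard : Nat.card G = n) (D : Subgroup (MulAut G)) (hD : Perf2 D) (S : Sylow 2 G)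
    (hS : ∀ d ∈ D, ∀ s ∈ S, d s = s) (N : Subgroup G) [hN : N.Characteristic] (hNne : N ≠ ⊥)
    (d : MulAut G) (hd : d ∈ D) (g : G) :
    ((g⁻¹ * d g : G) : G ⧸ N) ∈ Cfsg.oddCore (G ⧸ N) := by
  set Db : Subgroup (MulAut (G ⧸ N)) := D.map (quotAut N) with hDb
  have hDbp : Perf2 Db := hD.map _
  set Sb : Sylow 2 (G ⧸ N) := S.mapSurjective (QuotientGroup.mk'_surjective N) with hSb
  have hlt : Nat.card (G ⧸ N) < n := by
    rw [← hcard, Subgroup.card_eq_card_quotient_mul_card_subgroup N]
    have h1 : 1 < Nat.card N := (Subgroup.one_lt_card_iff_ne_bot N).mpr hNne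
    have h2 : 0 < Nat.card (G ⧸ N) := Nat.card_pos
    nlinarith
  have hfix : ∀ d' ∈ Db, ∀ s ∈ Sb, d' s = s := by
    rintro _ ⟨d0, hd0, rfl⟩ s hs
    have hs' : s ∈ (S : Subgroup G).map (QuotientGroup.mk' N) := by
      have : (Sb : Subgroup (G ⧸ N)) = (S : Subgroup G).map (QuotientGroup.mk' N) :=
        Sylow.coe_mapSurjective _ _
      rw [← this]; exact hs
    obtain ⟨s0, hs0, rfl⟩ := hs'
    show quotAut N d0 ((s0 : G) : G ⧸ N) = _
    rw [quotAut_mk, hS d0 hd0 s0 hs0]
    rfl
  have := IH _ hlt (G ⧸ N) rfl Db hDbp Sb hfix (quotAut N d) ⟨d, hd, rfl⟩ ((g : G) : G ⧸ N)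
  rw [quotAut_mk] at this
  simpa using this

theorem glaub_step (n : ℕ) (IH : ∀ m < n, GlaubStmt.{u} m) : GlaubStmt.{u} n := by
  intro G _ _ hcard D hD S hS
  haveI hOchar : (Cfsg.oddCore G).Characteristic := Cfsg.Agent.Helper54.pPrimeCore_characteristic 2
  by_cases hO : Cfsg.oddCore G = ⊥
  swap
  · -- quotient by the odd core
    intro d hd g
    have h1 := ih_quotient IH hcard D hD S hS (Cfsg.oddCore G) hO d hd g
    have h2 : Cfsg.oddCore (G ⧸ Cfsg.oddCore G) = ⊥ :=
      Cfsg.Agent.Helper34.pPrimeCore_quotient_eq_bot 2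
    rw [h2, Subgroup.mem_bot, QuotientGroup.eq_one_iff] at h1
    exact h1
  -- core-free case: D is trivial
  suffices hD1 : D = ⊥ by
    intro d hd g
    rw [hD1, Subgroup.mem_bot] at hd
    rw [hd]
    simp
  by_contra hDne
  haveI hMchar : (Cfsg.pCore 2 G).Characteristic := Cfsg.Agent.Helper54.pCore_characteristic 2
  have hSp : IsPGroup 2 (S : Subgroup G) := S.isPGroup'
  by_cases hM : Cfsg.pCore 2 G = ⊥
  · -- no normal 2-subgroups: local control and Z*
    obtain ⟨σ, hσD, hσ1, hσ2⟩ := hD.exists_involution hDne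
    have hσ2' : ∀ g, σ (σ g) = g := by
      intro g
      have := congrArg (fun α : MulAut G => α g) hσ2
      simpa using this
    have hL : LocalOdd S σ := by
      intro T hTS hTne hsyl x hx
      set H := Subgroup.normalizer (T : Set G) with hH
      have hTfix : ∀ d ∈ D, ∀ t ∈ T, d t = t := fun d hd t ht => hS d hd t (hTS ht)
      have hHne : H ≠ ⊤ := by
        intro htop
        have hTn : T.Normal := Subgroup.normalizer_eq_top_iff.mp htop
        have : T ≤ Cfsg.pCore 2 G := Cfsg.Agent.Helper54.le_pCore hTn (hSp.to_le hTS)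
        rw [hM] at this
        exact hTne (le_bot_iff.mp this)
      have hHinv : ∀ d ∈ D, ∀ y ∈ H, d y ∈ H := fun d hd y hy =>
        map_mem_normalizer_of_fix (hTfix d hd) hy
      have hSfix : ∀ d ∈ D, ∀ t ∈ (S : Subgroup G) ⊓ H, d t = t :=
        fun d hd t ht => hS d hd t ht.1
      have hmem := ih_subgroup IH hcard D hD H hHne hHinv _ hsyl hSfix σ hσD x hx
      set c' : ↥H := (⟨x, hx⟩ : ↥H)⁻¹ * ⟨σ x, hHinv σ hσD x hx⟩ with hc'
      have hc'val : (c' : G) = x⁻¹ * σ x := rfl
      set OH := Cfsg.oddCore ↥H with hOH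
      have hOHodd : (Nat.card OH).Coprime 2 := Cfsg.Agent.Helper54.pPrimeCore_coprime 2
      haveI hOHn : OH.Normal := by
        haveI : (Cfsg.pPrimeCore 2 ↥H).Characteristic :=
          Cfsg.Agent.Helper54.pPrimeCore_characteristic 2
        exact Subgroup.normal_of_characteristic _
      constructor
      · rw [← hc'val, Subgroup.orderOf_coe]
        have h2 : orderOf c' ∣ Nat.card OH := Subgroup.orderOf_dvd_natCard OH hmem
        exact Nat.coprime_two_right.mp (Nat.Coprime.coprime_dvd_left h2 hOHodd)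
      · intro t ht
        set TH : Subgroup ↥H := T.subgroupOf H with hTH
        haveI hTHn : TH.Normal := Subgroup.normal_in_normalizer
        set t' : ↥H := ⟨t, Subgroup.le_normalizer ht⟩ with ht'
        have ht'mem : t' ∈ TH := by rw [hTH, Subgroup.mem_subgroupOf]; exact ht
        have hTH2 : IsPGroup 2 TH := (hSp.to_le hTS).comap_subtype
        obtain ⟨k, hk⟩ := IsPGroup.iff_card.mp hTH2
        have hdisj : OH ⊓ TH = ⊥ := by
          apply Subgroup.inf_eq_bot_of_coprime
          rw [hk]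
          exact Nat.Coprime.pow_right k hOHodd
        have hcomm : c' * t' * c'⁻¹ * t'⁻¹ ∈ OH ⊓ TH := by
          refine Subgroup.mem_inf.mpr ⟨?_, ?_⟩
          · have h1 : t' * c'⁻¹ * t'⁻¹ ∈ OH := hOHn.conj_mem _ (OH.inv_mem hmem) t'
            have h2 : c' * t' * c'⁻¹ * t'⁻¹ = c' * (t' * c'⁻¹ * t'⁻¹) := by group
            rw [h2]
            exact OH.mul_mem hmem h1
          · have h1 : c' * t' * c'⁻¹ ∈ TH := hTHn.conj_mem _ ht'mem c'
            exact TH.mul_mem h1 (TH.inv_mem ht'mem)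
        rw [hdisj, Subgroup.mem_bot] at hcomm
        have h3 : c' * t' = t' * c' := by
          have : c' * t' = (c' * t' * c'⁻¹ * t'⁻¹) * (t' * c') := by group
          rw [this, hcomm, one_mul]
        have h4 := congrArg Subtype.val h3
        simpa [hc'val] using h4
    have hiso := isolated_of_localOdd S σ hσ2' (hS σ hσD) hL
    exact hσ1 (aut_eq_one_of_isolated hO σ hσ2 hiso)
  · -- a nontrivial normal 2-subgroup M
    set M := Cfsg.pCore 2 G with hMdef
    haveI hMn : M.Normal := Subgroup.normal_of_characteristic _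
    have hM2 : IsPGroup 2 M := Cfsg.Agent.Helper54.isPGroup_pCore
    have hMS : M ≤ (S : Subgroup G) := hM2.le_sylow_of_normal S
    have hMfix : ∀ d ∈ D, ∀ m ∈ M, d m = m := fun d hd m hm => hS d hd m (hMS hm)
    set K := Subgroup.centralizer (M : Set G) with hK
    haveI hKn : K.Normal := Subgroup.normal_centralizer
    -- the values g⁻¹ d(g) are fixed by D
    have hfixed : ∀ d ∈ D, ∀ g : G, ∀ e ∈ D, e (g⁻¹ * d g) = g⁻¹ * d g := by
      by_cases hKtop : K = ⊤
      · -- M is central: quotient by M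
        have hMc : M ≤ Subgroup.center G := by
          intro m hm
          rw [Subgroup.mem_center_iff]
          intro g
          have hg : g ∈ K := by rw [hKtop]; exact Subgroup.mem_top g
          exact (Subgroup.mem_centralizer_iff.mp hg m hm).symm
        have hOq : Cfsg.oddCore (G ⧸ M) = ⊥ := oddCore_quotient_central hO M hMc hM2
        intro d hd g e he
        have h1 := ih_quotient IH hcard D hD S hS M hM d hd g
        rw [hOq, Subgroup.mem_bot, QuotientGroup.eq_one_iff] at h1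
        exact hMfix e he _ h1
      · -- K proper: D acts trivially on K
        have hKinv : ∀ d ∈ D, ∀ y ∈ K, d y ∈ K := fun d hd y hy =>
          map_mem_centralizer_of_fix (hMfix d hd) hy
        have hsylK : IsSylIn 2 ((S : Subgroup G) ⊓ K) K :=
          (isSylIn_top S).inf_normal le_top (by rw [Subgroup.normalizer_eq_top]; )
        have hSfix : ∀ d ∈ D, ∀ t ∈ (S : Subgroup G) ⊓ K, d t = t :=
          fun d hd t ht => hS d hd t ht.1
        have hKfix : ∀ e ∈ D, ∀ y ∈ K, e y = y := by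
          intro e he y hy
          have hmem := ih_subgroup IH hcard D hD K hKtop hKinv _ hsylK hSfix e he y hy
          have hle : (Cfsg.oddCore ↥K).map K.subtype ≤ Cfsg.oddCore G :=
            Cfsg.Agent.Helper54.pPrimeCore_map_le 2 K
          have h2 : y⁻¹ * e y ∈ Cfsg.oddCore G := hle ⟨_, hmem, rfl⟩
          rw [hO, Subgroup.mem_bot] at h2
          exact (inv_mul_eq_one.mp h2).symm
        intro d hd g e he
        apply hKfix e he
        -- g⁻¹ d(g) centralizes M
        rw [hK, Subgroup.mem_centralizer_iff]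
        intro m hm
        have h1 : d (g * m * g⁻¹) = g * m * g⁻¹ := hMfix d hd _ (hMn.conj_mem m hm g)
        rw [map_mul, map_mul, map_inv, hMfix d hd m hm] at h1
        -- h1 : d g * m * (d g)⁻¹ = g * m * g⁻¹
        calc m * (g⁻¹ * d g) = g⁻¹ * (g * m * g⁻¹) * d g := by group
          _ = g⁻¹ * (d g * m * (d g)⁻¹) * d g := by rw [h1]
          _ = g⁻¹ * d g * m := by group
    exact hDne (hD.eq_bot_of_comm (comm_of_fixed hfixed))

/-- **Glauberman-type theorem** (perfect form). Let `D` be a perfect group of automorphisms of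
the finite group `G`, generated by its 2-elements, which fixes a Sylow 2-subgroup of `G`
elementwise. Then `D` acts trivially on `G / O(G)`. -/
theorem glaub_all (n : ℕ) : GlaubStmt.{u} n := by
  induction n using Nat.strong_induction_on with
  | _ n ih => exact glaub_step n ih

theorem glaub {G : Type u} [Group G] [Finite G] (D : Subgroup (MulAut G)) (hD : Perf2 D)
    (S : Sylow 2 G) (hS : ∀ d ∈ D, ∀ s ∈ S, d s = s) (d : MulAut G) (hd : d ∈ D) (g : G) :
    g⁻¹ * d g ∈ Cfsg.oddCore G :=
  glaub_all (Nat.card G) G rfl D hD S hS d hd g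

end Cfsg.Agent.Helper96.Glaub
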