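import Mathlib
import Cfsg.Agent.Lib.Helper96.GlaubA5
import Cfsg.Agent.Lib.Helper22.LBal8

/-!
# Tools for the 2-local L-balance argument (helper96)

* `oc B`: the odd core of a subgroup as a subgroup of the ambient group;
* `exists_fixed_in_coset`: a `p`-group acting on a coset of a `p'`-group has a fixed point;
* `exists_perf2_le`: the `Perf2`-residual lifting lemma;
* `step`: the centralizer-lifting step modulo a normal odd-order subgroup.
-/

set_option autoImplicit false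
open scoped commutatorElement

namespace Cfsg.Agent.Helper96.Glaub

open Subgroup

universe u

variable {G : Type*} [Group G]

/-- A subgroup closed under conjugation by all elements of `H` is normalized by `H`. -/
theorem le_normalizer_of_conj_mem {H N : Subgroup G}
    (h : ∀ b ∈ H, ∀ n ∈ N, b * n * b⁻¹ ∈ N) : H ≤ normalizer (N : Set G) := by
  intro b hb
  rw [mem_normalizer_iff]
  intro n
  constructor
  · exact h b hb n
  · intro hn
    have := h b⁻¹ (inv_mem hb) _ hn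
    simpa [mul_assoc] using this

/-- The odd core of a subgroup, as a subgroup of the ambient group. -/
def oc (B : Subgroup G) : Subgroup G := (Cfsg.oddCore ↥B).map B.subtype

theorem oc_le (B : Subgroup G) : oc B ≤ B := by
  rintro _ ⟨b, _, rfl⟩
  exact b.2

theorem card_oc_coprime [Finite G] (B : Subgroup G) : (Nat.card (oc B)).Coprime 2 := by
  unfold oc
  rw [← Nat.card_congr
    ((Cfsg.oddCore ↥B).equivMapOfInjective B.subtype B.subtype_injective).toEquiv]
  exact Cfsg.Agent.Helper54.pPrimeCore_coprime 2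

theorem le_oc [Finite G] {B N : Subgroup G} (hNB : N ≤ B) (hBN : B ≤ normalizer (N : Set G))
    (hodd : (Nat.card N).Coprime 2) : N ≤ oc B := by
  have hn : (N.subgroupOf B).Normal := Subgroup.normal_subgroupOf_of_le_normalizer hBN
  have hc : (Nat.card (N.subgroupOf B)).Coprime 2 := by
    rw [Nat.card_congr (Subgroup.subgroupOfEquivOfLe hNB).toEquiv]
    exact hodd
  have h1 := Cfsg.Agent.Helper54.le_pPrimeCore hn hc
  intro x hx
  exact ⟨⟨x, hNB hx⟩, h1 (mem_subgroupOf.mpr hx), rfl⟩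

theorem le_normalizer_oc [Finite G] (B : Subgroup G) : B ≤ normalizer (oc B : Set G) := by
  apply le_normalizer_of_conj_mem
  rintro b hb _ ⟨n, hn, rfl⟩
  have : (Cfsg.oddCore ↥B).Normal := Subgroup.normal_of_characteristic _
  refine ⟨⟨b, hb⟩ * n * ⟨b, hb⟩⁻¹, ?_, rfl⟩
  exact (inferInstance : (Cfsg.oddCore ↥B).Normal).conj_mem n hn ⟨b, hb⟩

theorem conj_mem_oc [Finite G] {B : Subgroup G} {x : G} (hx : x ∈ normalizer (B : Set G))
    {h : G} (hh : h ∈ oc B) : x * h * x⁻¹ ∈ oc B := by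
  set N : Subgroup G := (oc B).map (MulAut.conj x).toMonoidHom with hN
  have hNB : N ≤ B := by
    rintro _ ⟨n, hn, rfl⟩
    exact (mem_normalizer_iff.mp hx n).mp (oc_le B hn)
  have hBN : B ≤ normalizer (N : Set G) := by
    apply le_normalizer_of_conj_mem
    rintro b hb _ ⟨n, hn, rfl⟩
    have hb' : x⁻¹ * b * x ∈ B := by
      have := (mem_normalizer_iff.mp hx (x⁻¹ * b * x)).mpr (by simpa [mul_assoc] using hb)
      exact this
    have h1 : (x⁻¹ * b * x) * n * (x⁻¹ * b * x)⁻¹ ∈ oc B :=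
      (mem_normalizer_iff.mp (le_normalizer_oc B hb') n).mp hn
    refine ⟨(x⁻¹ * b * x) * n * (x⁻¹ * b * x)⁻¹, h1, ?_⟩
    simp only [MulEquiv.coe_toMonoidHom, MulAut.conj_apply]
    group
  have hodd : (Nat.card N).Coprime 2 := by
    have h1 : Nat.card N ∣ Nat.card (oc B) := Subgroup.card_map_dvd _ _
    exact Nat.Coprime.coprime_dvd_left h1 (card_oc_coprime B)
  exact le_oc hNB hBN hodd ⟨h, hh, rfl⟩

theorem normalizer_le_normalizer_oc [Finite G] (B : Subgroup G) :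
    normalizer (B : Set G) ≤ normalizer (oc B : Set G) :=
  le_normalizer_of_conj_mem fun _ hx _ hh => conj_mem_oc hx hh

/-- A `p`-group `Z` normalizing a `p'`-group `W` and stabilizing the coset `W i` under conjugation
fixes an element of the coset. -/
theorem exists_fixed_in_coset [Finite G] {p : ℕ} [hp : Fact p.Prime] (W Z : Subgroup G)
    (hW : (Nat.card W).Coprime p) (hZ : IsPGroup p Z)
    (hZW : Z ≤ normalizer (W : Set G)) (i : G) (hi : ∀ z ∈ Z, z * i * z⁻¹ * i⁻¹ ∈ W) :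
    ∃ w ∈ W, ∀ z ∈ Z, z * (w * i) * z⁻¹ = w * i := by
  let Ω : Type _ := {x : G // ∃ w ∈ W, x = w * i}
  have hmem : ∀ (z : ↥Z) (x : Ω), ∃ w ∈ W, (z : G) * x.1 * (z : G)⁻¹ = w * i := by
    rintro z ⟨x, w, hw, rfl⟩
    refine ⟨((z : G) * w * (z : G)⁻¹) * ((z : G) * i * (z : G)⁻¹ * i⁻¹), ?_, ?_⟩
    · exact W.mul_mem ((mem_normalizer_iff.mp (hZW z.2) w).mp hw) (hi z z.2)
    · group
  let _ : MulAction ↥Z Ω :=
    { smul := fun z x => ⟨(z : G) * x.1 * (z : G)⁻¹, hmem z x⟩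
      one_smul := by
        rintro ⟨x, hx⟩
        apply Subtype.ext
        show ((1 : ↥Z) : G) * x * ((1 : ↥Z) : G)⁻¹ = x
        simp
      mul_smul := by
        rintro a b ⟨x, hx⟩
        apply Subtype.ext
        show ((a * b : ↥Z) : G) * x * ((a * b : ↥Z) : G)⁻¹ = (a : G) * ((b : G) * x * (b : G)⁻¹) * (a : G)⁻¹
        simp only [Subgroup.coe_mul]
        group }
  have hcard : Nat.card Ω = Nat.card W := by
    apply Nat.card_congr
    refine ⟨fun x => ⟨x.1 * i⁻¹, ?_⟩, fun w => ⟨w.1 * i, w.1, w.2, rfl⟩, ?_, ?_⟩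
    · obtain ⟨w, hw, hx⟩ := x.2
      rw [hx]
      simpa using hw
    · intro x
      apply Subtype.ext
      simp
    · intro w
      apply Subtype.ext
      simp
  have hnd : ¬ p ∣ Nat.card Ω := by
    rw [hcard]
    intro hdvd
    have := Nat.Coprime.eq_one_of_dvd hW.symm hdvd
    exact hp.out.one_lt.ne' this
  obtain ⟨⟨x, w, hw, rfl⟩, hfix⟩ := hZ.nonempty_fixed_point_of_prime_not_dvd_card Ω hnd
  refine ⟨w, hw, fun z hz => ?_⟩
  have := MulAction.mem_fixedPoints.mp hfix ⟨z, hz⟩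
  exact congrArg Subtype.val this

/-- A `Perf2` subgroup of odd order is trivial. -/
theorem Perf2.eq_bot_of_odd {D W : Subgroup G} (h : Perf2 D) (hDW : D ≤ W)
    (hW : (Nat.card W).Coprime 2) : D = ⊥ := by
  rw [← h.2, Subgroup.closure_eq_bot_iff]
  rintro d ⟨hd, k, hk⟩
  rw [Set.mem_singleton_iff]
  have h1 : orderOf d ∣ 2 ^ k := orderOf_dvd_of_pow_eq_one hk
  have h2 : orderOf d ∣ Nat.card W := Subgroup.orderOf_dvd_natCard W (hDW hd)
  have h3 : orderOf d ∣ Nat.gcd (Nat.card W) (2 ^ k) := Nat.dvd_gcd h2 h1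
  have h4 : Nat.gcd (Nat.card W) (2 ^ k) = 1 := Nat.Coprime.pow_right k hW
  rw [h4, Nat.dvd_one, orderOf_eq_one_iff] at h3
  exact h3

/-- Lifting `2`-elements along a homomorphism, inside a subgroup. -/
theorem exists_two_elt_lift {A Q : Type*} [Group A] [Group Q] [Finite A] (f : A →* Q)
    (K : Subgroup A) (y : Q) (hy : y ∈ K.map f) (hy2 : ∃ k : ℕ, y ^ 2 ^ k = 1) :
    ∃ x ∈ K, (∃ k : ℕ, x ^ 2 ^ k = 1) ∧ f x = y := by
  obtain ⟨k, hk, rfl⟩ := hy
  obtain ⟨b, hb⟩ := hy2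
  have hn0 : orderOf k ≠ 0 := (orderOf_pos k).ne'
  obtain ⟨a, m, hm, hn⟩ := Nat.exists_eq_two_pow_mul_odd hn0
  have hmc : m.Coprime 2 := Nat.coprime_two_right.mpr hm
  have h1 : (f k) ^ m ∈ (Subgroup.zpowers (k ^ m)).map f :=
    ⟨k ^ m, Subgroup.mem_zpowers _, by rw [map_pow]⟩
  have h2 := Cfsg.Agent.Helper22.LBal.mem_of_pow_mem_of_coprime hb hmc h1
  obtain ⟨x, hx, hxy⟩ := h2
  obtain ⟨j, rfl⟩ := Subgroup.mem_zpowers_iff.mp hx
  refine ⟨(k ^ m) ^ j, K.zpow_mem (K.pow_mem hk m) j, ⟨a, ?_⟩, hxy⟩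
  rw [← zpow_natCast, ← zpow_mul, mul_comm, zpow_mul, zpow_natCast, ← pow_mul, mul_comm, ← hn,
    pow_orderOf_eq_one, one_zpow]

/-- The residual lemma: if the image of a `Perf2` subgroup `I` lies in the image of `K`, then it
lies in the image of a `Perf2` subgroup of `K`. -/
theorem exists_perf2_le {A Q : Type*} [Group A] [Group Q] [Finite A] (f : A →* Q)
    (I : Subgroup A) (hI : Perf2 I) :
    ∀ (n : ℕ) (K : Subgroup A), Nat.card K = n → I.map f ≤ K.map f →
      ∃ J : Subgroup A, J ≤ K ∧ Perf2 J ∧ I.map f ≤ J.map f := by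
  intro n
  induction n using Nat.strong_induction_on with
  | _ n ih =>
    intro K hKn hIK
    have hIf : Perf2 (I.map f) := hI.map f
    by_cases hK : Perf2 K
    · exact ⟨K, le_rfl, hK, hIK⟩
    · unfold Perf2 at hK
      rw [not_and_or] at hK
      rcases hK with hK | hK
      · -- the commutator subgroup is smaller
        have hle : ⁅K, K⁆ ≤ K := Subgroup.commutator_le.mpr fun a ha b hb =>
          K.mul_mem (K.mul_mem (K.mul_mem ha hb) (K.inv_mem ha)) (K.inv_mem hb)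
        have hlt : ⁅K, K⁆ < K := lt_of_le_of_ne hle hK
        have hcard : Nat.card (⁅K, K⁆ : Subgroup A) < n := by
          rw [← hKn]
          exact Set.ncard_lt_ncard (by exact_mod_cast hlt) (Set.toFinite _)
        have h1 : I.map f ≤ (⁅K, K⁆).map f := by
          rw [Subgroup.map_commutator, ← hIf.1]
          exact Subgroup.commutator_mono hIK hIK
        obtain ⟨J, hJ, hJ2, hJ3⟩ := ih _ hcard ⁅K, K⁆ rfl h1
        exact ⟨J, hJ.trans hle, hJ2, hJ3⟩
      · set K₂ : Subgroup A := Subgroup.closure {d : A | d ∈ K ∧ ∃ k : ℕ, d ^ 2 ^ k = 1} with hK₂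
        have hle : K₂ ≤ K := by
          rw [hK₂, Subgroup.closure_le]
          rintro d ⟨hd, -⟩
          exact hd
        have hlt : K₂ < K := lt_of_le_of_ne hle hK
        have hcard : Nat.card K₂ < n := by
          rw [← hKn]
          exact Set.ncard_lt_ncard (by exact_mod_cast hlt) (Set.toFinite _)
        have h1 : I.map f ≤ K₂.map f := by
          rw [← hIf.2, Subgroup.closure_le]
          rintro y ⟨hy, hy2⟩
          obtain ⟨x, hx, hx2, rfl⟩ := exists_two_elt_lift f K y (hIK hy) hy2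
          exact ⟨x, Subgroup.subset_closure ⟨hx, hx2⟩, rfl⟩
        obtain ⟨J, hJ, hJ2, hJ3⟩ := ih _ hcard K₂ rfl h1
        exact ⟨J, hJ.trans hle, hJ2, hJ3⟩

/-- Three subgroups lemma for a perfect subgroup: if `⁅⁅Z, I⁆, I⁆ = ⊥` and `I` is perfect then
`⁅I, Z⁆ = ⊥`. -/
theorem commutator_eq_bot_of_perfect {I Z : Subgroup G} (hI : ⁅I, I⁆ = I)
    (h : ⁅⁅Z, I⁆, I⁆ = ⊥) : ⁅I, Z⁆ = ⊥ := by
  have h1 : ⁅⁅I, Z⁆, I⁆ = ⊥ := by rw [Subgroup.commutator_comm I Z]; exact h
  have h2 := Subgroup.commutator_commutator_eq_bot_of_rotate (H₁ := I) (H₂ := I) (H₃ := Z) h1 h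
  rw [hI] at h2
  exact h2

/-- `⁅I, B⁆` is normalized by `B`. -/
theorem le_normalizer_commutator (I B : Subgroup G) : B ≤ normalizer ((⁅I, B⁆ : Subgroup G) : Set G) := by
  apply le_normalizer_of_conj_mem
  intro b' hb' g hg
  rw [Subgroup.commutator_def] at hg ⊢
  induction hg using Subgroup.closure_induction with
  | mem x hx =>
    obtain ⟨i, hi, b, hb, rfl⟩ := hx
    have h1 : b' * ⁅i, b⁆ * b'⁻¹ = ⁅i, b'⁆⁻¹ * ⁅i, b' * b⁆ := by
      simp only [commutatorElement_def]; group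
    rw [h1]
    apply Subgroup.mul_mem
    · exact Subgroup.inv_mem _ (Subgroup.subset_closure ⟨i, hi, b', hb', rfl⟩)
    · exact Subgroup.subset_closure ⟨i, hi, b' * b, B.mul_mem hb' hb, rfl⟩
  | one => simp
  | mul x y _ _ hx hy =>
    have : b' * (x * y) * b'⁻¹ = (b' * x * b'⁻¹) * (b' * y * b'⁻¹) := by group
    rw [this]
    exact Subgroup.mul_mem _ hx hy
  | inv x _ hx =>
    have : b' * x⁻¹ * b'⁻¹ = (b' * x * b'⁻¹)⁻¹ := by group
    rw [this]
    exact Subgroup.inv_mem _ hx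

/-- If `H₁`, `H₂` normalize `W`, and `⁅H₁, K⁆ ≤ W`, `⁅H₂, K⁆ ≤ W`, then `⁅H₁ ⊔ H₂, K⁆ ≤ W`. -/
theorem sup_commutator_le {H₁ H₂ K W : Subgroup G} (h₁ : H₁ ≤ normalizer (W : Set G))
    (h₂ : H₂ ≤ normalizer (W : Set G)) (c₁ : ⁅H₁, K⁆ ≤ W) (c₂ : ⁅H₂, K⁆ ≤ W) :
    ⁅H₁ ⊔ H₂, K⁆ ≤ W := by
  let Y : Subgroup G :=
    { carrier := {m | m ∈ normalizer (W : Set G) ∧ ∀ b ∈ K, ⁅m, b⁆ ∈ W}
      one_mem' := ⟨Subgroup.one_mem _, fun b _ => by simp⟩
      mul_mem' := by
        rintro m₁ m₂ ⟨hn₁, hc₁⟩ ⟨hn₂, hc₂⟩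
        refine ⟨Subgroup.mul_mem _ hn₁ hn₂, fun b hb => ?_⟩
        have h1 : ⁅m₁ * m₂, b⁆ = (m₁ * ⁅m₂, b⁆ * m₁⁻¹) * ⁅m₁, b⁆ := by
          simp only [commutatorElement_def]; group
        rw [h1]
        exact W.mul_mem ((mem_normalizer_iff.mp hn₁ _).mp (hc₂ b hb)) (hc₁ b hb)
      inv_mem' := by
        rintro m ⟨hn, hc⟩
        refine ⟨Subgroup.inv_mem _ hn, fun b hb => ?_⟩
        have h1 : ⁅m⁻¹, b⁆ = m⁻¹ * (⁅m, b⁆)⁻¹ * (m⁻¹)⁻¹ := by
          simp only [commutatorElement_def]; group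
        rw [h1]
        exact (mem_normalizer_iff.mp (Subgroup.inv_mem _ hn) _).mp (W.inv_mem (hc b hb)) }
  have hY₁ : H₁ ≤ Y := fun m hm =>
    ⟨h₁ hm, fun b hb => c₁ (Subgroup.commutator_mem_commutator hm hb)⟩
  have hY₂ : H₂ ≤ Y := fun m hm =>
    ⟨h₂ hm, fun b hb => c₂ (Subgroup.commutator_mem_commutator hm hb)⟩
  rw [Subgroup.commutator_le]
  intro m hm b hb
  exact ((sup_le hY₁ hY₂) hm).2 b hb

end Cfsg.Agent.Helper96.Glaub
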