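import Mathlib
import Cfsg.Agent.Lib.Helper96.GlaubB1

/-!
# Theorem B: a `Perf2` subgroup centralizing a 2-subgroup `P` and acting on `E ∩ C(P)` modulo an
odd-order subgroup centralizes `E`, when `O(E) = 1` (helper96)
-/

set_option autoImplicit false
open scoped commutatorElement

namespace Cfsg.Agent.Helper96.Glaub

open Subgroup Cfsg.Agent.Helper33 Cfsg.Agent.Helper22.LBal

universe u

/-- The centralizer-lifting step modulo a normal odd-order subgroup `W`. -/
theorem step {M : Type*} [Group M] [Finite M] (W : Subgroup M) [hWn : W.Normal]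
    (hW : (Nat.card W).Coprime 2) (I Z B : Subgroup M) (hI : Perf2 I) (hZ : IsPGroup 2 Z)
    (hZI : ⁅Z, I⁆ ≤ B) (hBI : ⁅B, I⁆ ≤ W) :
    ∃ J : Subgroup M, Perf2 J ∧ J ≤ W ⊔ I ∧ J ≤ centralizer (Z : Set M) ∧ I ≤ W ⊔ J := by
  have : Fact (Nat.Prime 2) := ⟨Nat.prime_two⟩
  set π := QuotientGroup.mk' W with hπ
  have hker : π.ker = W := QuotientGroup.ker_mk' W
  have hWπ : W.map π = ⊥ := by
    rw [Subgroup.map_eq_bot_iff, hker]
  -- three subgroups step
  have h1 : ⁅I.map π, Z.map π⁆ = ⊥ := by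
    apply commutator_eq_bot_of_perfect
    · rw [← Subgroup.map_commutator, hI.1]
    · rw [eq_bot_iff]
      calc ⁅⁅Z.map π, I.map π⁆, I.map π⁆ ≤ ⁅B.map π, I.map π⁆ := by
            apply Subgroup.commutator_mono _ le_rfl
            rw [← Subgroup.map_commutator]
            exact Subgroup.map_mono hZI
        _ = (⁅B, I⁆).map π := (Subgroup.map_commutator _ _ _).symm
        _ ≤ W.map π := Subgroup.map_mono hBI
        _ = ⊥ := hWπ
  have h2 : ⁅I, Z⁆ ≤ W := by
    rw [← hker, ← Subgroup.map_eq_bot_iff, Subgroup.map_commutator]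
    exact h1
  -- fixed points on cosets
  have h3 : ∀ i ∈ I, ∃ w ∈ W, ∀ z ∈ Z, z * (w * i) * z⁻¹ = w * i := by
    intro i hi
    apply exists_fixed_in_coset W Z hW hZ (by rw [normalizer_eq_top]; exact le_top) i
    intro z hz
    have h : ⁅i, z⁆ ∈ W := h2 (Subgroup.commutator_mem_commutator hi hz)
    have e : z * i * z⁻¹ * i⁻¹ = ⁅i, z⁆⁻¹ := by
      simp only [commutatorElement_def]; group
    rw [e]
    exact W.inv_mem h
  set K : Subgroup M := (W ⊔ I) ⊓ centralizer (Z : Set M) with hK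
  have h4 : I.map π ≤ K.map π := by
    rintro _ ⟨i, hi, rfl⟩
    obtain ⟨w, hw, hwz⟩ := h3 i hi
    refine ⟨w * i, Subgroup.mem_inf.mpr
      ⟨Subgroup.mul_mem _ (Subgroup.mem_sup_left hw) (Subgroup.mem_sup_right hi), ?_⟩, ?_⟩
    · rw [Subgroup.mem_centralizer_iff]
      intro z hz
      have := hwz z hz
      calc z * (w * i) = z * (w * i) * z⁻¹ * z := by group
        _ = w * i * z := by rw [this]
    · rw [map_mul]
      have : π w = 1 := (QuotientGroup.eq_one_iff w).mpr hw
      rw [this, one_mul]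
  obtain ⟨J, hJK, hJ, hIJ⟩ := exists_perf2_le π I hI _ K rfl h4
  refine ⟨J, hJ, hJK.trans inf_le_left, hJK.trans inf_le_right, ?_⟩
  have h5 := Subgroup.comap_mono (f := π) hIJ
  rw [Subgroup.comap_map_eq, Subgroup.comap_map_eq, hker] at h5
  calc I ≤ I ⊔ W := le_sup_left
    _ ≤ J ⊔ W := h5
    _ = W ⊔ J := sup_comm _ _

theorem mem_centralizer_of_conjNormal_eq_one {Γ : Type*} [Group Γ] {E : Subgroup Γ} [E.Normal]
    {i : Γ} (h : MulAut.conjNormal (H := E) i = 1) : i ∈ centralizer (E : Set Γ) := by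
  rw [Subgroup.mem_centralizer_iff]
  intro e he
  have h1 : (MulAut.conjNormal i : MulAut ↥E) ⟨e, he⟩ = ⟨e, he⟩ := by rw [h]; rfl
  have h2 := congrArg Subtype.val h1
  rw [MulAut.conjNormal_apply] at h2
  calc e * i = (i * e * i⁻¹) * i := by rw [h2]
    _ = i * e := by group

theorem conjNormal_eq_one_of_mem_centralizer {Γ : Type*} [Group Γ] {E : Subgroup Γ} [E.Normal]
    {i : Γ} (h : i ∈ centralizer (E : Set Γ)) : MulAut.conjNormal (H := E) i = 1 := by
  apply MulEquiv.ext
  intro e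
  apply Subtype.ext
  rw [MulAut.conjNormal_apply]
  have := Subgroup.mem_centralizer_iff.mp h e e.2
  rw [← this]
  simp

/-- **Theorem B**, inductive form. -/
theorem thmB_aux {Γ : Type u} [Group Γ] [Finite Γ] (E : Subgroup Γ) [hEn : E.Normal]
    (hE : Cfsg.oddCore ↥E = ⊥) :
    ∀ (n : ℕ) (P : Subgroup Γ), Nat.card Γ - Nat.card P = n → IsPGroup 2 P →
      ∀ I : Subgroup Γ, I ≤ centralizer (P : Set Γ) → Perf2 I →
      (∃ W₀ : Subgroup Γ, (Nat.card W₀).Coprime 2 ∧ ⁅I, E ⊓ centralizer (P : Set Γ)⁆ ≤ W₀) →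
      I ≤ centralizer (E : Set Γ) := by
  intro n
  induction n using Nat.strong_induction_on with
  | _ n ih =>
  intro P hPn hP I hIP hI hW₀'
  obtain ⟨W₀, hW₀, hIW₀⟩ := hW₀'
  have : Fact (Nat.Prime 2) := ⟨Nat.prime_two⟩
  obtain ⟨Ŝ, hŜ, hPŜ⟩ := exists_isSylIn_ge (p := 2) hP (le_sup_right : P ≤ E ⊔ P)
  set Q := Ŝ ⊓ E with hQdef
  have hQ : IsSylIn 2 Q E :=
    hŜ.inf_normal le_sup_left (by rw [normalizer_eq_top]; exact le_top)
  by_cases hQP : Q ≤ P
  · -- Case 1: `I` centralizes a Sylow 2-subgroup of `E`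
    set φ : Γ →* MulAut ↥E := MulAut.conjNormal with hφ
    have hD : Perf2 (I.map φ) := hI.map φ
    have hS : ∀ d ∈ I.map φ, ∀ s ∈ (hQ.toSylow : Sylow 2 ↥E), d s = s := by
      rintro _ ⟨i, hi, rfl⟩ s hs
      have hs' : (s : Γ) ∈ Q := by
        have h1 : s ∈ ((hQ.toSylow : Sylow 2 ↥E) : Subgroup ↥E) := hs
        rw [hQ.coe_toSylow, mem_subgroupOf] at h1
        exact h1
      apply Subtype.ext
      rw [hφ, MulAut.conjNormal_apply]
      have := Subgroup.mem_centralizer_iff.mp (hIP hi) (s : Γ) (hQP hs')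
      rw [← this]
      simp
    intro i hi
    apply mem_centralizer_of_conjNormal_eq_one
    apply MulEquiv.ext
    intro e
    have h1 := glaub (I.map φ) hD hQ.toSylow hS (φ i) ⟨i, hi, rfl⟩ e
    rw [hE, Subgroup.mem_bot] at h1
    exact (inv_mul_eq_one.mp h1).symm
  · -- Case 2: enlarge `P`
    have hne : P ≠ Ŝ := by
      rintro rfl
      exact hQP inf_le_left
    have hgrow := IsSylIn.normalizer_growth hŜ.isPGroup hPŜ hne
    obtain ⟨x, hx, hxP⟩ := SetLike.exists_of_lt hgrow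
    rw [Subgroup.mem_inf] at hx
    obtain ⟨hxŜ, hxN⟩ := hx
    obtain ⟨e, he, p, hp, rfl⟩ := (Subgroup.mem_sup_of_normal_left).mp (hŜ.le hxŜ)
    have heŜ : e ∈ Ŝ := by
      have : e = (e * p) * p⁻¹ := by group
      rw [this]
      exact Ŝ.mul_mem hxŜ (Ŝ.inv_mem (hPŜ hp))
    have heN : e ∈ normalizer (P : Set Γ) := by
      have : e = (e * p) * p⁻¹ := by group
      rw [this]
      exact Subgroup.mul_mem _ hxN (Subgroup.inv_mem _ (le_normalizer hp))
    have heP : e ∉ P := fun h => hxP (P.mul_mem h hp)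
    set Zq := zpowers e with hZq
    have hZqŜ : Zq ≤ Ŝ := by rw [hZq, zpowers_le]; exact heŜ
    have hZqE : Zq ≤ E := by rw [hZq, zpowers_le]; exact he
    have hZqN : Zq ≤ normalizer (P : Set Γ) := by rw [hZq, zpowers_le]; exact heN
    set P₁ := P ⊔ Zq with hP₁
    have hP₁Ŝ : P₁ ≤ Ŝ := sup_le hPŜ hZqŜ
    have hP₁2 : IsPGroup 2 P₁ := hŜ.isPGroup.to_le hP₁Ŝ
    have hPlt : P < P₁ := by
      refine lt_of_le_of_ne le_sup_left ?_
      intro h
      apply heP
      rw [h]
      exact Subgroup.mem_sup_right (mem_zpowers e)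
    have hcardlt : Nat.card P < Nat.card P₁ :=
      Set.ncard_lt_ncard (by exact_mod_cast hPlt) (Set.toFinite _)
    have hcardle : Nat.card P₁ ≤ Nat.card Γ := Subgroup.card_le_card_group P₁
    have hmeasure : Nat.card Γ - Nat.card P₁ < n := by omega
    -- `B` and `W`
    set B := E ⊓ centralizer (P : Set Γ) with hB
    set W := oc B with hW
    have hWodd : (Nat.card W).Coprime 2 := card_oc_coprime B
    have hNB : normalizer (P : Set Γ) ≤ normalizer (B : Set Γ) := by
      apply le_normalizer_of_conj_mem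
      intro n hn b hb
      rw [hB, Subgroup.mem_inf] at hb ⊢
      exact ⟨hEn.conj_mem b hb.1 n, conj_mem_centralizer_of_mem_normalizer hn hb.2⟩
    have hNW : normalizer (P : Set Γ) ≤ normalizer (W : Set Γ) :=
      hNB.trans (normalizer_le_normalizer_oc B)
    have hIN : I ≤ normalizer (P : Set Γ) := hIP.trans (Subgroup.centralizer_le_normalizer _)
    have hBW : B ≤ normalizer (W : Set Γ) := le_normalizer_oc B
    have hWB : W ≤ B := oc_le B
    have hIB : ⁅I, B⁆ ≤ W := by
      apply le_oc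
      · rw [Subgroup.commutator_le]
        intro i hi b hb
        have := (mem_normalizer_iff.mp (hNB (hIN hi)) b).mp hb
        exact B.mul_mem this (B.inv_mem hb)
      · exact le_normalizer_commutator I B
      · exact Nat.Coprime.coprime_dvd_left (Subgroup.card_dvd_of_le hIW₀) hW₀
    have hZB : ⁅Zq, I⁆ ≤ B := by
      rw [Subgroup.commutator_le]
      intro z hz i hi
      rw [hB, Subgroup.mem_inf]
      constructor
      · have : ⁅z, i⁆ = z * (i * z⁻¹ * i⁻¹) := by
          simp only [commutatorElement_def]; group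
        rw [this]
        exact E.mul_mem (hZqE hz) (hEn.conj_mem _ (E.inv_mem (hZqE hz)) i)
      · exact Subgroup.mul_mem _ (conj_mem_centralizer_of_mem_normalizer (hZqN hz) (hIP hi))
          (Subgroup.inv_mem _ (hIP hi))
    -- pass to `N(W)`
    set M := normalizer (W : Set Γ) with hM
    have hWM : W ≤ M := le_normalizer
    have hIM : I ≤ M := hIN.trans hNW
    have hZM : Zq ≤ M := hZqN.trans hNW
    have hBM : B ≤ M := hBW
    have : (W.subgroupOf M).Normal := normal_in_normalizer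
    have hWMc : (Nat.card (W.subgroupOf M)).Coprime 2 := by
      rw [Nat.card_congr (subgroupOfEquivOfLe hWM).toEquiv]
      exact hWodd
    have hIMp : Perf2 (I.subgroupOf M) := by
      apply Perf2.of_map_injective M.subtype M.subtype_injective
      rw [map_subgroupOf_eq_of_le hIM]
      exact hI
    have hZMp : IsPGroup 2 (Zq.subgroupOf M) := (hŜ.isPGroup.to_le hZqŜ).comap_subtype
    have c1 : ⁅Zq.subgroupOf M, I.subgroupOf M⁆ ≤ B.subgroupOf M := by
      rw [Subgroup.commutator_le]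
      intro z hz i hi
      rw [mem_subgroupOf] at hz hi ⊢
      exact hZB (Subgroup.commutator_mem_commutator hz hi)
    have c2 : ⁅B.subgroupOf M, I.subgroupOf M⁆ ≤ W.subgroupOf M := by
      rw [Subgroup.commutator_le]
      intro b hb i hi
      rw [mem_subgroupOf] at hb hi ⊢
      have h1 : ⁅(i : Γ), (b : Γ)⁆ ∈ W := hIB (Subgroup.commutator_mem_commutator hi hb)
      have h2 : ((⁅b, i⁆ : ↥M) : Γ) = ⁅(i : Γ), (b : Γ)⁆⁻¹ := by
        rw [commutatorElement_inv]; rfl
      rw [h2]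
      exact W.inv_mem h1
    obtain ⟨JM, hJM, hJM1, hJM2, hJM3⟩ := step (W.subgroupOf M) hWMc _ _ _ hIMp hZMp c1 c2
    set J := JM.map M.subtype with hJ
    have hJp : Perf2 J := hJM.map _
    have hJWI : J ≤ W ⊔ I := by
      calc JM.map M.subtype ≤ (W.subgroupOf M ⊔ I.subgroupOf M).map M.subtype :=
            Subgroup.map_mono hJM1
        _ = W ⊔ I := by
            rw [Subgroup.map_sup, map_subgroupOf_eq_of_le hWM, map_subgroupOf_eq_of_le hIM]
    have hJZ : J ≤ centralizer (Zq : Set Γ) := by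
      rintro _ ⟨j, hj, rfl⟩
      rw [Subgroup.mem_centralizer_iff]
      intro z hz
      have := Subgroup.mem_centralizer_iff.mp (hJM2 hj) ⟨z, hZM hz⟩ (mem_subgroupOf.mpr hz)
      exact congrArg Subtype.val this
    have hIWJ : I ≤ W ⊔ J := by
      have h1 : (I.subgroupOf M).map M.subtype ≤ (W.subgroupOf M ⊔ JM).map M.subtype :=
        Subgroup.map_mono hJM3
      rwa [Subgroup.map_sup, map_subgroupOf_eq_of_le hWM, map_subgroupOf_eq_of_le hIM] at h1
    have hJP : J ≤ centralizer (P : Set Γ) := hJWI.trans (sup_le (hWB.trans inf_le_right) hIP)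
    have hJP₁ : J ≤ centralizer (P₁ : Set Γ) := by
      rw [le_centralizer_iff, hP₁]
      exact sup_le (le_centralizer_iff.mp hJP) (le_centralizer_iff.mp hJZ)
    have hJB : ⁅J, E ⊓ centralizer (P₁ : Set Γ)⁆ ≤ W := by
      have h1 : E ⊓ centralizer (P₁ : Set Γ) ≤ B :=
        inf_le_inf_left _ (Subgroup.centralizer_le (by exact_mod_cast (le_sup_left : P ≤ P₁)))
      have h0 : ⁅W, B⁆ ≤ W := by
        rw [Subgroup.commutator_le]
        intro w hw b hb
        have : ⁅w, b⁆ = w * (b * w⁻¹ * b⁻¹) := by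
          simp only [commutatorElement_def]; group
        rw [this]
        exact W.mul_mem hw ((mem_normalizer_iff.mp (hBW hb) _).mp (W.inv_mem hw))
      have h2 : ⁅W ⊔ I, B⁆ ≤ W := sup_commutator_le le_normalizer (hIN.trans hNW) h0 hIB
      exact (Subgroup.commutator_mono hJWI h1).trans h2
    have hJE : J ≤ centralizer (E : Set Γ) :=
      ih _ hmeasure P₁ rfl hP₁2 J hJP₁ hJp ⟨W, hWodd, hJB⟩
    -- conclude
    set φ : Γ →* MulAut ↥E := MulAut.conjNormal with hφ
    have hJφ : J.map φ = ⊥ := by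
      rw [eq_bot_iff]
      rintro _ ⟨j, hj, rfl⟩
      rw [Subgroup.mem_bot]
      exact conjNormal_eq_one_of_mem_centralizer (hJE hj)
    have hIφ : I.map φ ≤ W.map φ := by
      calc I.map φ ≤ (W ⊔ J).map φ := Subgroup.map_mono hIWJ
        _ = W.map φ ⊔ J.map φ := Subgroup.map_sup _ _ _
        _ = W.map φ := by rw [hJφ, sup_bot_eq]
    have hWφ : (Nat.card (W.map φ)).Coprime 2 :=
      Nat.Coprime.coprime_dvd_left (Subgroup.card_map_dvd _ _) hWodd
    have hIbot : I.map φ = ⊥ := (hI.map φ).eq_bot_of_odd hIφ hWφ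
    intro i hi
    apply mem_centralizer_of_conjNormal_eq_one
    have : φ i ∈ I.map φ := ⟨i, hi, rfl⟩
    rw [hIbot, Subgroup.mem_bot] at this
    exact this

/-- **Theorem B**. Let `E` be a normal subgroup of the finite group `Γ` with `O(E) = 1`, `P` a
2-subgroup and `I` a `Perf2` subgroup centralizing `P`, such that `⁅I, E ∩ C(P)⁆` has odd order.
Then `I` centralizes `E`. -/
theorem thmB {Γ : Type u} [Group Γ] [Finite Γ] (E : Subgroup Γ) [hEn : E.Normal]
    (hE : Cfsg.oddCore ↥E = ⊥) (P : Subgroup Γ) (hP : IsPGroup 2 P) (I : Subgroup Γ)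
    (hIP : I ≤ centralizer (P : Set Γ)) (hI : Perf2 I) (W₀ : Subgroup Γ)
    (hW₀ : (Nat.card W₀).Coprime 2) (hIW₀ : ⁅I, E ⊓ centralizer (P : Set Γ)⁆ ≤ W₀) :
    I ≤ centralizer (E : Set Γ) :=
  thmB_aux E hE _ P rfl hP I hIP hI ⟨W₀, hW₀, hIW₀⟩

end Cfsg.Agent.Helper96.Glaub
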