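import Mathlib
import Cfsg.Agent.Lib.Helper89.AGL.Act
import Cfsg.Agent.S0445

/-!
# HEC server (helper72, S2134), piece (ISO): `iso_of_split`

Copy of helper89's affine representation `Setup.Φ` (Lib/Helper89/AGL/Act.lean) with the field `full`
dropped (it is only needed for surjectivity), then a cardinality argument with S0445.
-/

set_option autoImplicit false
set_option linter.unusedSimpArgs false
set_option linter.unusedSectionVars false

namespace Cfsg.Agent.Helper96.HEC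

open Matrix Cfsg.Agent.Helper89.TV Cfsg.Agent.Helper89.AGL

section setup

variable {G : Type*} [Group G] {n : ℕ}

/-- The abstract affine-group setup (copy of `Cfsg.Agent.Helper89.AGL.Setup` without the field `full`). -/
structure Setup' (G : Type*) [Group G] (n : ℕ) where
  U : Subgroup G
  M : Subgroup G
  normal : U.Normal
  comm : ∀ a b : ↥U, a * b = b * a
  inf : U ⊓ M = ⊥
  sup : U ⊔ M = ⊤
  c : Coord U n
  faith : ∀ m ∈ M, (∀ u ∈ U, m * u * m⁻¹ = u) → m = 1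

attribute [instance] Setup'.normal

namespace Setup'

variable (S : Setup' G n)

theorem exists_decomp (g : G) : ∃ u ∈ S.U, ∃ m ∈ S.M, g = u * m := by
  have hg : g ∈ S.U ⊔ S.M := by rw [S.sup]; trivial
  rw [← SetLike.mem_coe, Subgroup.normal_mul] at hg
  obtain ⟨u, hu, m, hm, rfl⟩ := Set.mem_mul.mp hg
  exact ⟨u, hu, m, hm, rfl⟩

noncomputable def uPart (g : G) : G := (S.exists_decomp g).choose

noncomputable def mPart (g : G) : G := (S.exists_decomp g).choose_spec.2.choose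

theorem uPart_mem (g : G) : S.uPart g ∈ S.U := (S.exists_decomp g).choose_spec.1

theorem mPart_mem (g : G) : S.mPart g ∈ S.M := (S.exists_decomp g).choose_spec.2.choose_spec.1

theorem decomp_eq (g : G) : g = S.uPart g * S.mPart g :=
  (S.exists_decomp g).choose_spec.2.choose_spec.2

theorem decomp_unique {u u' m m' : G} (hu : u ∈ S.U) (hu' : u' ∈ S.U) (hm : m ∈ S.M)
    (hm' : m' ∈ S.M) (h : u * m = u' * m') : u = u' ∧ m = m' := by
  have h1 : u'⁻¹ * u = m' * m⁻¹ := by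
    rw [eq_mul_inv_iff_mul_eq, mul_assoc, h]
    group
  have h2 : u'⁻¹ * u ∈ S.U ⊓ S.M :=
    ⟨S.U.mul_mem (S.U.inv_mem hu') hu, by rw [h1]; exact S.M.mul_mem hm' (S.M.inv_mem hm)⟩
  rw [S.inf, Subgroup.mem_bot, inv_mul_eq_one] at h2
  subst h2
  exact ⟨rfl, mul_left_cancel h⟩

theorem uPart_eq {g u m : G} (hu : u ∈ S.U) (hm : m ∈ S.M) (h : g = u * m) :
    S.uPart g = u ∧ S.mPart g = m :=
  S.decomp_unique (S.uPart_mem g) hu (S.mPart_mem g) hm ((S.decomp_eq g).symm.trans h)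

theorem matG_eq_mPart (g : G) : S.c.matG g = S.c.matG (S.mPart g) := by
  conv_lhs => rw [S.decomp_eq g]
  rw [S.c.matG_mul, S.c.matG_of_mem S.comm (S.uPart_mem g), one_mul]

/-- The matrix of `g` in the affine representation. -/
noncomputable def ΦM (g : G) : Mx n := aff (S.c.matG g) (S.c.e ⟨S.uPart g, S.uPart_mem g⟩)

theorem ΦM_mul (g h : G) : S.ΦM (g * h) = S.ΦM g * S.ΦM h := by
  have hmem : S.mPart g * S.uPart h * (S.mPart g)⁻¹ ∈ S.U :=
    S.normal.conj_mem _ (S.uPart_mem h) _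
  have e : g * h = (S.uPart g * (S.mPart g * S.uPart h * (S.mPart g)⁻¹)) *
      (S.mPart g * S.mPart h) := by
    conv_lhs => rw [S.decomp_eq g, S.decomp_eq h]
    group
  obtain ⟨e1, -⟩ := S.uPart_eq (S.U.mul_mem (S.uPart_mem g) hmem)
    (S.M.mul_mem (S.mPart_mem g) (S.mPart_mem h)) e
  rw [ΦM, ΦM, ΦM, aff_mul, S.c.matG_mul]
  congr 1
  have e2 : (⟨S.uPart (g * h), S.uPart_mem (g * h)⟩ : ↥S.U) =
      ⟨S.uPart g, S.uPart_mem g⟩ *
        MulAut.conjNormal (S.mPart g) ⟨S.uPart h, S.uPart_mem h⟩ := by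
    apply Subtype.ext
    rw [Subgroup.coe_mul, MulAut.conjNormal_apply]
    exact e1
  rw [e2, S.c.map_mul, S.matG_eq_mPart g, S.c.matG_mulVec']

theorem uPart_one : S.uPart (1 : G) = 1 :=
  (S.uPart_eq (g := 1) S.U.one_mem S.M.one_mem (by rw [mul_one])).1

theorem ΦM_one : S.ΦM (1 : G) = 1 := by
  rw [ΦM, S.c.matG_one]
  have : (⟨S.uPart (1 : G), S.uPart_mem 1⟩ : ↥S.U) = 1 := Subtype.ext S.uPart_one
  rw [this, S.c.map_one, aff_one]

theorem det_ΦM (g : G) : (S.ΦM g).det = 1 := by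
  apply zmod2_eq_one_of_mul _ (S.ΦM g⁻¹).det
  rw [← Matrix.det_mul, ← S.ΦM_mul, mul_inv_cancel, S.ΦM_one, Matrix.det_one]

/-- The affine representation of `G` in `SL_{n+2}(2)`. -/
noncomputable def Φ : G →* SLx n where
  toFun g := ⟨S.ΦM g, S.det_ΦM g⟩
  map_one' := Subtype.ext S.ΦM_one
  map_mul' g h := Subtype.ext (S.ΦM_mul g h)

@[simp] theorem Φ_coe (g : G) : ((S.Φ g : SLx n) : Mx n) = S.ΦM g := rfl

theorem Φ_injective : Function.Injective S.Φ := by
  rw [injective_iff_map_eq_one]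
  intro g hg
  have h1 : S.ΦM g = aff 1 0 := by
    rw [aff_one]
    exact congrArg Subtype.val hg
  obtain ⟨hA, hx⟩ := aff_inj h1
  have hu : S.uPart g = 1 := by
    have h2 : (⟨S.uPart g, S.uPart_mem g⟩ : ↥S.U) = 1 := by
      apply S.c.e.injective
      rw [hx, S.c.map_one]
    exact congrArg Subtype.val h2
  have hgm : g = S.mPart g := by
    conv_lhs => rw [S.decomp_eq g, hu, one_mul]
  have hgM : g ∈ S.M := by rw [hgm]; exact S.mPart_mem g
  apply S.faith g hgM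
  intro u hu'
  have h3 := S.c.matG_mulVec' g ⟨u, hu'⟩
  rw [hA, Matrix.one_mulVec] at h3
  have h4 := congrArg Subtype.val (S.c.e.injective h3)
  rw [MulAut.conjNormal_apply] at h4
  exact h4.symm

theorem ΦM_of_mem {u : G} (hu : u ∈ S.U) : S.ΦM u = aff 1 (S.c.e ⟨u, hu⟩) := by
  rw [ΦM, S.c.matG_of_mem S.comm hu]
  obtain ⟨eu, -⟩ := S.uPart_eq (g := u) hu S.M.one_mem (mul_one u).symm
  have e3 : (⟨S.uPart u, S.uPart_mem _⟩ : ↥S.U) = ⟨u, hu⟩ := Subtype.ext eu
  rw [e3]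

theorem Φ_z {z : G} (hz : z ∈ S.U) (hz1 : S.c.e ⟨z, hz⟩ = Pi.single 0 1) :
    ((S.Φ z : SLx n) : Mx n) = Matrix.transvection 0 1 1 := by
  rw [Φ_coe, S.ΦM_of_mem hz, hz1, aff_z]
end Setup'

end setup

/-- (ISO) -/
theorem iso_of_split {C : Type*} [Group C] [Finite C]
    (hcard : Nat.card C = 21504)
    (U M : Subgroup C) (hUn : U.Normal)
    (hUcomm : ∀ a ∈ U, ∀ b ∈ U, a * b = b * a)
    (hUexp : ∀ a ∈ U, a * a = 1)
    (hUcard : Nat.card U = 16)
    (hinf : U ⊓ M = ⊥) (hsup : U ⊔ M = ⊤)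
    (hfaith : ∀ m ∈ M, (∀ u ∈ U, m * u * m⁻¹ = u) → m = 1)
    (z : C) (hzU : z ∈ U) (hz1 : z ≠ 1) (hzc : ∀ g : C, g * z = z * g)
    (s : Matrix.SpecialLinearGroup (Fin 5) (ZMod 2))
    (hs : (s : Matrix (Fin 5) (Fin 5) (ZMod 2)) = Matrix.transvection 0 1 1) :
    Nonempty (C ≃* Subgroup.centralizer ({s} : Set (Matrix.SpecialLinearGroup (Fin 5) (ZMod 2)))) := by
  have hc : ∀ a b : ↥U, a * b = b * a := fun a b => Subtype.ext (hUcomm a a.2 b b.2)
  have h2 : ∀ a : ↥U, a ^ 2 = 1 := by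
    intro a
    apply Subtype.ext
    rw [pow_two]
    exact hUexp a a.2
  have hz1' : (⟨z, hzU⟩ : ↥U) ≠ 1 := fun h => hz1 (congrArg Subtype.val h)
  obtain ⟨ξ, hξmul, hξz⟩ := Cfsg.Agent.Helper89.AGL.exists_coord hc h2 3
    (by rw [hUcard]; norm_num) (⟨z, hzU⟩ : ↥U) hz1'
  let S : Setup' C 3 :=
    { U := U, M := M, normal := hUn, comm := hc, inf := hinf, sup := hsup,
      c := ⟨ξ, hξmul⟩, faith := hfaith }
  have hΦz : ((S.Φ z : SLx 3) : Mx 3) = Matrix.transvection 0 1 1 := S.Φ_z hzU hξz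
  have hsz : S.Φ z = s := Subtype.ext (by rw [hΦz, hs])
  have hle : S.Φ.range ≤ Subgroup.centralizer ({s} : Set (SLx 3)) := by
    rintro _ ⟨g, rfl⟩
    rw [Subgroup.mem_centralizer_singleton_iff, ← hsz, ← _root_.map_mul, ← _root_.map_mul, hzc g]
  have hcardrange : Nat.card S.Φ.range = 21504 := by
    rw [← hcard]
    exact (Nat.card_congr (MonoidHom.ofInjective S.Φ_injective).toEquiv).symm
  have hcardcent := Cfsg.Agent.S0445.result s hs
  have heq : S.Φ.range = Subgroup.centralizer ({s} : Set (SLx 3)) :=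
    Subgroup.eq_of_le_of_card_ge hle (by rw [hcardrange]; exact hcardcent.le)
  exact ⟨(MonoidHom.ofInjective S.Φ_injective).trans (MulEquiv.subgroupCongr heq)⟩

end Cfsg.Agent.Helper96.HEC
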