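import Mathlib

/-!
# Partitioning a finite set with an involution into equal blocks permuted by the involution
-/

set_option autoImplicit false

namespace Cfsg.Agent.Helper96.InvolBlocks

open Classical

variable {I : Type*}

theorem exists_transversal (τ : I → I) (hτ : Function.Involutive τ) (M : Finset I)
    (hM : ∀ i ∈ M, τ i ∈ M) (hne : ∀ i ∈ M, τ i ≠ i) :
    ∃ R : Finset I, R ⊆ M ∧ Disjoint R (R.image τ) ∧ R ∪ R.image τ = M := by
  refine ⟨M.filter (fun i => WellOrderingRel i (τ i)), Finset.filter_subset _ _, ?_, ?_⟩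
  · rw [Finset.disjoint_left]
    intro i hi hi'
    rw [Finset.mem_filter] at hi
    rw [Finset.mem_image] at hi'
    obtain ⟨j, hj, rfl⟩ := hi'
    rw [Finset.mem_filter] at hj
    have := hi.2
    rw [hτ j] at this
    exact asymm_of WellOrderingRel hj.2 this
  · ext i
    simp only [Finset.mem_union, Finset.mem_filter, Finset.mem_image]
    constructor
    · rintro (h | ⟨j, hj, rfl⟩)
      · exact h.1
      · exact hM j hj.1
    · intro hi
      rcases trichotomous_of WellOrderingRel i (τ i) with h | h | h
      · exact Or.inl ⟨hi, h⟩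
      · exact absurd h.symm (hne i hi)
      · right
        refine ⟨τ i, ⟨hM i hi, ?_⟩, hτ i⟩
        rw [hτ i]; exact h

/-- one step: peel an invariant block `A` of size `a` -/
theorem step_inv (a t : ℕ) (τ : I → I) (hτ : Function.Involutive τ) (S A : Finset I)
    (hAS : A ⊆ S) (hA : ∀ i ∈ A, τ i ∈ A) (hS : ∀ i ∈ S, τ i ∈ S) (hAc : A.card = a)
    (β' : I → ℕ) (h1 : ∀ i ∈ S \ A, β' i < t)
    (h2 : ∀ j < t, ((S \ A).filter (fun i => β' i = j)).card = a)
    (h3 : ∀ i ∈ S \ A, ∀ i' ∈ S \ A, β' i = β' i' → β' (τ i) = β' (τ i')) :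
    ∃ β : I → ℕ, (∀ i ∈ S, β i < t + 1) ∧
      (∀ j < t + 1, (S.filter (fun i => β i = j)).card = a) ∧
      (∀ i ∈ S, ∀ i' ∈ S, β i = β i' → β (τ i) = β (τ i')) := by
  have hAinv' : ∀ i, i ∉ A → τ i ∉ A := by
    intro i hi h
    apply hi
    have := hA _ h
    rwa [hτ i] at this
  refine ⟨fun i => if i ∈ A then 0 else β' i + 1, ?_, ?_, ?_⟩
  · intro i hi
    by_cases hiA : i ∈ A
    · simp [hiA]
    · simp only [hiA, if_false]
      have := h1 i (Finset.mem_sdiff.mpr ⟨hi, hiA⟩)
      omega
  · intro j hj
    rcases Nat.eq_zero_or_pos j with rfl | hjpos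
    · have : S.filter (fun i => (if i ∈ A then 0 else β' i + 1) = 0) = A := by
        ext i
        simp only [Finset.mem_filter]
        constructor
        · rintro ⟨_, h⟩
          by_contra hiA
          simp [hiA] at h
        · intro hiA
          exact ⟨hAS hiA, by simp [hiA]⟩
      rw [this, hAc]
    · obtain ⟨j', rfl⟩ : ∃ j', j = j' + 1 := ⟨j - 1, by omega⟩
      have : S.filter (fun i => (if i ∈ A then 0 else β' i + 1) = j' + 1)
          = (S \ A).filter (fun i => β' i = j') := by
        ext i
        simp only [Finset.mem_filter, Finset.mem_sdiff]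
        constructor
        · rintro ⟨hi, h⟩
          by_cases hiA : i ∈ A
          · simp [hiA] at h
          · simp only [hiA, if_false] at h
            exact ⟨⟨hi, hiA⟩, by omega⟩
        · rintro ⟨⟨hi, hiA⟩, h⟩
          exact ⟨hi, by simp [hiA, h]⟩
      rw [this]
      exact h2 j' (by omega)
  · intro i hi i' hi' h
    by_cases hiA : i ∈ A
    · have hi'A : i' ∈ A := by
        by_contra hc
        simp [hiA, hc] at h
      simp [hA i hiA, hA i' hi'A]
    · have hi'A : i' ∉ A := by
        intro hc
        simp [hiA, hc] at h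
      simp only [hiA, hi'A, if_false, add_left_inj] at h
      simp only [hAinv' i hiA, hAinv' i' hi'A, if_false, add_left_inj]
      exact h3 i (Finset.mem_sdiff.mpr ⟨hi, hiA⟩) i' (Finset.mem_sdiff.mpr ⟨hi', hi'A⟩) h

/-- one step: peel a pair of swapped blocks `A`, `τ A` -/
theorem step_swap (a t : ℕ) (τ : I → I) (hτ : Function.Involutive τ) (S A : Finset I)
    (hAS : A ⊆ S) (hdisj : Disjoint A (A.image τ)) (hS : ∀ i ∈ S, τ i ∈ S) (hAc : A.card = a)
    (β' : I → ℕ) (h1 : ∀ i ∈ S \ (A ∪ A.image τ), β' i < t)
    (h2 : ∀ j < t, ((S \ (A ∪ A.image τ)).filter (fun i => β' i = j)).card = a)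
    (h3 : ∀ i ∈ S \ (A ∪ A.image τ), ∀ i' ∈ S \ (A ∪ A.image τ),
      β' i = β' i' → β' (τ i) = β' (τ i')) :
    ∃ β : I → ℕ, (∀ i ∈ S, β i < t + 2) ∧
      (∀ j < t + 2, (S.filter (fun i => β i = j)).card = a) ∧
      (∀ i ∈ S, ∀ i' ∈ S, β i = β i' → β (τ i) = β (τ i')) := by
  set A' := A.image τ with hA'
  have hA'S : A' ⊆ S := by
    intro i hi
    rw [hA', Finset.mem_image] at hi
    obtain ⟨j, hj, rfl⟩ := hi
    exact hS j (hAS hj)
  have hA'c : A'.card = a := by
    rw [hA', Finset.card_image_of_injective _ hτ.injective, hAc]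
  have hAA' : ∀ i ∈ A, τ i ∈ A' := fun i hi => Finset.mem_image_of_mem _ hi
  have hA'A : ∀ i ∈ A', τ i ∈ A := by
    intro i hi
    rw [hA', Finset.mem_image] at hi
    obtain ⟨j, hj, rfl⟩ := hi
    rwa [hτ j]
  have hnotA' : ∀ i ∈ A, i ∉ A' := fun i hi h => (Finset.disjoint_left.mp hdisj) hi h
  have hinv' : ∀ i, i ∉ A → i ∉ A' → (τ i ∉ A ∧ τ i ∉ A') := by
    intro i hi hi'
    constructor
    · intro h
      apply hi'
      have := hAA' _ h
      rwa [hτ i] at this
    · intro h
      apply hi
      have := hA'A _ h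
      rwa [hτ i] at this
  refine ⟨fun i => if i ∈ A then 0 else if i ∈ A' then 1 else β' i + 2, ?_, ?_, ?_⟩
  · intro i hi
    by_cases hiA : i ∈ A
    · simp [hiA]
    · by_cases hiA' : i ∈ A'
      · simp [hiA, hiA']
      · simp only [hiA, hiA', if_false]
        have := h1 i (Finset.mem_sdiff.mpr ⟨hi, by simp [hiA, hiA']⟩)
        omega
  · intro j hj
    rcases Nat.eq_zero_or_pos j with rfl | hjpos
    · have : S.filter (fun i => (if i ∈ A then 0 else if i ∈ A' then 1 else β' i + 2) = 0)
          = A := by
        ext i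
        simp only [Finset.mem_filter]
        constructor
        · rintro ⟨_, h⟩
          by_contra hiA
          by_cases hiA' : i ∈ A'
          · simp [hiA, hiA'] at h
          · simp [hiA, hiA'] at h
        · intro hiA
          exact ⟨hAS hiA, by simp [hiA]⟩
      rw [this, hAc]
    · rcases Nat.eq_or_lt_of_le (Nat.succ_le_of_lt hjpos) with h1j | h1j
      · have hj1 : j = 1 := h1j.symm
        subst hj1
        have : S.filter (fun i => (if i ∈ A then 0 else if i ∈ A' then 1 else β' i + 2) = 1)
            = A' := by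
          ext i
          simp only [Finset.mem_filter]
          constructor
          · rintro ⟨_, h⟩
            by_contra hiA'
            by_cases hiA : i ∈ A
            · simp [hiA] at h
            · simp [hiA, hiA'] at h
          · intro hiA'
            have hiA : i ∉ A := fun h => hnotA' i h hiA'
            exact ⟨hA'S hiA', by simp [hiA, hiA']⟩
        rw [this, hA'c]
      · obtain ⟨j', rfl⟩ : ∃ j', j = j' + 2 := ⟨j - 2, by omega⟩
        have : S.filter (fun i => (if i ∈ A then 0 else if i ∈ A' then 1 else β' i + 2) = j' + 2)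
            = (S \ (A ∪ A')).filter (fun i => β' i = j') := by
          ext i
          simp only [Finset.mem_filter, Finset.mem_sdiff, Finset.mem_union]
          constructor
          · rintro ⟨hi, h⟩
            by_cases hiA : i ∈ A
            · simp [hiA] at h
            · by_cases hiA' : i ∈ A'
              · simp [hiA, hiA'] at h
              · simp only [hiA, hiA', if_false] at h
                exact ⟨⟨hi, by simp [hiA, hiA']⟩, by omega⟩
          · rintro ⟨⟨hi, hiAA'⟩, h⟩
            rw [not_or] at hiAA'
            exact ⟨hi, by simp [hiAA'.1, hiAA'.2, h]⟩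
        rw [this]
        exact h2 j' (by omega)
  · intro i hi i' hi' h
    by_cases hiA : i ∈ A
    · have hi'A : i' ∈ A := by
        by_contra hc
        by_cases hc' : i' ∈ A'
        · simp [hiA, hc, hc'] at h
        · simp [hiA, hc, hc'] at h
      have e1 : τ i ∉ A := fun hh => hnotA' _ hh (hAA' i hiA)
      have e2 : τ i' ∉ A := fun hh => hnotA' _ hh (hAA' i' hi'A)
      simp [e1, e2, hAA' i hiA, hAA' i' hi'A]
    · by_cases hiA' : i ∈ A'
      · have hi'nA : i' ∉ A := by
          intro hc
          simp [hiA, hiA', hc] at h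
        have hi'A' : i' ∈ A' := by
          by_contra hc
          simp [hiA, hiA', hi'nA, hc] at h
        simp [hA'A i hiA', hA'A i' hi'A']
      · have hi'nA : i' ∉ A := by
          intro hc
          simp [hiA, hiA', hc] at h
        have hi'nA' : i' ∉ A' := by
          intro hc
          simp [hiA, hiA', hi'nA, hc] at h
        simp only [hiA, hiA', hi'nA, hi'nA', if_false, add_left_inj] at h
        obtain ⟨f1, f2⟩ := hinv' i hiA hiA'
        obtain ⟨g1, g2⟩ := hinv' i' hi'nA hi'nA'
        simp only [f1, f2, g1, g2, if_false, add_left_inj]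
        exact h3 i (Finset.mem_sdiff.mpr ⟨hi, by simp [hiA, hiA']⟩) i'
          (Finset.mem_sdiff.mpr ⟨hi', by simp [hi'nA, hi'nA']⟩) h


/-- **Greedy block partition.** A finite `τ`-invariant set of size `a * t` can be cut into `t`
blocks of size `a` such that `τ` maps blocks to blocks. -/
theorem comb (a : ℕ) (ha : 0 < a) (τ : I → I) (hτ : Function.Involutive τ) :
    ∀ (t : ℕ) (S : Finset I), (∀ i ∈ S, τ i ∈ S) → S.card = a * t →
    ∃ β : I → ℕ, (∀ i ∈ S, β i < t) ∧ (∀ j < t, (S.filter (fun i => β i = j)).card = a) ∧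
      (∀ i ∈ S, ∀ i' ∈ S, β i = β i' → β (τ i) = β (τ i')) := by
  intro t
  induction t using Nat.strong_induction_on with
  | _ t ih =>
  intro S hS hcard
  rcases Nat.eq_zero_or_pos t with rfl | htpos
  · have : S = ∅ := by rw [← Finset.card_eq_zero, hcard, mul_zero]
    subst this
    exact ⟨fun _ => 0, by simp, by simp, by simp⟩
  set Fx := S.filter (fun i => τ i = i) with hFx
  set Mv := S.filter (fun i => ¬ τ i = i) with hMv
  have hMvinv : ∀ i ∈ Mv, τ i ∈ Mv := by
    intro i hi
    rw [hMv, Finset.mem_filter] at hi ⊢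
    refine ⟨hS i hi.1, ?_⟩
    rw [hτ i]; exact fun h => hi.2 h.symm
  obtain ⟨R, hRM, hRdisj, hRun⟩ := exists_transversal τ hτ Mv hMvinv
    (fun i hi => (Finset.mem_filter.mp hi).2)
  have hτinj : Function.Injective τ := hτ.injective
  have hcardMv : Mv.card = 2 * R.card := by
    rw [← hRun, Finset.card_union_of_disjoint hRdisj, Finset.card_image_of_injective _ hτinj]
    ring
  have hcardS : Fx.card + 2 * R.card = a * t := by
    rw [← hcardMv, ← hcard, hFx, hMv]
    exact Finset.card_filter_add_card_filter_not _
  have hMvS : Mv ⊆ S := Finset.filter_subset _ _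
  have hFxS : Fx ⊆ S := Finset.filter_subset _ _
  have hRS : R ⊆ S := hRM.trans hMvS
  by_cases hcase : Even a ∨ 0 < Fx.card
  · -- an invariant block
    set p := min R.card (a / 2) with hp
    have hp1 : p ≤ R.card := min_le_left _ _
    have hp2 : 2 * p ≤ a := by
      have := min_le_right R.card (a / 2)
      omega
    have hp3 : a - 2 * p ≤ Fx.card := by
      rcases le_total R.card (a / 2) with h | h
      · have hpe : p = R.card := min_eq_left h
        have : a ≤ a * t := Nat.le_mul_of_pos_right a htpos
        omega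
      · have hpe : p = a / 2 := min_eq_right h
        rcases hcase with he | hf
        · obtain ⟨m, hm⟩ := he
          omega
        · omega
    obtain ⟨R', hR'R, hR'card⟩ := Finset.exists_subset_card_eq hp1
    obtain ⟨F', hF'F, hF'card⟩ := Finset.exists_subset_card_eq hp3
    have hd1 : Disjoint R' (R'.image τ) :=
      Finset.disjoint_of_subset_left hR'R
        (Finset.disjoint_of_subset_right (Finset.image_subset_image hR'R) hRdisj)
    have hsubMv : R' ∪ R'.image τ ⊆ Mv := by
      intro i hi
      rw [Finset.mem_union] at hi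
      rcases hi with hi | hi
      · exact hRM (hR'R hi)
      · rw [Finset.mem_image] at hi
        obtain ⟨j, hj, rfl⟩ := hi
        exact hMvinv j (hRM (hR'R hj))
    have hd2 : Disjoint (R' ∪ R'.image τ) F' := by
      rw [Finset.disjoint_left]
      intro i hi hi'
      have h1 := (Finset.mem_filter.mp (hsubMv hi)).2
      have h2 := (Finset.mem_filter.mp (hF'F hi')).2
      exact h1 h2
    set A := R' ∪ R'.image τ ∪ F' with hA
    have hAc : A.card = a := by
      rw [hA, Finset.card_union_of_disjoint hd2, Finset.card_union_of_disjoint hd1,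
        Finset.card_image_of_injective _ hτinj, hR'card, hF'card]
      omega
    have hAS : A ⊆ S := by
      intro i hi
      rw [hA, Finset.mem_union] at hi
      rcases hi with hi | hi
      · exact hMvS (hsubMv hi)
      · exact hFxS (hF'F hi)
    have hAinv : ∀ i ∈ A, τ i ∈ A := by
      intro i hi
      rw [hA, Finset.mem_union, Finset.mem_union] at hi ⊢
      rcases hi with (hi | hi) | hi
      · exact Or.inl (Or.inr (Finset.mem_image_of_mem _ hi))
      · rw [Finset.mem_image] at hi
        obtain ⟨j, hj, rfl⟩ := hi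
        rw [hτ j]
        exact Or.inl (Or.inl hj)
      · have := (Finset.mem_filter.mp (hF'F hi)).2
        rw [this]
        exact Or.inr hi
    have hS'inv : ∀ i ∈ S \ A, τ i ∈ S \ A := by
      intro i hi
      rw [Finset.mem_sdiff] at hi ⊢
      refine ⟨hS i hi.1, fun h => hi.2 ?_⟩
      have := hAinv _ h
      rwa [hτ i] at this
    have hS'card : (S \ A).card = a * (t - 1) := by
      rw [Finset.card_sdiff_of_subset hAS, hcard, hAc, Nat.mul_sub_one]
    obtain ⟨β', h1, h2, h3⟩ := ih (t - 1) (by omega) (S \ A) hS'inv hS'card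
    have := step_inv a (t - 1) τ hτ S A hAS hAinv hS hAc β' h1 h2 h3
    rwa [Nat.sub_add_cancel htpos] at this
  · -- a odd and no fixed points: a swapped pair of blocks
    rw [not_or, Nat.not_even_iff_odd] at hcase
    obtain ⟨hodd, hf0⟩ := hcase
    have hf0' : Fx.card = 0 := by omega
    have h2R : 2 * R.card = a * t := by omega
    have hteven : Even t := by
      have : Even (a * t) := ⟨R.card, by omega⟩
      rcases Nat.even_mul.mp this with h | h
      · exact absurd h (Nat.not_even_iff_odd.mpr hodd)
      · exact h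
    obtain ⟨m, hm⟩ := hteven
    have hm1 : 1 ≤ m := by omega
    have haR : a ≤ R.card := by
      have : 2 * R.card = 2 * (a * m) := by rw [h2R, hm]; ring
      have h3 : R.card = a * m := by omega
      rw [h3]
      exact Nat.le_mul_of_pos_right a hm1
    obtain ⟨A, hAR, hAc⟩ := Finset.exists_subset_card_eq haR
    have hd : Disjoint A (A.image τ) :=
      Finset.disjoint_of_subset_left hAR
        (Finset.disjoint_of_subset_right (Finset.image_subset_image hAR) hRdisj)
    have hAS : A ⊆ S := hAR.trans hRS
    have hA'S : A.image τ ⊆ S := by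
      intro i hi
      rw [Finset.mem_image] at hi
      obtain ⟨j, hj, rfl⟩ := hi
      exact hS j (hAS hj)
    have hUinv : ∀ i ∈ A ∪ A.image τ, τ i ∈ A ∪ A.image τ := by
      intro i hi
      rw [Finset.mem_union] at hi ⊢
      rcases hi with hi | hi
      · exact Or.inr (Finset.mem_image_of_mem _ hi)
      · rw [Finset.mem_image] at hi
        obtain ⟨j, hj, rfl⟩ := hi
        rw [hτ j]
        exact Or.inl hj
    have hS'inv : ∀ i ∈ S \ (A ∪ A.image τ), τ i ∈ S \ (A ∪ A.image τ) := by
      intro i hi
      rw [Finset.mem_sdiff] at hi ⊢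
      refine ⟨hS i hi.1, fun h => hi.2 ?_⟩
      have := hUinv _ h
      rwa [hτ i] at this
    have hUc : (A ∪ A.image τ).card = 2 * a := by
      rw [Finset.card_union_of_disjoint hd, Finset.card_image_of_injective _ hτinj, hAc]
      ring
    have hS'card : (S \ (A ∪ A.image τ)).card = a * (t - 2) := by
      rw [Finset.card_sdiff_of_subset (Finset.union_subset hAS hA'S), hcard, hUc,
        Nat.mul_sub, mul_comm a 2]
    obtain ⟨β', h1, h2, h3⟩ := ih (t - 2) (by omega) _ hS'inv hS'card
    have := step_swap a (t - 2) τ hτ S A hAS hd hS hAc β' h1 h2 h3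
    rwa [Nat.sub_add_cancel (by omega : 2 ≤ t)] at this

end Cfsg.Agent.Helper96.InvolBlocks
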