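import Mathlib

/-!
# A linear map with scalar square has a monomial basis
-/

set_option autoImplicit false

namespace Cfsg.Agent.Helper96.MonomialBasis

open Module

variable {F V : Type*} [Field F] [AddCommGroup V] [Module F V] [FiniteDimensional F V]

theorem exists_monomial (x : V →ₗ[F] V) (z : F) (hz : z ≠ 0) (hx : ∀ v, x (x v) = z • v) :
    ∀ (n : ℕ) (C : Submodule F V), finrank F C = n → (∀ v ∈ C, x v ∈ C) →
    ∃ B : Set V, B ⊆ C ∧ LinearIndepOn F id B ∧ Submodule.span F B = C ∧
      ∀ b ∈ B, ∃ c : F, c ≠ 0 ∧ ∃ b' ∈ B, x b = c • b' := by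
  intro n
  induction n using Nat.strong_induction_on with
  | _ n ih =>
  intro C hCn hCx
  have hxinj : ∀ v, x v = 0 → v = 0 := by
    intro v hv
    have := hx v
    rw [hv, map_zero] at this
    exact (smul_eq_zero.mp this.symm).resolve_left hz
  by_cases hall : ∀ v ∈ C, ∃ c : F, x v = c • v
  · obtain ⟨B, hBC, hBspan, hBli⟩ := exists_linearIndependent F (C : Set V)
    refine ⟨B, hBC, hBli, ?_, ?_⟩
    · rw [hBspan, Submodule.span_eq]
    · intro b hb
      obtain ⟨c, hc⟩ := hall b (hBC hb)
      have hb0 : b ≠ 0 := hBli.ne_zero ⟨b, hb⟩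
      refine ⟨c, ?_, b, hb, hc⟩
      rintro rfl
      rw [zero_smul] at hc
      exact hb0 (hxinj b hc)
  · push Not at hall
    obtain ⟨v, hvC, hv⟩ := hall
    have hv0 : v ≠ 0 := by
      rintro rfl
      exact hv 0 (by simp)
    have hli : LinearIndependent F ![v, x v] := by
      rw [LinearIndependent.pair_iff' hv0]
      intro a h
      exact hv a h.symm
    -- a functional φ with φ v = 0, φ (x v) = 1
    obtain ⟨φ, hφ1, hφ2⟩ : ∃ φ : V →ₗ[F] F, φ v = 0 ∧ φ (x v) = 1 := by
      have hnot : x v ∉ Submodule.span F ({v} : Set V) := by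
        intro h
        rw [Submodule.mem_span_singleton] at h
        obtain ⟨a, ha⟩ := h
        exact hv a ha.symm
      obtain ⟨f, hf1, hf2⟩ := Submodule.exists_dual_map_eq_bot_of_notMem hnot inferInstance
      refine ⟨(f (x v))⁻¹ • f, ?_, ?_⟩
      · have : f v ∈ (Submodule.span F ({v} : Set V)).map f :=
          Submodule.mem_map_of_mem (Submodule.mem_span_singleton_self v)
        rw [hf2, Submodule.mem_bot] at this
        simp [this]
      · simp [hf1]
    set C' : Submodule F V := C ⊓ LinearMap.ker φ ⊓ LinearMap.ker (φ ∘ₗ x) with hC'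
    have memC' : ∀ u, u ∈ C' ↔ u ∈ C ∧ φ u = 0 ∧ φ (x u) = 0 := by
      intro u
      rw [hC', Submodule.mem_inf, Submodule.mem_inf, LinearMap.mem_ker, LinearMap.mem_ker,
        LinearMap.comp_apply, and_assoc]
    have hC'x : ∀ u ∈ C', x u ∈ C' := by
      intro u hu
      rw [memC'] at hu ⊢
      refine ⟨hCx u hu.1, hu.2.2, ?_⟩
      rw [hx, map_smul, hu.2.1, smul_zero]
    have hvC' : v ∉ C' := by
      intro h
      rw [memC'] at h
      rw [hφ2] at h
      exact one_ne_zero h.2.2
    have hC'le : C' ≤ C := fun u hu => ((memC' u).mp hu).1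
    have hC'lt : C' < C := lt_of_le_of_ne hC'le (fun h => hvC' (h ▸ hvC))
    have hrank : finrank F C' < n := hCn ▸ Submodule.finrank_lt_finrank_of_lt hC'lt
    obtain ⟨B', hB'C, hB'li, hB'span, hB'mon⟩ := ih _ hrank C' rfl hC'x
    have hpairli : LinearIndepOn F id ({v, x v} : Set V) := by
      apply hli.linearIndepOn_id'
      simp [Matrix.range_cons, Set.pair_comm]
    have hdisj : Disjoint (Submodule.span F B') (Submodule.span F ({v, x v} : Set V)) := by
      rw [hB'span, Submodule.disjoint_def]
      intro w hw hw'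
      rw [Submodule.mem_span_pair] at hw'
      obtain ⟨α, β, rfl⟩ := hw'
      rw [memC'] at hw
      obtain ⟨_, h1, h2⟩ := hw
      have e1 : β = 0 := by
        simpa [map_add, map_smul, hφ1, hφ2] using h1
      have e2 : α = 0 := by
        simpa [map_add, map_smul, hx, hφ1, hφ2, e1] using h2
      simp [e1, e2]
    refine ⟨B' ∪ {v, x v}, ?_, hB'li.id_union hpairli hdisj, ?_, ?_⟩
    · intro b hb
      rcases hb with hb | hb
      · exact hC'le (hB'C hb)
      · rcases hb with rfl | hb
        · exact hvC
        · rw [Set.mem_singleton_iff] at hb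
          rw [hb]
          exact hCx v hvC
    · rw [Submodule.span_union, hB'span]
      apply le_antisymm
      · apply sup_le hC'le
        rw [Submodule.span_le]
        intro b hb
        rcases hb with rfl | hb
        · exact hvC
        · rw [Set.mem_singleton_iff] at hb
          rw [hb]
          exact hCx v hvC
      · intro u hu
        rw [Submodule.mem_sup]
        refine ⟨u - (φ (x u) • v + φ u • x v), ?_, φ (x u) • v + φ u • x v, ?_, by abel⟩
        · rw [memC']
          refine ⟨?_, ?_, ?_⟩
          · exact C.sub_mem hu (C.add_mem (C.smul_mem _ hvC) (C.smul_mem _ (hCx v hvC)))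
          · simp [map_sub, map_add, map_smul, hφ1, hφ2]
          · simp [map_sub, map_add, map_smul, hx, hφ1, hφ2]
        · rw [Submodule.mem_span_pair]
          exact ⟨_, _, rfl⟩
    · intro b hb
      rcases hb with hb | hb
      · obtain ⟨c, hc, b', hb', h⟩ := hB'mon b hb
        exact ⟨c, hc, b', Or.inl hb', h⟩
      · rcases hb with rfl | hb
        · exact ⟨1, one_ne_zero, x b, Or.inr (by simp), by simp⟩
        · rw [Set.mem_singleton_iff] at hb
          rw [hb]
          exact ⟨z, hz, v, Or.inr (by simp), hx v⟩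

end Cfsg.Agent.Helper96.MonomialBasis
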