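import Mathlib
import Cfsg.Agent.Lib.Helper96.InvolBlocks
import Cfsg.Agent.Lib.Helper96.MonomialBasis

/-!
# A linear map with scalar square permutes the parts of an equidimensional decomposition
-/

set_option autoImplicit false

namespace Cfsg.Agent.Helper96.InvolDecomp

open Module Cfsg.Agent.Helper96

variable {F V : Type*} [Field F] [AddCommGroup V] [Module F V] [FiniteDimensional F V]

theorem exists_decomposition (x : V →ₗ[F] V) (z : F) (hz : z ≠ 0) (hx : ∀ v, x (x v) = z • v)
    (a t : ℕ) (ha : 0 < a) (hdim : finrank F V = a * t) :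
    ∃ D : Fin t → Submodule F V, (∀ j, finrank F (D j) = a) ∧ iSupIndep D ∧ iSup D = ⊤ ∧
      ∃ σ : Equiv.Perm (Fin t), ∀ j, (D j).map x = D (σ j) := by
  classical
  obtain ⟨B, -, hli, hspan, hmon⟩ := MonomialBasis.exists_monomial x z hz hx (finrank F V) ⊤
    (finrank_top F V) (fun _ _ => Submodule.mem_top)
  have hli' : LinearIndependent F (fun b : B => (b : V)) := hli
  have : Finite B := hli'.finite_of_isNoetherian
  have : Fintype B := Fintype.ofFinite B
  have hmon' : ∀ i : B, ∃ c : F, c ≠ 0 ∧ ∃ i' : B, x (i : V) = c • (i' : V) := by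
    intro i
    obtain ⟨c, hc, b', hb', h⟩ := hmon i i.2
    exact ⟨c, hc, ⟨b', hb'⟩, h⟩
  choose c hc τ hτx using hmon'
  have hτ : Function.Involutive τ := by
    intro i
    have h1 : x (x (i : V)) = (c i * c (τ i)) • ((τ (τ i) : B) : V) := by
      rw [hτx i, map_smul, hτx (τ i), smul_smul]
    rw [hx] at h1
    exact (hli'.eq_of_smul_apply_eq_smul_apply z _ i (τ (τ i)) hz h1).symm
  have hcard : Fintype.card B = a * t := by
    rw [← hdim, ← finrank_top F V, ← hspan]
    have := finrank_span_eq_card hli'
    rw [Subtype.range_coe] at this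
    exact this.symm
  obtain ⟨β, h1, h2, h3⟩ := InvolBlocks.comb a ha τ hτ t Finset.univ (fun _ _ => Finset.mem_univ _)
    (by rw [Finset.card_univ, hcard])
  have h1' : ∀ i : B, β i < t := fun i => h1 i (Finset.mem_univ _)
  set v : B → V := fun b => (b : V) with hv
  let D : Fin t → Submodule F V := fun j => Submodule.span F (v '' {i | β i = (j : ℕ)})
  have hDrank : ∀ j, finrank F (D j) = a := by
    intro j
    have hli2 : LinearIndependent F (fun i : {i : B // β i = (j : ℕ)} => v i) :=
      hli'.comp _ Subtype.val_injective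
    have := finrank_span_eq_card hli2
    have hr : Set.range (fun i : {i : B // β i = (j : ℕ)} => v i) = v '' {i | β i = (j : ℕ)} := by
      ext w
      constructor
      · rintro ⟨⟨i, hi⟩, rfl⟩; exact ⟨i, hi, rfl⟩
      · rintro ⟨i, hi, rfl⟩; exact ⟨⟨i, hi⟩, rfl⟩
    rw [hr] at this
    show finrank F (Submodule.span F (v '' {i | β i = (j : ℕ)})) = a
    rw [this, Fintype.card_subtype]
    exact h2 j j.2
  have hxinj : Function.Injective x := by
    rw [injective_iff_map_eq_zero]
    intro w hw
    have := hx w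
    rw [hw, map_zero] at this
    exact (smul_eq_zero.mp this.symm).resolve_left hz
  -- representatives of blocks
  have hrep : ∀ j : Fin t, ∃ i : B, β i = (j : ℕ) := by
    intro j
    have : 0 < (Finset.univ.filter (fun i : B => β i = (j : ℕ))).card := by
      rw [h2 j j.2]; exact ha
    obtain ⟨i, hi⟩ := Finset.card_pos.mp this
    exact ⟨i, (Finset.mem_filter.mp hi).2⟩
  choose rep hrepβ using hrep
  let σ : Fin t → Fin t := fun j => ⟨β (τ (rep j)), h1' _⟩
  have hkey : ∀ i : B, ∀ j : Fin t, β i = (j : ℕ) → β (τ i) = (σ j : ℕ) := by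
    intro i j hij
    exact h3 i (Finset.mem_univ _) (rep j) (Finset.mem_univ _) (by rw [hij, hrepβ j])
  have hσ : Function.Involutive σ := by
    intro j
    apply Fin.ext
    have e1 : β (τ (rep j)) = (σ j : ℕ) := rfl
    have e2 := hkey (τ (rep j)) (σ j) e1
    rw [hτ (rep j), hrepβ j] at e2
    exact e2.symm
  refine ⟨D, hDrank, ?_, ?_, hσ.toPerm σ, ?_⟩
  · -- independence
    intro j
    have hdis : Disjoint {i : B | β i = (j : ℕ)} {i : B | β i ≠ (j : ℕ)} := by
      rw [Set.disjoint_left]
      intro i hi hi'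
      exact hi' hi
    refine (hli'.disjoint_span_image hdis).mono_right ?_
    apply iSup₂_le
    intro k hk
    apply Submodule.span_mono
    apply Set.image_mono
    intro i hi
    simp only [Set.mem_setOf_eq] at hi ⊢
    rw [hi]
    exact fun h => hk (Fin.ext h)
  · -- spanning
    rw [eq_top_iff, ← hspan, Submodule.span_le]
    intro b hb
    have : b ∈ D ⟨β ⟨b, hb⟩, h1' _⟩ :=
      Submodule.subset_span ⟨⟨b, hb⟩, rfl, rfl⟩
    exact Submodule.mem_iSup_of_mem _ this
  · -- permuted by x
    intro j
    have hle : (D j).map x ≤ D (σ j) := by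
      show (Submodule.span F (v '' {i | β i = (j : ℕ)})).map x ≤ _
      rw [Submodule.map_span, Submodule.span_le]
      rintro w ⟨_, ⟨i, hi, rfl⟩, rfl⟩
      show x (i : V) ∈ D (σ j)
      rw [hτx i]
      apply Submodule.smul_mem
      exact Submodule.subset_span ⟨τ i, hkey i j hi, rfl⟩
    have hfr : finrank F ((D j).map x) = finrank F (D (σ j)) := by
      rw [hDrank, ← hDrank j]
      exact (LinearEquiv.finrank_eq (Submodule.equivMapOfInjective x hxinj (D j))).symm
    exact Submodule.eq_of_le_of_finrank_eq hle hfr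

end Cfsg.Agent.Helper96.InvolDecomp
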