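import Mathlib

set_option autoImplicit false

/-!
# JPC (T13a) core (helper96, for helper35's JPC server, S4150)

`exists_normalizer_elt_of`: the statement of (T13a) `exists_normalizer_elt` with the two leaves
(B) `no_sharp_frobenius` (specialised to ℓ = 11) and (T13a1) `fixer_eq_zpowers` (specialised to the given
`G`, `g`) as explicit hypotheses.  Mathlib only.
-/

namespace Cfsg.Agent.Helper96.JPC

open Equiv Equiv.Perm MulAction Subgroup

universe u

theorem exists_normalizer_elt_of {Ω : Type u} [Fintype Ω] [DecidableEq Ω]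
    (hB : ∀ (K : Type u) [Group K] [Finite K] (P : Subgroup K), Nat.card P = 11 →
      normalizer (P : Set K) ≤ P → Nat.card K = 11 * (11 + 1) → False)
    (hcard : Fintype.card Ω = 13) (G : Subgroup (Perm Ω))
    (h3 : IsMultiplyPretransitive G Ω 3) {g : Perm Ω} (hgc : g.IsCycle)
    (hg11 : g.support.card = 11) (hg : g ∈ G)
    (hT : (∀ n ∈ G, (∀ t, t ∉ g.support → n t = t) → n * g * n⁻¹ ∈ zpowers g → n ∈ zpowers g) →
      ∀ n ∈ G, (∀ t, t ∉ g.support → n t = t) → n ∈ zpowers g) :
    ∃ n ∈ G, (∀ t, t ∉ g.support → n t = t) ∧ n * g * n⁻¹ ∈ zpowers g ∧ n ∉ zpowers g := by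
  by_contra hcon
  push Not at hcon
  have hfix : ∀ n ∈ G, (∀ t, t ∉ g.support → n t = t) → n ∈ zpowers g :=
    hT (fun n hn hf hnorm => hcon n hn hf hnorm)
  have hc2 : (g.supportᶜ).card = 2 := by rw [Finset.card_compl, hcard, hg11]
  obtain ⟨α, β, hαβ, hsupp⟩ := Finset.card_eq_two.mp hc2
  have hns : ∀ t, t ∉ g.support ↔ t = α ∨ t = β := by
    intro t
    rw [← Finset.mem_compl, hsupp]; simp
  have hgα : g α = α := Perm.notMem_support.mp ((hns α).mpr (Or.inl rfl))
  have hgβ : g β = β := Perm.notMem_support.mp ((hns β).mpr (Or.inr rfl))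
  have hord : orderOf g = 11 := by rw [hgc.orderOf, hg11]
  have hzc : Nat.card (zpowers g) = 11 := by rw [Nat.card_zpowers, hord]
  -- two-transitivity
  have h2 : IsMultiplyPretransitive G Ω 2 :=
    isMultiplyPretransitive_of_le (n := 3) (by norm_num)
      (by rw [Nat.card_eq_fintype_card, hcard]; norm_num)
  have h2' : ∀ {a b c d : Ω}, a ≠ b → c ≠ d → ∃ y : G, y • a = c ∧ y • b = d :=
    fun {a b c d} hab hcd => is_two_pretransitive_iff.mp h2 hab hcd
  -- the stabilizer of α in G
  let K : Subgroup (Perm Ω) := G ⊓ stabilizer (Perm Ω) α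
  have hKα : ∀ k ∈ K, k α = α := fun k hk => hk.2
  have hgK : g ∈ K := ⟨hg, hgα⟩
  have hzK : zpowers g ≤ K := (zpowers_le).mpr hgK
  have hzβ : ∀ k ∈ zpowers g, k β = β := by
    intro k hk
    obtain ⟨m, rfl⟩ := mem_zpowers_iff.mp hk
    exact Perm.zpow_apply_eq_self_of_apply_eq_self hgβ m
  have hKβ : ∀ k ∈ K, k β = β → k ∈ zpowers g := by
    intro k hk hkβ
    refine hfix k hk.1 ?_
    intro t ht
    rcases (hns t).mp ht with rfl | rfl
    · exact hKα k hk
    · exact hkβ
  let P : Subgroup K := (zpowers g).subgroupOf K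
  have hPcard : Nat.card P = 11 := by
    rw [← hzc]; exact Nat.card_congr (subgroupOfEquivOfLe hzK).toEquiv
  have hN : normalizer (P : Set K) ≤ P := by
    intro k hk
    rw [mem_normalizer_iff] at hk
    have h1 : (⟨g, hgK⟩ : K) ∈ P := by
      rw [mem_subgroupOf]; exact mem_zpowers g
    have h2 := (hk ⟨g, hgK⟩).mp h1
    rw [mem_subgroupOf] at h2
    have hx' : (k : Perm Ω) * g * (k : Perm Ω)⁻¹ ∈ zpowers g := by simpa using h2
    set x : Perm Ω := (k : Perm Ω) * g * (k : Perm Ω)⁻¹ with hx
    have hxord : orderOf x = 11 := by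
      rw [← hord]
      exact orderOf_injective (MulAut.conj (k : Perm Ω)).toMonoidHom
        (MulAut.conj (k : Perm Ω)).injective g
    have hzx : zpowers x = zpowers g := by
      apply Subgroup.eq_of_le_of_card_ge ((zpowers_le).mpr hx')
      rw [Nat.card_zpowers, Nat.card_zpowers, hxord, hord]
    have hgx : g ∈ zpowers x := by rw [hzx]; exact mem_zpowers g
    obtain ⟨m, hm⟩ := mem_zpowers_iff.mp hgx
    have hxkβ : x ((k : Perm Ω) β) = (k : Perm Ω) β := by
      simp [hx, Perm.mul_apply, hgβ]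
    have hgkβ : g ((k : Perm Ω) β) = (k : Perm Ω) β := by
      rw [← hm]; exact Perm.zpow_apply_eq_self_of_apply_eq_self hxkβ m
    have hkβ : (k : Perm Ω) β = β := by
      rcases (hns _).mp (Perm.notMem_support.mpr hgkβ) with h | h
      · exfalso
        have : (k : Perm Ω) β = (k : Perm Ω) α := by rw [h, hKα k k.2]
        exact hαβ ((k : Perm Ω).injective this).symm
      · exact h
    rw [mem_subgroupOf]
    exact hKβ k k.2 hkβ
  -- the order of K
  have horb : orbit K β = ({α}ᶜ : Set Ω) := by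
    ext c
    simp only [mem_orbit_iff, Set.mem_compl_iff, Set.mem_singleton_iff]
    constructor
    · rintro ⟨k, rfl⟩ h
      have h' : (k : Perm Ω) β = (k : Perm Ω) α := by
        rw [hKα k k.2]; exact h
      exact hαβ ((k : Perm Ω).injective h').symm
    · intro hc
      obtain ⟨y, hy1, hy2⟩ := h2' hαβ (Ne.symm hc : α ≠ c)
      exact ⟨⟨(y : Perm Ω), ⟨y.2, hy1⟩⟩, hy2⟩
  have hstab : stabilizer K β = P := by
    ext k
    rw [mem_stabilizer_iff, mem_subgroupOf]
    constructor
    · intro h; exact hKβ k k.2 h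
    · intro h; exact hzβ k h
  have hKcard : Nat.card K = 11 * (11 + 1) := by
    rw [Subgroup.card_eq_card_quotient_mul_card_subgroup (stabilizer K β),
      ← Nat.card_congr (orbitEquivQuotientStabilizer K β), hstab, hPcard, horb]
    have : Nat.card ({α}ᶜ : Set Ω) = 12 := by
      rw [Nat.card_coe_set_eq, Set.ncard_compl, Nat.card_eq_fintype_card, hcard]
      simp
    rw [this]
  exact hB K P hPcard hN hKcard

end Cfsg.Agent.Helper96.JPC
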