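import Mathlib
import Cfsg.Agent.Lib.Helper33.JPCB
import Cfsg.Agent.Lib.Helper42.JPCT13a1
import Cfsg.Agent.Lib.Helper96.JPCT13aCore

set_option autoImplicit false

/-!
# JPC (T13a) `exists_normalizer_elt` (helper96, for helper35's JPC server, S4150): VERBATIM statement.
Assembled from (B) `Helper33.JPC.no_sharp_frobenius`, (T13a1) `Helper42.JPC.fixer_eq_zpowers` and the core
`Helper96.JPC.exists_normalizer_elt_of`.
-/

namespace Cfsg.Agent.Helper96.JPC

open Equiv Equiv.Perm MulAction Subgroup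

universe u

theorem exists_normalizer_elt {Ω : Type u} [Fintype Ω] [DecidableEq Ω]
    (hcard : Fintype.card Ω = 13) (G : Subgroup (Perm Ω)) (hGalt : G ≤ alternatingGroup Ω)
    (h3 : IsMultiplyPretransitive G Ω 3) {g : Perm Ω} (hgc : g.IsCycle)
    (hg11 : g.support.card = 11) (hg : g ∈ G) :
    ∃ n ∈ G, (∀ t, t ∉ g.support → n t = t) ∧ n * g * n⁻¹ ∈ zpowers g ∧ n ∉ zpowers g :=
  exists_normalizer_elt_of
    (fun _ _ _ P hP hN hK =>
      Cfsg.Agent.Helper33.JPC.no_sharp_frobenius P (by norm_num) hP hN hK (by norm_num) (by norm_num))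
    hcard G h3 hgc hg11 hg
    (Cfsg.Agent.Helper42.JPC.fixer_eq_zpowers G (by norm_num) hgc hg11 hg)

end Cfsg.Agent.Helper96.JPC
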