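import Mathlib
import Cfsg.Prelude.Def_Blocks
import Cfsg.Agent.Lib.Helper78.CharSchur
import Cfsg.Agent.Lib.Helper78.CharCount

/-!
# M11CT server (helper49, S4429), piece (COL): `column_sums`
-/

set_option autoImplicit false

namespace Cfsg.Agent.Helper96.M11CT

open Cfsg
open scoped ComplexConjugate

universe u

/-- (COL) Column orthogonality at `x`. -/
theorem column_sums {G : Type u} [Group G] [Fintype G] [Fintype (IrrCharacter G)] (x : G) (hx1 : x ≠ 1) :
    (∑ χ : IrrCharacter G, (χ : G → ℂ) x * (χ : G → ℂ) x⁻¹ =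
        (Nat.card (Subgroup.centralizer ({x} : Set G)) : ℂ)) ∧
    (∑ χ : IrrCharacter G, (χ : G → ℂ) 1 * (χ : G → ℂ) x = 0) ∧
    (∑ χ : IrrCharacter G, (χ : G → ℂ) 1 * (χ : G → ℂ) x⁻¹ = 0) ∧
    (¬ IsConj x x⁻¹ → (∑ χ : IrrCharacter G, (χ : G → ℂ) x * (χ : G → ℂ) x = 0) ∧
        (∑ χ : IrrCharacter G, (χ : G → ℂ) x⁻¹ * (χ : G → ℂ) x⁻¹ = 0)) := by
  have hinst : ‹Fintype (IrrCharacter G)› = Cfsg.Agent.Helper78.irr_fintype :=
    Subsingleton.elim _ _
  subst hinst
  have hinv : ∀ (χ : IrrCharacter G) (g : G), (χ : G → ℂ) g⁻¹ = conj ((χ : G → ℂ) g) :=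
    fun χ g => Cfsg.Agent.Helper78.IsIrrCharacter.inv χ.2 g
  have hone : ∀ χ : IrrCharacter G, conj ((χ : G → ℂ) 1) = (χ : G → ℂ) 1 := by
    intro χ
    rw [(Cfsg.Agent.Helper78.irr_charDegree χ.2).1, Complex.conj_natCast]
  have hx1' : x⁻¹ ≠ 1 := by
    intro h
    exact hx1 (inv_eq_one.mp h)
  refine ⟨?_, ?_, ?_, ?_⟩
  · have h := Cfsg.Agent.Helper78.sum_irr_mul_conj x x
    rw [if_pos (IsConj.refl x)] at h
    rw [← h]
    apply Finset.sum_congr rfl
    intro χ _
    rw [hinv]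
  · have h := Cfsg.Agent.Helper78.sum_irr_mul_conj x (1 : G)
    rw [if_neg (by rw [isConj_one_left]; exact hx1)] at h
    rw [← h]
    apply Finset.sum_congr rfl
    intro χ _
    rw [hone, mul_comm]
  · have h := Cfsg.Agent.Helper78.sum_irr_mul_conj x⁻¹ (1 : G)
    rw [if_neg (by rw [isConj_one_left]; exact hx1')] at h
    rw [← h]
    apply Finset.sum_congr rfl
    intro χ _
    rw [hone, mul_comm]
  · intro hnc
    constructor
    · have h := Cfsg.Agent.Helper78.sum_irr_mul_conj x x⁻¹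
      rw [if_neg hnc] at h
      rw [← h]
      apply Finset.sum_congr rfl
      intro χ _
      rw [← hinv, inv_inv]
    · have h := Cfsg.Agent.Helper78.sum_irr_mul_conj x⁻¹ x
      rw [if_neg (fun hc => hnc hc.symm)] at h
      rw [← h]
      apply Finset.sum_congr rfl
      intro χ _
      rw [← hinv]

end Cfsg.Agent.Helper96.M11CT
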