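import Mathlib
import Cfsg.Prelude.Def_Blocks
import Cfsg.Agent.Lib.Helper81.CharDet

/-!
# M11CT server (helper49, S4429), piece (MN): `mult_nat`
-/

set_option autoImplicit false

namespace Cfsg.Agent.Helper96.M11CT

open Cfsg
open scoped ComplexConjugate

universe u

/-- (MN) Multiplicity of the linear character `x^k ↦ ζ^k` of `⟨x⟩` in `χ|⟨x⟩` is a natural number. -/
theorem mult_nat {G : Type u} [Group G] [Finite G] {χ : G → ℂ} (hχ : IsCharacter G χ) (x : G) (n : ℕ)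
    (hn : 0 < n) (hx : orderOf x = n) (ζ : ℂ) (hζ : ζ ^ n = 1) :
    ∃ m : ℕ, (n : ℂ) * (m : ℂ) = ∑ k ∈ Finset.range n, χ (x ^ k) * ζ ^ (n - k) := by
  classical
  subst hx
  have hζ0 : ζ ≠ 0 := by
    intro h
    rw [h, zero_pow hn.ne'] at hζ
    exact zero_ne_one hζ
  have key : ∀ k l : ℤ, x ^ k = x ^ l → ζ ^ k = ζ ^ l := by
    intro k l h
    have h1 : x ^ (k - l) = 1 := by rw [zpow_sub, h, mul_inv_cancel]
    have h2 : (orderOf x : ℤ) ∣ k - l := orderOf_dvd_iff_zpow_eq_one.mpr h1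
    obtain ⟨c, hc⟩ := h2
    have h3 : ζ ^ (k - l) = 1 := by rw [hc, zpow_mul, zpow_natCast, hζ, one_zpow]
    have h4 : ζ ^ k = ζ ^ (k - l) * ζ ^ l := by rw [← zpow_add₀ hζ0, sub_add_cancel]
    rw [h4, h3, one_mul]
  letI : Fintype (Subgroup.zpowers x) := Fintype.ofFinite _
  have hf : ∀ w : Subgroup.zpowers x, ∃ k : ℤ, x ^ k = (w : G) :=
    fun w => Subgroup.mem_zpowers_iff.mp w.2
  let f : Subgroup.zpowers x → ℤ := fun w => Classical.choose (hf w)
  have hfs : ∀ w : Subgroup.zpowers x, x ^ f w = (w : G) := fun w => Classical.choose_spec (hf w)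
  let μ : Subgroup.zpowers x →* ℂ :=
    { toFun := fun w => ζ ^ f w
      map_one' := by
        have h := key (f 1) 0 (by rw [hfs 1, zpow_zero]; rfl)
        rw [h, zpow_zero]
      map_mul' := by
        intro a b
        have h := key (f (a * b)) (f a + f b) (by rw [hfs, zpow_add, hfs, hfs]; rfl)
        change ζ ^ f (a * b) = ζ ^ f a * ζ ^ f b
        rw [h, zpow_add₀ hζ0] }
  have hμ : ∀ (k : ℕ) (h : x ^ k ∈ Subgroup.zpowers x), μ ⟨x ^ k, h⟩ = ζ ^ k := by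
    intro k h
    have h' := key (f ⟨x ^ k, h⟩) (k : ℤ) (by rw [hfs, zpow_natCast])
    change ζ ^ f ⟨x ^ k, h⟩ = ζ ^ k
    rw [h', zpow_natCast]
  obtain ⟨m, hm⟩ := Cfsg.Agent.Helper81.exists_nat_classInner
    (Cfsg.Agent.Helper81.isCharacter_restrict (Subgroup.zpowers x) hχ)
    (Cfsg.Agent.Helper81.isIrrCharacter_hom μ)
  refine ⟨m, ?_⟩
  have hcard : Nat.card (Subgroup.zpowers x) = orderOf x := Nat.card_zpowers x
  unfold classInner at hm
  rw [hcard] at hm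
  have hn0 : ((orderOf x : ℕ) : ℂ) ≠ 0 := Nat.cast_ne_zero.mpr hn.ne'
  have hsum : ∑ w : Subgroup.zpowers x, χ (w : G) * conj (μ w) = (orderOf x : ℂ) * m := by
    rw [← hm, ← mul_assoc, mul_inv_cancel₀ hn0, one_mul]
  rw [← hsum]
  -- conjugates of powers of ζ
  have hnorm : ‖ζ‖ = 1 := Complex.norm_eq_one_of_pow_eq_one hζ hn.ne'
  have hcz : conj ζ * ζ = 1 := by
    rw [mul_comm, Complex.mul_conj, Complex.normSq_eq_norm_sq, hnorm]
    simp
  have hconj : ∀ k : ℕ, k ≤ orderOf x → conj (ζ ^ k) = ζ ^ (orderOf x - k) := by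
    intro k hk
    apply mul_right_cancel₀ (pow_ne_zero k hζ0)
    rw [map_pow, ← mul_pow, hcz, one_pow, pow_sub_mul_pow ζ hk, hζ]
  -- reindex
  have hfo : IsOfFinOrder x := isOfFinOrder_of_finite x
  rw [← Fin.sum_univ_eq_sum_range (fun k => χ (x ^ k) * ζ ^ (orderOf x - k)) (orderOf x)]
  symm
  apply Fintype.sum_equiv (finEquivZPowers hfo)
  intro i
  have h1 : μ (finEquivZPowers hfo i) = ζ ^ (i : ℕ) := hμ (i : ℕ) (finEquivZPowers hfo i).2
  have h2 : ((finEquivZPowers hfo i : Subgroup.zpowers x) : G) = x ^ (i : ℕ) := rfl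
  show χ (x ^ (i : ℕ)) * ζ ^ (orderOf x - (i : ℕ)) =
    χ ((finEquivZPowers hfo i : Subgroup.zpowers x) : G) * conj (μ (finEquivZPowers hfo i))
  rw [h1, h2, hconj i i.2.le]

end Cfsg.Agent.Helper96.M11CT
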