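import Mathlib
import Cfsg.Prelude.Def_Blocks
import Cfsg.Agent.Lib.Helper78.CharSchur
import Cfsg.Agent.Lib.Helper78.CharCount
import Cfsg.Agent.Lib.Helper96.M11CTMN
import Cfsg.Agent.Lib.Helper96.M11CTCOL

/-!
# M11CT server (helper49, S4429), piece (CT5): `prime_class_int`
-/

set_option autoImplicit false

namespace Cfsg.Agent.Helper96.M11CT

open Cfsg
open scoped ComplexConjugate

universe u

/-- a rational algebraic integer is an integer -/
theorem h96_int_of_rat_integral (s : ℂ) (q : ℕ) (hq : q ≠ 0) (N : ℤ)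
    (h : (q : ℂ) * s = (N : ℂ)) (hint : IsIntegral ℤ s) :
    ∃ c : ℤ, s = (c : ℂ) ∧ (q : ℤ) * c = N := by
  have hq' : (q : ℂ) ≠ 0 := by exact_mod_cast hq
  have h1 : s = (((N : ℚ) / (q : ℚ) : ℚ) : ℂ) := by
    push_cast
    rw [eq_div_iff hq', mul_comm]
    exact h
  rw [h1] at hint
  have h2 : IsIntegral ℤ ((N : ℚ) / (q : ℚ) : ℚ) :=
    (isIntegral_algebraMap_iff (algebraMap ℚ ℂ).injective).1 hint
  obtain ⟨k, hk⟩ := IsIntegrallyClosed.isIntegral_iff.1 h2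
  have hk' : ((k : ℤ) : ℚ) = (N : ℚ) / (q : ℚ) := hk
  have hq'' : (q : ℚ) ≠ 0 := by exact_mod_cast hq
  have h3 : (q : ℚ) * (k : ℚ) = (N : ℚ) := by
    rw [hk']
    field_simp
  refine ⟨k, ?_, by exact_mod_cast h3⟩
  rw [h1, ← hk']
  push_cast
  rfl

/-- value of an irreducible character at an element of prime order conjugate to all its
non-trivial powers -/
theorem h96_prime_value {G : Type u} [Group G] [Fintype G] (p : ℕ) (hp : p.Prime)
    (x : G) (hx : orderOf x = p)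
    (hconj : ∀ k : ℕ, 0 < k → k < p → IsConj x (x ^ k)) {χ : G → ℂ} (hχ : IsIrrCharacter G χ) :
    ∃ c : ℤ, χ x = (c : ℂ) ∧ (p : ℤ) ∣ (charDegree χ : ℤ) - c := by
  have hch : IsCharacter G χ := Cfsg.Agent.Helper78.IsIrrCharacter.isCharacter hχ
  have hcl : IsClassFunction G χ := Cfsg.Agent.Helper78.IsCharacter.isClassFunction hch
  have hpow : ∀ k, 0 < k → k < p → χ (x ^ k) = χ x := by
    intro k h0 hk
    obtain ⟨g, hg⟩ := isConj_iff.mp (hconj k h0 hk)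
    rw [← hg]
    exact hcl x g
  obtain ⟨m, hm⟩ := mult_nat hch x p hp.pos hx 1 (one_pow p)
  obtain ⟨q, rfl⟩ : ∃ q, p = q + 1 := ⟨p - 1, (Nat.succ_pred_eq_of_pos hp.pos).symm⟩
  have hq0 : q ≠ 0 := by
    rintro rfl
    exact Nat.not_prime_one hp
  have hd : χ 1 = (charDegree χ : ℂ) := (Cfsg.Agent.Helper78.irr_charDegree hχ).1
  have hsum : ∑ k ∈ Finset.range (q + 1), χ (x ^ k) * (1 : ℂ) ^ (q + 1 - k) =
      (q : ℂ) * χ x + (charDegree χ : ℂ) := by
    rw [Finset.sum_range_succ']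
    have h1 : ∀ k ∈ Finset.range q, χ (x ^ (k + 1)) * (1 : ℂ) ^ (q + 1 - (k + 1)) = χ x := by
      intro k hk
      rw [one_pow, mul_one]
      exact hpow (k + 1) (Nat.succ_pos k) (Nat.succ_lt_succ (Finset.mem_range.mp hk))
    rw [Finset.sum_congr rfl h1, Finset.sum_const, Finset.card_range, nsmul_eq_mul, pow_zero,
      one_pow, mul_one, hd]
  rw [hsum] at hm
  have h2 : (q : ℂ) * χ x = (((q + 1 : ℕ) : ℤ) * (m : ℤ) - (charDegree χ : ℤ) : ℤ) := by
    push_cast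
    push_cast at hm
    rw [hm]
    ring
  obtain ⟨c, hc, hqc⟩ := h96_int_of_rat_integral (χ x) q hq0 _ h2
    (Cfsg.Agent.Helper78.IsIrrCharacter.isIntegral hχ x)
  refine ⟨c, hc, ⟨(m : ℤ) - c, ?_⟩⟩
  push_cast at hqc ⊢
  linarith

/-- (CT5) -/
theorem prime_class_int {G : Type u} [Group G] [Fintype G] [Fintype (IrrCharacter G)] (p : ℕ) (hp : p.Prime)
    (x : G) (hx : orderOf x = p) (hC : Nat.card (Subgroup.centralizer ({x} : Set G)) = p)
    (hconj : ∀ k : ℕ, 0 < k → k < p → IsConj x (x ^ k)) :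
    ∃ c : IrrCharacter G → ℤ,
      (∀ χ : IrrCharacter G, (p : ℤ) ∣ (charDegree (χ : G → ℂ) : ℤ) - c χ) ∧
      ∑ χ : IrrCharacter G, c χ ^ 2 = (p : ℤ) ∧ ∑ χ : IrrCharacter G, (charDegree (χ : G → ℂ) : ℤ) * c χ = 0 := by
  have hval : ∀ χ : IrrCharacter G, ∃ c : ℤ, (χ : G → ℂ) x = (c : ℂ) ∧
      (p : ℤ) ∣ (charDegree (χ : G → ℂ) : ℤ) - c :=
    fun χ => h96_prime_value p hp x hx hconj χ.2
  choose c hc hdvd using hval
  have hx1 : x ≠ 1 := by
    rintro rfl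
    rw [orderOf_one] at hx
    exact Nat.not_prime_one (hx ▸ hp)
  obtain ⟨hcol1, hcol2, _, _⟩ := column_sums (G := G) x hx1
  -- `x⁻¹` is conjugate to `x`
  have hinvconj : IsConj x x⁻¹ := by
    have h1 : x⁻¹ = x ^ (p - 1) := by
      rw [eq_comm, ← mul_eq_one_iff_eq_inv, ← pow_succ, Nat.sub_add_cancel hp.pos, ← hx,
        pow_orderOf_eq_one]
    rw [h1]
    exact hconj (p - 1) (Nat.sub_pos_of_lt hp.one_lt) (Nat.sub_lt hp.pos Nat.one_pos)
  have hinvval : ∀ χ : IrrCharacter G, (χ : G → ℂ) x⁻¹ = (χ : G → ℂ) x := by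
    intro χ
    obtain ⟨g, hg⟩ := isConj_iff.mp hinvconj
    rw [← hg]
    exact Cfsg.Agent.Helper78.IsCharacter.isClassFunction
      (Cfsg.Agent.Helper78.IsIrrCharacter.isCharacter χ.2) x g
  refine ⟨c, hdvd, ?_, ?_⟩
  · have h1 : ((∑ χ : IrrCharacter G, c χ ^ 2 : ℤ) : ℂ) = ((p : ℤ) : ℂ) := by
      push_cast
      rw [← hC, ← hcol1]
      apply Finset.sum_congr rfl
      intro χ _
      rw [hinvval, hc, sq]
    exact_mod_cast h1
  · have h1 : ((∑ χ : IrrCharacter G, (charDegree (χ : G → ℂ) : ℤ) * c χ : ℤ) : ℂ) = ((0 : ℤ) : ℂ) := by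
      push_cast
      rw [← hcol2]
      apply Finset.sum_congr rfl
      intro χ _
      rw [hc, (Cfsg.Agent.Helper78.irr_charDegree χ.2).1]
    exact_mod_cast h1

end Cfsg.Agent.Helper96.M11CT
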