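import Mathlib
import Cfsg.Agent.Lib.Helper98.RT0
import Cfsg.Agent.Lib.Helper82.RUA

/-!
# RT server (helper98, S2278), piece (K3) `t_z_mem`  (helper96)
`s = z t = t z`, `z^(q-1) = 1`, `t^q = 1`, so `s^(q-1) = t⁻¹`, `z = s t⁻¹`.
-/

set_option autoImplicit false

namespace Cfsg.Agent.Helper96.RT

open Matrix Cfsg.Agent.Helper93.RU Cfsg.Agent.Helper98.RT

variable {F : Type*} [Field F]

theorem h96_sEl_val (ζ ρ : F) (hζ : ζ ≠ 0) : (sEl ζ ρ).1 = Smat ζ ρ := by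
  have hd : (Smat ζ ρ).det = 1 := by
    rw [Smat, Matrix.det_fin_three]
    simp
    field_simp
  simp [sEl, hd]

theorem h96_zEl_val (ζ : F) (hζ : ζ ≠ 0) : (zEl ζ).1 = Zmat ζ := by
  have hd : (Zmat ζ).det = 1 := by
    rw [Zmat, Matrix.det_fin_three]
    simp
    field_simp
  simp [zEl, hd]

theorem h96_dot (κ : F) : (κ • eV 0 : Fin (0 + 3) → F) ⬝ᵥ (eV 1) = 0 := by
  unfold eV
  rw [smul_dotProduct, single_dotProduct, one_mul, Pi.single_eq_of_ne (by decide), smul_zero]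

theorem h96_t_val (κ : F) : (tvS (eV 1) (κ • eV 0) : G3 F).1 = tvM (eV 1) (κ • eV 0) :=
  Cfsg.Agent.Helper82.RU.tvS_val _ _ (h96_dot κ)

theorem h96_s_eq (ζ ρ : F) (hζ : ζ ≠ 0) :
    sEl ζ ρ = zEl ζ * tvS (eV 1) ((ρ / ζ) • eV 0) := by
  apply Subtype.ext
  rw [Matrix.SpecialLinearGroup.coe_mul, h96_sEl_val ζ ρ hζ, h96_zEl_val ζ hζ, h96_t_val]
  ext i j
  fin_cases i <;> fin_cases j <;>
    simp [Smat, Zmat, tvM, eV, Matrix.mul_apply, Fin.sum_univ_three, Matrix.vecMulVec_apply]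
  field_simp

theorem h96_comm (ζ ρ : F) (hζ : ζ ≠ 0) :
    zEl ζ * tvS (eV 1) ((ρ / ζ) • eV 0) = tvS (eV 1) ((ρ / ζ) • eV 0) * zEl ζ := by
  apply Subtype.ext
  rw [Matrix.SpecialLinearGroup.coe_mul, Matrix.SpecialLinearGroup.coe_mul, h96_zEl_val ζ hζ, h96_t_val]
  ext i j
  fin_cases i <;> fin_cases j <;>
    simp [Zmat, tvM, eV, Matrix.mul_apply, Fin.sum_univ_three, Matrix.vecMulVec_apply]
  ring

theorem h96_z_pow [Fintype F] (ζ : F) (hζ : ζ ≠ 0) : zEl ζ ^ (Fintype.card F - 1) = 1 := by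
  apply Subtype.ext
  rw [Matrix.SpecialLinearGroup.coe_pow, h96_zEl_val ζ hζ, Matrix.SpecialLinearGroup.coe_one]
  have hZ : Zmat ζ = Matrix.diagonal ![ζ, ζ, (ζ ^ 2)⁻¹] := by
    ext i j
    fin_cases i <;> fin_cases j <;> simp [Zmat, Matrix.diagonal]
  rw [hZ, Matrix.diagonal_pow, ← Matrix.diagonal_one]
  congr 1
  funext i
  fin_cases i
  · exact FiniteField.pow_card_sub_one_eq_one ζ hζ
  · exact FiniteField.pow_card_sub_one_eq_one ζ hζ
  · exact FiniteField.pow_card_sub_one_eq_one _ (inv_ne_zero (pow_ne_zero 2 hζ))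

theorem h96_t_pow (κ : F) (k : ℕ) :
    (tvS (eV 1) (κ • eV 0) : G3 F) ^ k = tvS (eV 1) (((k : F) * κ) • eV 0) := by
  induction k with
  | zero =>
    rw [pow_zero, Nat.cast_zero, zero_mul, zero_smul, Cfsg.Agent.Helper82.RU.tvS_zero]
  | succ k ih =>
    rw [pow_succ, ih, Cfsg.Agent.Helper82.RU.tvS_mul _ _ _ (h96_dot _) (h96_dot _), ← add_smul]
    congr 2
    push_cast
    ring

/-- (K3) -/
theorem t_z_mem [Fintype F] (H : Subgroup (G3 F)) (ζ ρ : F) (hζ : ζ ≠ 0) (hs : sEl ζ ρ ∈ H) :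
    tvS (eV 1) ((ρ / ζ) • eV 0) ∈ H ∧ zEl ζ ∈ H := by
  set t : G3 F := tvS (eV 1) ((ρ / ζ) • eV 0) with ht
  set z : G3 F := zEl ζ with hz
  have hst : sEl ζ ρ = z * t := h96_s_eq ζ ρ hζ
  have hcomm : Commute z t := h96_comm ζ ρ hζ
  have hq : 0 < Fintype.card F := Fintype.card_pos
  have htq : t ^ Fintype.card F = 1 := by
    rw [ht, h96_t_pow, FiniteField.cast_card_eq_zero, zero_mul, zero_smul,
      Cfsg.Agent.Helper82.RU.tvS_zero]
  have hspow : sEl ζ ρ ^ (Fintype.card F - 1) = t⁻¹ := by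
    rw [hst, hcomm.mul_pow, h96_z_pow ζ hζ, one_mul]
    apply eq_inv_of_mul_eq_one_left
    rw [← pow_succ, Nat.sub_add_cancel hq, htq]
  have htinv : t⁻¹ ∈ H := hspow ▸ H.pow_mem hs _
  have htH : t ∈ H := by simpa using H.inv_mem htinv
  refine ⟨htH, ?_⟩
  have h1 : z = sEl ζ ρ * t⁻¹ := by
    rw [hst]
    group
  rw [h1]
  exact H.mul_mem hs htinv

end Cfsg.Agent.Helper96.RT
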