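import Mathlib
import Cfsg.Agent.Lib.Helper93.RU0

/-!
# RU (B5) for helper93's server (S2280): the upper Jordan block `u = 1 + N` is conjugate in `SL` to a
lower Jordan block `l = 1 + L_ε`, `ε = ±1`.  Also exported: `h96_uEl_val`, `h96_lEl_val` (= pieces B1, B2).
-/

set_option autoImplicit false

namespace Cfsg.Agent.Helper96.RU

open Matrix Cfsg.Agent.Helper93.RU

variable {F : Type*} [Field F] {m : ℕ}

/-- `det (1 + N) = 1`. -/
theorem h96_det_one_add_Nmat : (1 + Nmat m F).det = 1 := by
  have hT : (1 + Nmat m F).BlockTriangular id := by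
    intro i j hij
    simp only [id] at hij
    have h1 : ¬ (i.val + 1 = j.val) := by
      have := Fin.lt_def.mp hij; omega
    have hne : i ≠ j := ne_of_gt hij
    simp [Nmat, Matrix.add_apply, Matrix.one_apply, hne, h1]
  rw [Matrix.det_of_upperTriangular hT]
  apply Finset.prod_eq_one
  intro i _
  simp [Nmat, Matrix.add_apply]

/-- `det (1 + L_ε) = 1`. -/
theorem h96_det_one_add_Lmat (ε : F) : (1 + Lmat (m := m) ε).det = 1 := by
  have hT : (1 + Lmat (m := m) ε).BlockTriangular OrderDual.toDual := by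
    intro i j hij
    have hij' : i < j := hij
    have h1 : ¬ (j.val + 1 = i.val) := by
      have := Fin.lt_def.mp hij'; omega
    have hne : i ≠ j := ne_of_lt hij'
    simp [Lmat, Matrix.add_apply, Matrix.one_apply, hne, h1]
  rw [Matrix.det_of_lowerTriangular _ hT]
  apply Finset.prod_eq_one
  intro i _
  simp [Lmat, Matrix.add_apply]

/-- (= piece B1) -/
theorem h96_uEl_val : (uEl m F).1 = 1 + Nmat m F := by
  have h : uEl m F = ⟨1 + Nmat m F, h96_det_one_add_Nmat⟩ := dif_pos h96_det_one_add_Nmat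
  rw [h]

/-- (= piece B2) -/
theorem h96_lEl_val (ε : F) : (lEl (m := m) ε).1 = 1 + Lmat ε := by
  have h : lEl (m := m) ε = ⟨1 + Lmat ε, h96_det_one_add_Lmat ε⟩ := dif_pos (h96_det_one_add_Lmat ε)
  rw [h]

/-- the key matrix identity `(D P)(1 + N) = (1 + L_s)(D P)`. -/
theorem h96_hmat (s : F) (hs : s * s = 1) :
    (Matrix.diagonal (fun i : Fin (m + 3) => if i.val = 0 then s else 1) *
        (Equiv.Perm.permMatrix F (Fin.revPerm : Equiv.Perm (Fin (m + 3))))) * (1 + Nmat m F)
      = (1 + Lmat (m := m) s) *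
        (Matrix.diagonal (fun i : Fin (m + 3) => if i.val = 0 then s else 1) *
          (Equiv.Perm.permMatrix F (Fin.revPerm : Equiv.Perm (Fin (m + 3))))) := by
  ext i j
  rw [Matrix.mul_assoc, Matrix.diagonal_mul, ← Matrix.mul_assoc (1 + Lmat s)]
  rw [PEquiv.toMatrix_toPEquiv_mul, PEquiv.mul_toMatrix_toPEquiv]
  simp only [Matrix.submatrix_apply, id, Matrix.mul_diagonal, Fin.revPerm_symm, Fin.revPerm_apply,
    Matrix.add_apply, Matrix.one_apply, Nmat, Lmat, Matrix.of_apply, Fin.ext_iff, Fin.val_rev]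
  have hi := i.isLt
  have hj := j.isLt
  by_cases h1 : m + 3 - (i.val + 1) = j.val
  · have h1' : i.val = m + 3 - (j.val + 1) := by omega
    have h2 : ¬ (m + 3 - (i.val + 1) + 1 = j.val) := by omega
    have h3 : ¬ (m + 3 - (j.val + 1) + 1 = i.val) := by omega
    rw [if_pos h1, if_neg h2, if_pos h1', if_neg h3]
    have : (m + 3 - (j.val + 1) = 0) ↔ (i.val = 0) := by omega
    simp only [this]
    ring
  · have h1' : ¬ (i.val = m + 3 - (j.val + 1)) := by omega
    rw [if_neg h1, if_neg h1']
    by_cases h2 : m + 3 - (i.val + 1) + 1 = j.val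
    · have h3 : m + 3 - (j.val + 1) + 1 = i.val := by omega
      rw [if_pos h2, if_pos h3]
      have hi0 : ¬ (i.val = 0) := by omega
      rw [if_neg hi0]
      by_cases h4 : m + 3 - (j.val + 1) = 0
      · simp only [h4, if_true]
        rw [zero_add, zero_add, one_mul, hs]
      · simp only [h4, if_false]
        ring
    · have h3 : ¬ (m + 3 - (j.val + 1) + 1 = i.val) := by omega
      rw [if_neg h2, if_neg h3]
      ring

/-- (B5) -/
theorem exists_conj_lower :
    ∃ ε : F, (ε = 1 ∨ ε = -1) ∧ ∃ h : SLm m F, h * uEl m F * h⁻¹ = lEl ε := by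
  set sg : ℤˣ := Equiv.Perm.sign (Fin.revPerm : Equiv.Perm (Fin (m + 3))) with hsg
  set s : F := ((sg : ℤ) : F) with hsdef
  have hs1 : s = 1 ∨ s = -1 := by
    rcases Int.units_eq_one_or sg with h | h
    · left; rw [hsdef, h]; simp
    · right; rw [hsdef, h]; simp
  have hss : s * s = 1 := by
    rcases hs1 with h | h <;> rw [h] <;> ring
  refine ⟨s, hs1, ?_⟩
  set D : Matrix (Fin (m + 3)) (Fin (m + 3)) F :=
    Matrix.diagonal (fun i : Fin (m + 3) => if i.val = 0 then s else 1) with hD
  set P : Matrix (Fin (m + 3)) (Fin (m + 3)) F :=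
    Equiv.Perm.permMatrix F (Fin.revPerm : Equiv.Perm (Fin (m + 3))) with hP
  have hdetP : P.det = s := by
    rw [hP, Matrix.det_permutation]
  have hdetD : D.det = s := by
    rw [hD, Matrix.det_diagonal]
    rw [Finset.prod_eq_single (0 : Fin (m + 3))]
    · simp
    · intro b _ hb
      have : ¬ (b.val = 0) := fun h => hb (Fin.ext h)
      rw [if_neg this]
    · intro h; exact absurd (Finset.mem_univ _) h
  have hdet : (D * P).det = 1 := by
    rw [Matrix.det_mul, hdetP, hdetD, hss]
  let h : SLm m F := ⟨D * P, hdet⟩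
  refine ⟨h, ?_⟩
  have key : h * uEl m F = lEl s * h := by
    apply Subtype.ext
    rw [Matrix.SpecialLinearGroup.coe_mul, Matrix.SpecialLinearGroup.coe_mul, h96_uEl_val,
      h96_lEl_val]
    exact h96_hmat s hss
  rw [key, mul_inv_cancel_right]

end Cfsg.Agent.Helper96.RU
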