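import Mathlib
import Cfsg.Prelude.Def_LieRecognition
import Cfsg.Agent.Lib.Helper19.RankOneCent
import Cfsg.Agent.Lib.Helper96.RankOneNil

set_option autoImplicit false

namespace Cfsg.Agent.Helper96

open MulAction Cfsg.Agent.Helper19

/-- the number of elements of a finite group of even order with `c⁻¹ = c` is even. -/
theorem even_card_inv_eq {C : Type*} [Group C] [Fintype C] [DecidableEq C]
    (h : Even (Fintype.card C)) : Even (Finset.univ.filter (fun c : C => c⁻¹ = c)).card := by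
  have : Fact (Nat.Prime 2) := ⟨Nat.prime_two⟩
  have h1 := Equiv.Perm.card_compl_support_modEq (α := C) (σ := Equiv.inv C) (p := 2) (n := 1) (by
    ext c
    simp [pow_succ])
  have h2 : (Finset.univ.filter (fun c : C => c⁻¹ = c)).card ≡ Fintype.card C [MOD 2] := by
    convert h1 using 2
    ext c
    simp [Equiv.Perm.mem_support]
  rw [Nat.even_iff] at h ⊢
  rw [← h]
  exact h2

/-- An involution `u` normalising a subgroup `C` of even order commutes with some involution
of `C`. -/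
theorem exists_invol_comm {G : Type*} [Group G] [Finite G] (C : Subgroup G) (u : G)
    (hu : u * u = 1) (hnorm : ∀ c ∈ C, u * c * u⁻¹ ∈ C) (heven : Even (Nat.card C)) :
    ∃ z ∈ C, z ≠ 1 ∧ z * z = 1 ∧ u * z = z * u := by
  classical
  have := Fintype.ofFinite G
  have huinv : u⁻¹ = u := inv_eq_of_mul_eq_one_left hu
  -- the type of solutions of `c⁻¹ = c` in `C`
  obtain ⟨A, hA⟩ : ∃ A : Finset C, A = Finset.univ.filter (fun c : C => c⁻¹ = c) := ⟨_, rfl⟩
  have hAeven : Even A.card := by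
    rw [hA]
    apply even_card_inv_eq
    rw [← Nat.card_eq_fintype_card]; exact heven
  have hmemA : ∀ c : C, c ∈ A ↔ c⁻¹ = c := by
    intro c; rw [hA]; simp
  -- conjugation by `u` as a permutation of `A`
  have hconjA : ∀ c : C, c ∈ A → (⟨u * c * u⁻¹, hnorm c c.2⟩ : C) ∈ A := by
    intro c hc
    rw [hmemA] at hc ⊢
    apply Subtype.ext
    have hc' : (c : G)⁻¹ = c := congrArg Subtype.val hc
    simp only [Subgroup.coe_inv]
    rw [mul_inv_rev, mul_inv_rev, inv_inv, hc', mul_assoc]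
  let σ : Equiv.Perm A :=
    { toFun := fun c => ⟨⟨u * (c : C) * u⁻¹, hnorm _ (c : C).2⟩, hconjA c c.2⟩
      invFun := fun c => ⟨⟨u * (c : C) * u⁻¹, hnorm _ (c : C).2⟩, hconjA c c.2⟩
      left_inv := by
        intro c
        apply Subtype.ext; apply Subtype.ext
        simp only
        rw [huinv]
        calc u * (u * ((c : C) : G) * u) * u = (u * u) * ((c : C) : G) * (u * u) := by group
          _ = ((c : C) : G) := by rw [hu, one_mul, mul_one]
      right_inv := by
        intro c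
        apply Subtype.ext; apply Subtype.ext
        simp only
        rw [huinv]
        calc u * (u * ((c : C) : G) * u) * u = (u * u) * ((c : C) : G) * (u * u) := by group
          _ = ((c : C) : G) := by rw [hu, one_mul, mul_one] }
  have hσ2 : σ ^ 2 ^ 1 = 1 := by
    ext c
    simp only [pow_one, sq, Equiv.Perm.mul_apply, Equiv.Perm.one_apply]
    show u * (u * ((c : C) : G) * u⁻¹) * u⁻¹ = ((c : C) : G)
    rw [huinv]
    calc u * (u * ((c : C) : G) * u) * u = (u * u) * ((c : C) : G) * (u * u) := by group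
      _ = ((c : C) : G) := by rw [hu, one_mul, mul_one]
  have : Fact (Nat.Prime 2) := ⟨Nat.prime_two⟩
  have h1 := Equiv.Perm.card_compl_support_modEq (α := A) (σ := σ) (p := 2) (n := 1) hσ2
  rw [Fintype.card_coe] at h1
  have h2 : Even (σ.supportᶜ.card) := by
    rw [Nat.even_iff] at hAeven ⊢
    rw [← hAeven]; exact h1
  -- the identity is a fixed point
  have hone : (1 : C) ∈ A := by rw [hmemA]; simp
  have h1mem : (⟨1, hone⟩ : A) ∈ σ.supportᶜ := by
    rw [Finset.mem_compl, Equiv.Perm.notMem_support]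
    apply Subtype.ext; apply Subtype.ext
    show u * ((1 : C) : G) * u⁻¹ = ((1 : C) : G)
    simp
  have h3 : 1 < σ.supportᶜ.card := by
    have hpos : 0 < σ.supportᶜ.card := Finset.card_pos.2 ⟨_, h1mem⟩
    rcases h2 with ⟨r, hr⟩
    omega
  obtain ⟨z, hz, hz1⟩ := Finset.exists_mem_ne h3 (⟨1, hone⟩ : A)
  rw [Finset.mem_compl, Equiv.Perm.notMem_support] at hz
  have hzfix : u * ((z : C) : G) * u⁻¹ = ((z : C) : G) := by
    have := congrArg (fun w : A => (((w : C)) : G)) hz
    exact this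
  have hzinv : ((z : C) : G)⁻¹ = ((z : C) : G) := by
    have := (hmemA (z : C)).1 z.2
    exact congrArg Subtype.val this
  refine ⟨((z : C) : G), (z : C).2, ?_, ?_, ?_⟩
  · intro h
    apply hz1
    apply Subtype.ext; apply Subtype.ext
    exact h
  · calc ((z : C) : G) * ((z : C) : G) = ((z : C) : G)⁻¹ * ((z : C) : G) := by rw [hzinv]
      _ = 1 := inv_mul_cancel _
  · calc u * ((z : C) : G) = (u * ((z : C) : G) * u⁻¹) * u := by group
      _ = ((z : C) : G) * u := by rw [hzfix]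

variable {G Ω : Type*} [Group G] [MulAction G Ω] {a : Ω} {t : G} {Q : Subgroup G}

/-- two involutions whose product does not square to one have distinct fixed points. -/
theorem fix_ne_of_sq_ne [Finite G] (hS : Cfsg.IsRankOneSetup G Ω a t Q)
    (hcen : ∀ s ∈ Cfsg.involutionsIn (stabilizer G a : Set G), s ∈ Q ∧ ∀ x ∈ Q, s * x = x * s)
    {u v : G} (hu1 : u ≠ 1) (hu2 : u * u = 1) (hv1 : v ≠ 1) (hv2 : v * v = 1)
    (hx : (u * v) * (u * v) ≠ 1) {c d : Ω} (hc : u • c = c) (hd : v • d = d) : c ≠ d := by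
  rintro rfl
  have := isPretransitive hS
  obtain ⟨g, hg⟩ := MulAction.exists_smul_eq G c a
  have key : ∀ w : G, w ≠ 1 → w * w = 1 → w • c = c →
      g * w * g⁻¹ ∈ Cfsg.involutionsIn (stabilizer G a : Set G) := by
    intro w hw1 hw2 hwc
    refine ⟨?_, ?_, ?_⟩
    · show (g * w * g⁻¹) • a = a
      rw [← hg, mul_smul, mul_smul, inv_smul_smul, hwc]
    · intro h
      apply hw1
      have : w = g⁻¹ * (g * w * g⁻¹) * g := by group
      rw [this, h]; group
    · have : (g * w * g⁻¹) * (g * w * g⁻¹) = g * (w * w) * g⁻¹ := by group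
      rw [this, hw2]; group
  have hU := key u hu1 hu2 hc
  have hV := key v hv1 hv2 hd
  have hcomm := (hcen _ hU).2 _ (hcen _ hV).1
  apply hx
  have e1 : u * v = g⁻¹ * ((g * u * g⁻¹) * (g * v * g⁻¹)) * g := by group
  have e2 : v * u = g⁻¹ * ((g * v * g⁻¹) * (g * u * g⁻¹)) * g := by group
  have e3 : u * v = v * u := by rw [e1, e2, hcomm]
  calc u * v * (u * v) = u * (v * u) * v := by group
    _ = u * (u * v) * v := by rw [e3]
    _ = (u * u) * (v * v) := by group
    _ = 1 := by rw [hu2, hv2, one_mul]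

/-- The product of two involutions with `(uv)² ≠ 1` is conjugate to `u' t`. -/
theorem prod_conj [Finite G] (hS : Cfsg.IsRankOneSetup G Ω a t Q)
    (hcen : ∀ s ∈ Cfsg.involutionsIn (stabilizer G a : Set G), s ∈ Q ∧ ∀ x ∈ Q, s * x = x * s)
    {u v : G} (hu1 : u ≠ 1) (hu2 : u * u = 1) (hv1 : v ≠ 1) (hv2 : v * v = 1)
    (hx : (u * v) * (u * v) ≠ 1) :
    ∃ g : G, ∃ u' ∈ Cfsg.involutionsIn (stabilizer G a : Set G), g * (u * v) * g⁻¹ = u' * t := by
  have ht2 := hS.mul_self
  have htinv : t⁻¹ = t := inv_eq_self_of_mul_self ht2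
  obtain ⟨c, hc⟩ := invol_exists_fix hS hu2
  obtain ⟨d, hd⟩ := invol_exists_fix hS hv2
  have hcd := fix_ne_of_sq_ne hS hcen hu1 hu2 hv1 hv2 hx hc hd
  obtain ⟨g, hgc, hgd⟩ := two_trans hS hcd (Ne.symm (ta_ne hS))
  -- u₁ = g u g⁻¹ ∈ I, v₁ = g v g⁻¹ fixes t • a
  have hU : g * u * g⁻¹ ∈ Cfsg.involutionsIn (stabilizer G a : Set G) := by
    refine ⟨?_, ?_, ?_⟩
    · show (g * u * g⁻¹) • a = a
      rw [← hgc, mul_smul, mul_smul, inv_smul_smul, hc]
    · intro h
      apply hu1
      have : u = g⁻¹ * (g * u * g⁻¹) * g := by group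
      rw [this, h]; group
    · have : (g * u * g⁻¹) * (g * u * g⁻¹) = g * (u * u) * g⁻¹ := by group
      rw [this, hu2]; group
  have hV : t * (g * v * g⁻¹) * t ∈ Cfsg.involutionsIn (stabilizer G a : Set G) := by
    refine ⟨?_, ?_, ?_⟩
    · show (t * (g * v * g⁻¹) * t) • a = a
      rw [mul_smul, mul_smul, mul_smul, mul_smul, ← hgd, inv_smul_smul, hd, hgd, t_smul_ta hS]
    · intro h
      apply hv1
      have e : v = g⁻¹ * (t * (t * (g * v * g⁻¹) * t) * t) * g := by
        have : t * (t * (g * v * g⁻¹) * t) * t = (t * t) * (g * v * g⁻¹) * (t * t) := by group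
        rw [this, ht2]; group
      rw [e, h, mul_one, ht2]; group
    · have : (t * (g * v * g⁻¹) * t) * (t * (g * v * g⁻¹) * t) =
          t * (g * v * g⁻¹) * (t * t) * (g * v * g⁻¹) * t := by group
      rw [this, ht2, mul_one]
      have : t * (g * v * g⁻¹) * (g * v * g⁻¹) * t = t * (g * (v * v) * g⁻¹) * t := by group
      rw [this, hv2]
      have : t * (g * 1 * g⁻¹) * t = t * t := by group
      rw [this, ht2]
  obtain ⟨s, r, hs, hr, hsr⟩ := pair_exists hS
  obtain ⟨k, hk, hks⟩ := inverted_trans hS hs hV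
  -- v₁ = k r⁻¹ t r k⁻¹
  have hkt : t * k⁻¹ = k * t := by
    have h1 : t * k * t⁻¹ = k⁻¹ := hk.2
    rw [htinv] at h1
    have h2 : t * k⁻¹ * t = k := by
      have : t * k⁻¹ * t = (t * k * t)⁻¹ := by
        rw [mul_inv_rev, mul_inv_rev, htinv, mul_assoc]
      rw [this, h1, inv_inv]
    calc t * k⁻¹ = (t * k⁻¹ * t) * t := by
          rw [mul_assoc (t * k⁻¹), ht2, mul_one]
      _ = k * t := by rw [h2]
  have hkt' : k * t = t * k⁻¹ := hkt.symm
  have hv1' : g * v * g⁻¹ = k * r⁻¹ * t * r * k⁻¹ := by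
    have e1 : g * v * g⁻¹ = t * (t * (g * v * g⁻¹) * t) * t := by
      have : t * (t * (g * v * g⁻¹) * t) * t = (t * t) * (g * v * g⁻¹) * (t * t) := by group
      rw [this, ht2]; group
    rw [e1, ← hks]
    calc t * (k⁻¹ * s * k) * t = (t * k⁻¹) * s * (k * t) := by group
      _ = (k * t) * s * (t * k⁻¹) := by rw [hkt, hkt']
      _ = k * (t * s * t) * k⁻¹ := by group
      _ = k * (r⁻¹ * t * r) * k⁻¹ := by rw [hsr]
      _ = k * r⁻¹ * t * r * k⁻¹ := by group
  have hh : r * k⁻¹ ∈ stabilizer G a := mul_mem (hS.le hr) (inv_mem hk.1.1)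
  refine ⟨r * k⁻¹ * g, (r * k⁻¹) * (g * u * g⁻¹) * (r * k⁻¹)⁻¹, ?_, ?_⟩
  · obtain ⟨hUa, hU1, hU2⟩ := hU
    refine ⟨?_, ?_, ?_⟩
    · exact mul_mem (mul_mem hh hUa) (inv_mem hh)
    · intro h
      apply hU1
      have : g * u * g⁻¹ = (r * k⁻¹)⁻¹ * ((r * k⁻¹) * (g * u * g⁻¹) * (r * k⁻¹)⁻¹) * (r * k⁻¹) := by
        group
      rw [this, h]; group
    · have : (r * k⁻¹) * (g * u * g⁻¹) * (r * k⁻¹)⁻¹ * ((r * k⁻¹) * (g * u * g⁻¹) * (r * k⁻¹)⁻¹) =
          (r * k⁻¹) * ((g * u * g⁻¹) * (g * u * g⁻¹)) * (r * k⁻¹)⁻¹ := by group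
      rw [this, hU2]; group
  · have e : (r * k⁻¹ * g) * (u * v) * (r * k⁻¹ * g)⁻¹ =
        ((r * k⁻¹) * (g * u * g⁻¹) * (r * k⁻¹)⁻¹) * ((r * k⁻¹) * (g * v * g⁻¹) * (r * k⁻¹)⁻¹) := by
      group
    rw [e, hv1']
    group

/-- The centraliser of such a product has odd order. -/
theorem prod_centralizer_odd [Finite G] (hS : Cfsg.IsRankOneSetup G Ω a t Q)
    (hcen : ∀ s ∈ Cfsg.involutionsIn (stabilizer G a : Set G), s ∈ Q ∧ ∀ x ∈ Q, s * x = x * s)
    {u v : G} (hu1 : u ≠ 1) (hu2 : u * u = 1) (hv1 : v ≠ 1) (hv2 : v * v = 1)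
    (hx : (u * v) * (u * v) ≠ 1) : Odd (Nat.card ↥(Subgroup.centralizer {u * v})) := by
  by_contra hodd
  rw [Nat.not_odd_iff_even] at hodd
  have huinv : u⁻¹ = u := inv_eq_self_of_mul_self hu2
  have hvinv : v⁻¹ = v := inv_eq_self_of_mul_self hv2
  -- `u` inverts `u * v`
  have hinv : u * (u * v) * u⁻¹ = (u * v)⁻¹ := by
    rw [mul_inv_rev, huinv, hvinv]
    calc u * (u * v) * u = (u * u) * v * u := by group
      _ = v * u := by rw [hu2, one_mul]
  have hnorm : ∀ c ∈ Subgroup.centralizer {u * v}, u * c * u⁻¹ ∈ Subgroup.centralizer {u * v} := by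
    intro c hc
    rw [Subgroup.mem_centralizer_iff] at hc ⊢
    intro y hy
    rw [Set.mem_singleton_iff] at hy
    subst hy
    have h1 := hc (u * v) rfl
    -- c commutes with (uv)⁻¹ too
    have h2 : (u * v)⁻¹ * c = c * (u * v)⁻¹ := by
      calc (u * v)⁻¹ * c = (u * v)⁻¹ * (c * (u * v)) * (u * v)⁻¹ := by group
        _ = (u * v)⁻¹ * ((u * v) * c) * (u * v)⁻¹ := by rw [h1]
        _ = c * (u * v)⁻¹ := by group
    have hA : u * (u * v) * u = (u * v)⁻¹ := by rw [← hinv, huinv]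
    have hB : u * (u * v)⁻¹ * u = u * v := by
      rw [← hA]
      calc u * (u * (u * v) * u) * u = (u * u) * (u * v) * (u * u) := by group
        _ = u * v := by rw [hu2, one_mul, mul_one]
    rw [huinv]
    calc u * v * (u * c * u) = (u * u) * (u * v) * (u * c * u) := by rw [hu2, one_mul]
      _ = u * (u * (u * v) * u) * c * u := by group
      _ = u * ((u * v)⁻¹ * c) * u := by rw [hA]; group
      _ = u * (c * (u * v)⁻¹) * u := by rw [h2]
      _ = u * c * (u * u) * (u * v)⁻¹ * u := by rw [hu2, mul_one]; group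
      _ = u * c * u * (u * (u * v)⁻¹ * u) := by group
      _ = u * c * u * (u * v) := by rw [hB]
  obtain ⟨z, hzC, hz1, hz2, hzu⟩ := exists_invol_comm _ u hu2 hnorm hodd
  have hzx : (u * v) * z = z * (u * v) := (Subgroup.mem_centralizer_iff.1 hzC) (u * v) rfl
  -- z commutes with v
  have hzv : z * v = v * z := by
    have : v = u * (u * v) := by
      rw [← mul_assoc, hu2, one_mul]
    calc z * v = z * (u * (u * v)) := by rw [← this]
      _ = (z * u) * (u * v) := by group
      _ = (u * z) * (u * v) := by rw [hzu]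
      _ = u * (z * (u * v)) := by group
      _ = u * ((u * v) * z) := by rw [hzx]
      _ = (u * (u * v)) * z := by group
      _ = v * z := by rw [← this]
  obtain ⟨c, hc⟩ := invol_exists_fix hS hu2
  obtain ⟨d, hd⟩ := invol_exists_fix hS hv2
  have hcd := fix_ne_of_sq_ne hS hcen hu1 hu2 hv1 hv2 hx hc hd
  have hzc : z • c = c := comm_invol_fix hS hu1 hu2 hc hzu.symm
  have hzd : z • d = d := comm_invol_fix hS hv1 hv2 hd hzv
  exact hcd (invol_fix_unique hS hz1 hz2 hzc hzd)

end Cfsg.Agent.Helper96
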