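import Mathlib
import Cfsg.Agent.Lib.Helper96.SympInvol
import Cfsg.Agent.Lib.Helper96.InvolBlocks

/-!
# Isometries with scalar square of an alternating space permute the parts of an orthogonal
decomposition into nondegenerate subspaces of equal (even) dimension (any characteristic)
-/

set_option autoImplicit false

namespace Cfsg.Agent.Helper96.SympDecomp

open Module Cfsg.Agent.Helper96 Cfsg.Agent.Helper96.SympInvol

variable {F V : Type*} [Field F] [AddCommGroup V] [Module F V]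

section basics

variable {f : V → V → F} (hf : AltForm f)
include hf

theorem sum_left {ι : Type*} (s : Finset ι) (g : ι → V) (w : V) :
    f (∑ i ∈ s, g i) w = ∑ i ∈ s, f (g i) w := by
  classical
  induction s using Finset.induction_on with
  | empty => simp [hf.zero_left]
  | insert a s ha ih => rw [Finset.sum_insert ha, Finset.sum_insert ha, hf.add_left, ih]

theorem orth_span_right (u : V) (S : Set V) (h : ∀ s ∈ S, f u s = 0) :
    ∀ w ∈ Submodule.span F S, f u w = 0 := by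
  intro w hw
  induction hw using Submodule.span_induction with
  | mem y hy => exact h y hy
  | zero => exact hf.zero_right u
  | add y y' _ _ h1 h2 => rw [hf.add_right, h1, h2, add_zero]
  | smul c y _ h1 => rw [hf.smul_right, h1, mul_zero]

theorem orth_span_left (w : V) (S : Set V) (h : ∀ s ∈ S, f s w = 0) :
    ∀ u ∈ Submodule.span F S, f u w = 0 := by
  intro u hu
  induction hu using Submodule.span_induction with
  | mem y hy => exact h y hy
  | zero => exact hf.zero_left w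
  | add y y' _ _ h1 h2 => rw [hf.add_left, h1, h2, add_zero]
  | smul c y _ h1 => rw [hf.smul_left, h1, mul_zero]

end basics

theorem pair_mem_left (v w : V) : v ∈ Submodule.span F ({v, w} : Set V) :=
  Submodule.subset_span (by simp)

theorem pair_mem_right (v w : V) : w ∈ Submodule.span F ({v, w} : Set V) :=
  Submodule.subset_span (by simp)

/-- A finite system of mutually orthogonal hyperbolic pairs inside `C`, whose planes are permuted
by `x`. -/
structure HypSys (f : V → V → F) (x : V →ₗ[F] V) (C : Submodule F V) (Q : Finset (V × V)) :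
    Prop where
  mem : ∀ p ∈ Q, p.1 ∈ C ∧ p.2 ∈ C
  pair : ∀ p ∈ Q, f p.1 p.2 = 1
  orth : ∀ p ∈ Q, ∀ p' ∈ Q, p ≠ p' →
    f p.1 p'.1 = 0 ∧ f p.1 p'.2 = 0 ∧ f p.2 p'.1 = 0 ∧ f p.2 p'.2 = 0
  inv : ∀ p ∈ Q, ∃ p' ∈ Q, x p.1 ∈ Submodule.span F ({p'.1, p'.2} : Set V) ∧
    x p.2 ∈ Submodule.span F ({p'.1, p'.2} : Set V)

/-- the span of all the vectors of the pairs in `Q` -/
def spanOf (Q : Finset (V × V)) : Submodule F V :=
  Submodule.span F {y | ∃ p ∈ Q, y = p.1 ∨ y = p.2}

theorem spanOf_mono {Q Q' : Finset (V × V)} (h : Q ⊆ Q') :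
    (spanOf Q : Submodule F V) ≤ spanOf Q' := by
  apply Submodule.span_mono
  rintro y ⟨p, hp, hy⟩
  exact ⟨p, h hp, hy⟩

theorem hypSys_singleton {f : V → V → F} (x : V →ₗ[F] V) (C : Submodule F V)
    (v w : V) (hv : v ∈ C) (hw : w ∈ C) (hvw : f v w = 1)
    (hxv : x v ∈ Submodule.span F ({v, w} : Set V))
    (hxw : x w ∈ Submodule.span F ({v, w} : Set V)) :
    HypSys f x C {(v, w)} := by
  classical
  refine ⟨?_, ?_, ?_, ?_⟩
  · intro p hp
    rw [Finset.mem_singleton] at hp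
    subst hp
    exact ⟨hv, hw⟩
  · intro p hp
    rw [Finset.mem_singleton] at hp
    subst hp
    exact hvw
  · intro p hp p' hp' hne
    rw [Finset.mem_singleton] at hp hp'
    exact absurd (hp.trans hp'.symm) hne
  · intro p hp
    rw [Finset.mem_singleton] at hp
    subst hp
    exact ⟨(v, w), Finset.mem_singleton_self _, hxv, hxw⟩

theorem hypSys_pair {f : V → V → F} (hf : AltForm f) (x : V →ₗ[F] V) (C : Submodule F V)
    (u w u' w' : V) (hu : u ∈ C) (hw : w ∈ C) (hu' : u' ∈ C) (hw' : w' ∈ C)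
    (h1 : f u w = 1) (h2 : f u' w' = 1)
    (o1 : f u u' = 0) (o2 : f u w' = 0) (o3 : f w u' = 0) (o4 : f w w' = 0)
    (hxu : x u ∈ Submodule.span F ({u', w'} : Set V))
    (hxw : x w ∈ Submodule.span F ({u', w'} : Set V))
    (hxu' : x u' ∈ Submodule.span F ({u, w} : Set V))
    (hxw' : x w' ∈ Submodule.span F ({u, w} : Set V))
    (Q : Finset (V × V)) (hmem : ∀ p : V × V, p ∈ Q ↔ p = (u, w) ∨ p = (u', w')) :
    HypSys f x C Q := by
  refine ⟨?_, ?_, ?_, ?_⟩
  · intro p hp
    rcases (hmem p).mp hp with rfl | rfl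
    · exact ⟨hu, hw⟩
    · exact ⟨hu', hw'⟩
  · intro p hp
    rcases (hmem p).mp hp with rfl | rfl
    · exact h1
    · exact h2
  · intro p hp p' hp' hne
    rcases (hmem p).mp hp with rfl | rfl <;> rcases (hmem p').mp hp' with rfl | rfl
    · exact absurd rfl hne
    · exact ⟨o1, o2, o3, o4⟩
    · refine ⟨?_, ?_, ?_, ?_⟩
      · show f u' u = 0
        rw [hf.swap, o1, neg_zero]
      · show f u' w = 0
        rw [hf.swap, o3, neg_zero]
      · show f w' u = 0
        rw [hf.swap, o2, neg_zero]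
      · show f w' w = 0
        rw [hf.swap, o4, neg_zero]
    · exact absurd rfl hne
  · intro p hp
    rcases (hmem p).mp hp with rfl | rfl
    · exact ⟨(u', w'), (hmem _).mpr (Or.inr rfl), hxu, hxw⟩
    · exact ⟨(u, w), (hmem _).mpr (Or.inl rfl), hxu', hxw'⟩

/-- Peeling off a hyperbolic system `Q₀` with `x`-invariant span from `C`. -/
theorem peel {f : V → V → F} (hf : AltForm f) (x : V →ₗ[F] V)
    (hxf : ∀ u w, f (x u) (x w) = f u w) (z : F) (hz : z ≠ 0) (hx : ∀ v, x (x v) = z • v)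
    (C : Submodule F V) (hCx : ∀ u ∈ C, x u ∈ C)
    (hCnd : ∀ u ∈ C, u ≠ 0 → ∃ w ∈ C, f u w ≠ 0)
    (Q₀ : Finset (V × V)) (hQ₀ : HypSys f x C Q₀) :
    ∃ C' : Submodule F V, C' ≤ C ∧ (∀ u ∈ C', ∀ p ∈ Q₀, f u p.1 = 0 ∧ f u p.2 = 0) ∧
      (∀ u ∈ C', x u ∈ C') ∧ (∀ u ∈ C', u ≠ 0 → ∃ w ∈ C', f u w ≠ 0) ∧
      (∀ u ∈ C, ∃ y ∈ spanOf (F := F) Q₀, u - y ∈ C') := by
  classical
  let C' : Submodule F V :=
    { carrier := {u | u ∈ C ∧ ∀ p ∈ Q₀, f u p.1 = 0 ∧ f u p.2 = 0}
      add_mem' := by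
        rintro a b ⟨ha, ha1⟩ ⟨hb, hb1⟩
        refine ⟨C.add_mem ha hb, fun p hp => ⟨?_, ?_⟩⟩
        · rw [hf.add_left, (ha1 p hp).1, (hb1 p hp).1, add_zero]
        · rw [hf.add_left, (ha1 p hp).2, (hb1 p hp).2, add_zero]
      zero_mem' := ⟨C.zero_mem, fun p _ => ⟨hf.zero_left _, hf.zero_left _⟩⟩
      smul_mem' := by
        rintro c a ⟨ha, ha1⟩
        refine ⟨C.smul_mem c ha, fun p hp => ⟨?_, ?_⟩⟩
        · rw [hf.smul_left, (ha1 p hp).1, mul_zero]
        · rw [hf.smul_left, (ha1 p hp).2, mul_zero] }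
  have memC' : ∀ u, u ∈ C' ↔ u ∈ C ∧ ∀ p ∈ Q₀, f u p.1 = 0 ∧ f u p.2 = 0 := fun u => Iff.rfl
  have hxinv : ∀ y, x (z⁻¹ • x y) = y := by
    intro y
    rw [map_smul, hx, smul_smul, inv_mul_cancel₀ hz, one_smul]
  -- orthogonality to the span of Q₀
  have hperp_span : ∀ u, (∀ p ∈ Q₀, f u p.1 = 0 ∧ f u p.2 = 0) →
      ∀ y ∈ spanOf (F := F) Q₀, f u y = 0 := by
    intro u hu y hy
    refine orth_span_right hf u _ ?_ y hy
    rintro s ⟨p, hp, rfl | rfl⟩
    · exact (hu p hp).1
    · exact (hu p hp).2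
  have hpair_le : ∀ p ∈ Q₀, Submodule.span F ({p.1, p.2} : Set V) ≤ spanOf (F := F) Q₀ := by
    intro p hp
    apply Submodule.span_mono
    intro y hy
    rcases hy with rfl | rfl
    · exact ⟨p, hp, Or.inl rfl⟩
    · exact ⟨p, hp, Or.inr rfl⟩
  -- the projection
  let π : V → V := fun u => ∑ p ∈ Q₀, (f u p.2 • p.1 - f u p.1 • p.2)
  have hπspan : ∀ u, π u ∈ spanOf (F := F) Q₀ := by
    intro u
    refine Submodule.sum_mem _ (fun p hp => ?_)
    refine Submodule.sub_mem _ (Submodule.smul_mem _ _ ?_) (Submodule.smul_mem _ _ ?_)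
    · exact Submodule.subset_span ⟨p, hp, Or.inl rfl⟩
    · exact Submodule.subset_span ⟨p, hp, Or.inr rfl⟩
  have hπC : ∀ u, π u ∈ C := by
    intro u
    refine Submodule.sum_mem _ (fun p hp => ?_)
    exact C.sub_mem (C.smul_mem _ (hQ₀.mem p hp).1) (C.smul_mem _ (hQ₀.mem p hp).2)
  have hπ1 : ∀ u, ∀ q ∈ Q₀, f (π u) q.1 = f u q.1 := by
    intro u q hq
    show f (∑ p ∈ Q₀, (f u p.2 • p.1 - f u p.1 • p.2)) q.1 = f u q.1
    rw [sum_left hf, Finset.sum_eq_single q]
    · rw [hf.sub_left, hf.smul_left, hf.smul_left, hf.self, hf.swap q.2 q.1, hQ₀.pair q hq]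
      ring
    · intro p hp hpq
      obtain ⟨h1, _, h3, _⟩ := hQ₀.orth p hp q hq hpq
      rw [hf.sub_left, hf.smul_left, hf.smul_left, h1, h3]
      ring
    · intro h
      exact absurd hq h
  have hπ2 : ∀ u, ∀ q ∈ Q₀, f (π u) q.2 = f u q.2 := by
    intro u q hq
    show f (∑ p ∈ Q₀, (f u p.2 • p.1 - f u p.1 • p.2)) q.2 = f u q.2
    rw [sum_left hf, Finset.sum_eq_single q]
    · rw [hf.sub_left, hf.smul_left, hf.smul_left, hf.self, hQ₀.pair q hq]
      ring
    · intro p hp hpq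
      obtain ⟨_, h2, _, h4⟩ := hQ₀.orth p hp q hq hpq
      rw [hf.sub_left, hf.smul_left, hf.smul_left, h2, h4]
      ring
    · intro h
      exact absurd hq h
  have hproj : ∀ u ∈ C, u - π u ∈ C' := by
    intro u hu
    rw [memC']
    refine ⟨C.sub_mem hu (hπC u), fun q hq => ⟨?_, ?_⟩⟩
    · rw [hf.sub_left, hπ1 u q hq, sub_self]
    · rw [hf.sub_left, hπ2 u q hq, sub_self]
  refine ⟨C', fun u hu => ((memC' u).mp hu).1, fun u hu => ((memC' u).mp hu).2, ?_, ?_, ?_⟩
  · -- invariance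
    intro u hu
    obtain ⟨huC, hperp⟩ := (memC' u).mp hu
    rw [memC']
    refine ⟨hCx u huC, fun p hp => ?_⟩
    obtain ⟨p', hp', h1, h2⟩ := hQ₀.inv p hp
    constructor
    · rw [← hxinv p.1, hxf, hf.smul_right,
        hperp_span u hperp _ (hpair_le p' hp' h1), mul_zero]
    · rw [← hxinv p.2, hxf, hf.smul_right,
        hperp_span u hperp _ (hpair_le p' hp' h2), mul_zero]
  · -- nondegeneracy
    intro u hu hu0
    obtain ⟨huC, hperp⟩ := (memC' u).mp hu
    obtain ⟨y, hyC, hy⟩ := hCnd u huC hu0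
    refine ⟨y - π y, hproj y hyC, ?_⟩
    rw [hf.sub_right, hperp_span u hperp _ (hπspan y), sub_zero]
    exact hy
  · intro u hu
    exact ⟨π u, hπspan u, hproj u hu⟩

/-- Picking a nonempty `x`-stable hyperbolic system inside a nonzero `x`-invariant nondegenerate
subspace. -/
theorem pick {f : V → V → F} (hf : AltForm f) (x : V →ₗ[F] V)
    (hxf : ∀ u w, f (x u) (x w) = f u w) (z : F) (hz : z ≠ 0) (hx : ∀ v, x (x v) = z • v)
    (C : Submodule F V) (hCx : ∀ u ∈ C, x u ∈ C)
    (hCnd : ∀ u ∈ C, u ≠ 0 → ∃ w ∈ C, f u w ≠ 0) (hC0 : C ≠ ⊥) :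
    ∃ Q₀ : Finset (V × V), Q₀.Nonempty ∧ HypSys f x C Q₀ := by
  classical
  obtain ⟨u₀, hu₀C, hu₀⟩ := Submodule.exists_mem_ne_zero_of_ne_bot hC0
  have hxinv : ∀ y, x (z⁻¹ • x y) = y := by
    intro y
    rw [map_smul, hx, smul_smul, inv_mul_cancel₀ hz, one_smul]
  have hadj : ∀ u w, f u (x w) = z * f (x u) w := by
    intro u w
    have h : f (x u) w = z⁻¹ * f u (x w) := by
      conv_lhs => rw [← hxinv w]
      rw [hxf, hf.smul_right]
    rw [h, ← mul_assoc, mul_inv_cancel₀ hz, one_mul]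
  by_cases hA : ∃ v ∈ C, f v (x v) ≠ 0
  · obtain ⟨v, hvC, hv⟩ := hA
    refine ⟨{(v, (f v (x v))⁻¹ • x v)}, Finset.singleton_nonempty _,
      hypSys_singleton x C v _ hvC (C.smul_mem _ (hCx v hvC)) ?_ ?_ ?_⟩
    · rw [hf.smul_right, inv_mul_cancel₀ hv]
    · have h : (f v (x v)) • ((f v (x v))⁻¹ • x v) = x v := by
        rw [smul_smul, mul_inv_cancel₀ hv, one_smul]
      have h' := Submodule.smul_mem (Submodule.span F ({v, (f v (x v))⁻¹ • x v} : Set V))
        (f v (x v)) (pair_mem_right v ((f v (x v))⁻¹ • x v))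
      rwa [h] at h'
    · rw [map_smul, hx, smul_smul]
      exact Submodule.smul_mem _ _ (pair_mem_left _ _)
  · push Not at hA
    have hpol : ∀ u ∈ C, ∀ w ∈ C, f u (x w) + f w (x u) = 0 := by
      intro u hu w hw
      have h1 := hA (u + w) (C.add_mem hu hw)
      rw [map_add, hf.add_left, hf.add_right, hf.add_right, hA u hu, hA w hw] at h1
      linear_combination h1
    have hz1 : z = 1 := by
      by_contra hz1
      have hall : ∀ u ∈ C, ∀ w ∈ C, f u (x w) = 0 := by
        intro u hu w hw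
        have h1 := hpol u hu w hw
        have h2 : f w (x u) = - z * f u (x w) := by
          rw [hadj w u, hf.swap (x w) u]
          ring
        rw [h2] at h1
        have h3 : (1 - z) * f u (x w) = 0 := by linear_combination h1
        rcases mul_eq_zero.mp h3 with h | h
        · exact absurd (by linear_combination -h : z = 1) hz1
        · exact h
      obtain ⟨w₀, hw₀C, hw₀⟩ := hCnd u₀ hu₀C hu₀
      apply hw₀
      rw [← hxinv w₀]
      exact hall u₀ hu₀C _ (C.smul_mem _ (hCx _ hw₀C))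
    subst hz1
    have hx' : ∀ v, x (x v) = v := by
      intro v
      rw [hx, one_smul]
    have hadj' : ∀ u w, f u (x w) = f (x u) w := by
      intro u w
      rw [hadj, one_mul]
    by_cases hB1 : ∀ v ∈ C, x v = v
    · obtain ⟨w₀, hw₀C, hw₀⟩ := hCnd u₀ hu₀C hu₀
      refine ⟨{(u₀, (f u₀ w₀)⁻¹ • w₀)}, Finset.singleton_nonempty _,
        hypSys_singleton x C u₀ _ hu₀C (C.smul_mem _ hw₀C) ?_ ?_ ?_⟩
      · rw [hf.smul_right, inv_mul_cancel₀ hw₀]
      · rw [hB1 u₀ hu₀C]
        exact pair_mem_left _ _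
      · rw [hB1 _ (C.smul_mem _ hw₀C)]
        exact pair_mem_right _ _
    · push Not at hB1
      obtain ⟨u, huC, hxu⟩ := hB1
      obtain ⟨n, hn⟩ : ∃ n : V, n = x u - u := ⟨_, rfl⟩
      have hn0 : n ≠ 0 := by
        rw [hn]
        exact sub_ne_zero.mpr hxu
      have hnC : n ∈ C := by
        rw [hn]
        exact C.sub_mem (hCx u huC) huC
      have hxn : x n = -n := by
        rw [hn, map_sub, hx']
        abel
      obtain ⟨w₀, hw₀C, hw₀⟩ := hCnd n hnC hn0
      obtain ⟨w₁, hw₁C, hnw₁⟩ : ∃ w₁ ∈ C, f n w₁ = 1 :=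
        ⟨(f n w₀)⁻¹ • w₀, C.smul_mem _ hw₀C, by rw [hf.smul_right, inv_mul_cancel₀ hw₀]⟩
      have hnxw₁ : f n (x w₁) = -1 := by
        rw [hadj', hxn, hf.neg_left, hnw₁]
      by_cases h2 : (2 : F) = 0
      · -- characteristic 2: two planes swapped by x
        obtain ⟨w, hw⟩ : ∃ w : V, w = w₁ + (1 - f u w₁) • (x w₁ - w₁) := ⟨_, rfl⟩
        have hwC : w ∈ C := by
          rw [hw]
          exact C.add_mem hw₁C (C.smul_mem _ (C.sub_mem (hCx _ hw₁C) hw₁C))
        have hxu_w₁ : f (x u) w₁ = 1 + f u w₁ := by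
          have h := hnw₁
          rw [hn, hf.sub_left] at h
          linear_combination h
        have huw : f u w = 1 := by
          rw [hw, hf.add_right, hf.smul_right, hf.sub_right, hadj' u w₁, hxu_w₁]
          ring
        have hnw : f n w = 1 := by
          rw [hw, hf.add_right, hf.smul_right, hf.sub_right, hnxw₁, hnw₁]
          linear_combination (-(1 - f u w₁)) * h2
        have huxw : f u (x w) = 0 := by
          rw [hadj']
          have h : x u = n + u := by
            rw [hn]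
            abel
          rw [h, hf.add_left, hnw, huw]
          linear_combination h2
        refine ⟨{(u, w), (x u, x w)}, ⟨(u, w), Finset.mem_insert_self _ _⟩,
          hypSys_pair hf x C u w (x u) (x w) huC hwC (hCx u huC) (hCx w hwC) huw
            (by rw [hxf]; exact huw) (hA u huC) huxw ?_ (hA w hwC) (pair_mem_left _ _)
            (pair_mem_right _ _) ?_ ?_ _ (fun p => by rw [Finset.mem_insert, Finset.mem_singleton])⟩
        · rw [hadj' w u, hf.swap, huxw, neg_zero]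
        · rw [hx']
          exact pair_mem_left _ _
        · rw [hx']
          exact pair_mem_right _ _
      · -- characteristic ≠ 2: an eigenvector pair
        refine ⟨{(n, (2 : F)⁻¹ • (w₁ - x w₁))}, Finset.singleton_nonempty _,
          hypSys_singleton x C n _ hnC (C.smul_mem _ (C.sub_mem hw₁C (hCx _ hw₁C))) ?_ ?_ ?_⟩
        · rw [hf.smul_right, hf.sub_right, hnw₁, hnxw₁]
          field_simp
          norm_num
        · rw [hxn]
          exact Submodule.neg_mem _ (pair_mem_left _ _)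
        · have h : x ((2 : F)⁻¹ • (w₁ - x w₁)) = -((2 : F)⁻¹ • (w₁ - x w₁)) := by
            rw [map_smul, map_sub, hx', ← smul_neg, neg_sub]
          rw [h]
          exact Submodule.neg_mem _ (pair_mem_right _ _)

variable [FiniteDimensional F V]

/-- Existence of an `x`-stable hyperbolic system spanning any `x`-invariant nondegenerate
subspace. -/
theorem exists_hypSys {f : V → V → F} (hf : AltForm f) (x : V →ₗ[F] V)
    (hxf : ∀ u w, f (x u) (x w) = f u w) (z : F) (hz : z ≠ 0) (hx : ∀ v, x (x v) = z • v) :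
    ∀ (n : ℕ) (C : Submodule F V), finrank F C = n → (∀ u ∈ C, x u ∈ C) →
    (∀ u ∈ C, u ≠ 0 → ∃ w ∈ C, f u w ≠ 0) →
    ∃ Q : Finset (V × V), HypSys f x C Q ∧ C ≤ spanOf Q := by
  classical
  intro n
  induction n using Nat.strong_induction_on with
  | _ n ih =>
  intro C hCn hCx hCnd
  by_cases hC0 : C = ⊥
  · subst hC0
    exact ⟨∅, ⟨fun p hp => absurd hp (Finset.notMem_empty p),
      fun p hp => absurd hp (Finset.notMem_empty p),
      fun p hp => absurd hp (Finset.notMem_empty p),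
      fun p hp => absurd hp (Finset.notMem_empty p)⟩, bot_le⟩
  obtain ⟨Q₀, hQ₀ne, hQ₀⟩ := pick hf x hxf z hz hx C hCx hCnd hC0
  obtain ⟨C', hC'le, hC'perp, hC'x, hC'nd, hC'proj⟩ := peel hf x hxf z hz hx C hCx hCnd Q₀ hQ₀
  have hC'lt : C' < C := by
    obtain ⟨p, hp⟩ := hQ₀ne
    refine lt_of_le_of_ne hC'le (fun h => ?_)
    have h1 : p.1 ∈ C' := h ▸ (hQ₀.mem p hp).1
    have h2 := (hC'perp p.1 h1 p hp).2
    rw [hQ₀.pair p hp] at h2
    exact one_ne_zero h2
  have hrank : finrank F C' < n := hCn ▸ Submodule.finrank_lt_finrank_of_lt hC'lt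
  obtain ⟨Q', hQ', hspan'⟩ := ih _ hrank C' rfl hC'x hC'nd
  refine ⟨Q' ∪ Q₀, ⟨?_, ?_, ?_, ?_⟩, ?_⟩
  · intro p hp
    rcases Finset.mem_union.mp hp with hp | hp
    · exact ⟨hC'le (hQ'.mem p hp).1, hC'le (hQ'.mem p hp).2⟩
    · exact hQ₀.mem p hp
  · intro p hp
    rcases Finset.mem_union.mp hp with hp | hp
    · exact hQ'.pair p hp
    · exact hQ₀.pair p hp
  · intro p hp p' hp' hne
    rcases Finset.mem_union.mp hp with hp | hp <;> rcases Finset.mem_union.mp hp' with hp' | hp'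
    · exact hQ'.orth p hp p' hp' hne
    · exact ⟨(hC'perp _ (hQ'.mem p hp).1 p' hp').1, (hC'perp _ (hQ'.mem p hp).1 p' hp').2,
        (hC'perp _ (hQ'.mem p hp).2 p' hp').1, (hC'perp _ (hQ'.mem p hp).2 p' hp').2⟩
    · have h1 := hC'perp _ (hQ'.mem p' hp').1 p hp
      have h2 := hC'perp _ (hQ'.mem p' hp').2 p hp
      refine ⟨?_, ?_, ?_, ?_⟩
      · rw [hf.swap, h1.1, neg_zero]
      · rw [hf.swap, h2.1, neg_zero]
      · rw [hf.swap, h1.2, neg_zero]
      · rw [hf.swap, h2.2, neg_zero]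
    · exact hQ₀.orth p hp p' hp' hne
  · intro p hp
    rcases Finset.mem_union.mp hp with hp | hp
    · obtain ⟨p', hp', h⟩ := hQ'.inv p hp
      exact ⟨p', Finset.mem_union_left _ hp', h⟩
    · obtain ⟨p', hp', h⟩ := hQ₀.inv p hp
      exact ⟨p', Finset.mem_union_right _ hp', h⟩
  · intro u hu
    obtain ⟨y, hy, huy⟩ := hC'proj u hu
    have h1 : (spanOf Q' : Submodule F V) ≤ spanOf (Q' ∪ Q₀) :=
      spanOf_mono Finset.subset_union_left
    have h2 : (spanOf Q₀ : Submodule F V) ≤ spanOf (Q' ∪ Q₀) :=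
      spanOf_mono Finset.subset_union_right
    have h : u = (u - y) + y := by abel
    rw [h]
    exact Submodule.add_mem _ (h1 (hspan' huy)) (h2 hy)

end Cfsg.Agent.Helper96.SympDecomp
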