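import Mathlib
import Cfsg.Agent.Lib.Helper96.SympDecomp

/-!
# Orthogonal decompositions stabilised by an isometry with scalar square
-/

set_option autoImplicit false

namespace Cfsg.Agent.Helper96.SympDecomp

open Module Cfsg.Agent.Helper96 Cfsg.Agent.Helper96.SympInvol

variable {F V : Type*} [Field F] [AddCommGroup V] [Module F V] [FiniteDimensional F V]

/-- From a hyperbolic basis whose planes are permuted by `x` to a decomposition. -/
theorem decomposition_of_family {I : Type*} [Fintype I] (f : V → V → F) (hf : AltForm f)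
    (hnd : ∀ u, u ≠ 0 → ∃ w, f u w ≠ 0)
    (x : V →ₗ[F] V) (z : F) (hz : z ≠ 0) (hx : ∀ v, x (x v) = z • v)
    (e g : I → V) (hpair : ∀ i, f (e i) (g i) = 1)
    (horth : ∀ i i' : I, i ≠ i' →
      f (e i) (e i') = 0 ∧ f (e i) (g i') = 0 ∧ f (g i) (e i') = 0 ∧ f (g i) (g i') = 0)
    (hinv : ∀ i, ∃ i', x (e i) ∈ Submodule.span F ({e i', g i'} : Set V) ∧
      x (g i) ∈ Submodule.span F ({e i', g i'} : Set V))
    (hspan : ∀ y : V, y ∈ Submodule.span F (Set.range e ∪ Set.range g))
    (b t : ℕ) (hb : 0 < b) (hdim : finrank F V = 2 * b * t) :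
    ∃ D : Fin t → Submodule F V, (∀ j, finrank F (D j) = 2 * b) ∧ iSupIndep D ∧ iSup D = ⊤ ∧
      (∀ j, ∀ u ∈ D j, u ≠ 0 → ∃ w ∈ D j, f u w ≠ 0) ∧
      (∀ j j', j ≠ j' → ∀ u ∈ D j, ∀ w ∈ D j', f u w = 0) ∧
      ∃ σ : Equiv.Perm (Fin t), ∀ j, (D j).map x = D (σ j) := by
  classical
  have hxinj : Function.Injective x := by
    rw [injective_iff_map_eq_zero]
    intro w hw
    have := hx w
    rw [hw, map_zero] at this
    exact (smul_eq_zero.mp this.symm).resolve_left hz
  choose τ hτe hτg using hinv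
  -- planes
  have hPmap : ∀ i, ∀ y ∈ Submodule.span F ({e i, g i} : Set V),
      x y ∈ Submodule.span F ({e (τ i), g (τ i)} : Set V) := by
    intro i y hy
    rw [Submodule.mem_span_pair] at hy
    obtain ⟨a, c, rfl⟩ := hy
    rw [map_add, map_smul, map_smul]
    exact Submodule.add_mem _ (Submodule.smul_mem _ _ (hτe i)) (Submodule.smul_mem _ _ (hτg i))
  have hτ : Function.Involutive τ := by
    intro i
    by_contra h
    have h1 : x (x (e i)) ∈ Submodule.span F ({e (τ (τ i)), g (τ (τ i))} : Set V) :=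
      hPmap (τ i) _ (hτe i)
    rw [hx] at h1
    have h2 : e i ∈ Submodule.span F ({e (τ (τ i)), g (τ (τ i))} : Set V) := by
      have := Submodule.smul_mem _ z⁻¹ h1
      rwa [smul_smul, inv_mul_cancel₀ hz, one_smul] at this
    have h3 : f (e i) (g i) = 0 := by
      refine orth_span_left hf (g i) _ ?_ _ h2
      intro s hs
      rcases hs with rfl | rfl
      · exact (horth _ _ h).2.1
      · exact (horth _ _ h).2.2.2
    rw [hpair i] at h3
    exact one_ne_zero h3
  -- the combined family
  obtain ⟨v, hv⟩ : ∃ v : I ⊕ I → V, v = Sum.elim e g := ⟨_, rfl⟩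
  obtain ⟨idx, hidx⟩ : ∃ idx : I ⊕ I → I, idx = Sum.elim id id := ⟨_, rfl⟩
  have hvl : ∀ i, v (Sum.inl i) = e i := fun i => by rw [hv]; rfl
  have hvr : ∀ i, v (Sum.inr i) = g i := fun i => by rw [hv]; rfl
  have hil : ∀ i, idx (Sum.inl i) = i := fun i => by rw [hidx]; rfl
  have hir : ∀ i, idx (Sum.inr i) = i := fun i => by rw [hidx]; rfl
  have hvorth : ∀ s s' : I ⊕ I, idx s ≠ idx s' → f (v s) (v s') = 0 := by
    rintro (i | i) (i' | i') h
    · rw [hil, hil] at h
      rw [hvl, hvl]
      exact (horth i i' h).1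
    · rw [hil, hir] at h
      rw [hvl, hvr]
      exact (horth i i' h).2.1
    · rw [hir, hil] at h
      rw [hvr, hvl]
      exact (horth i i' h).2.2.1
    · rw [hir, hir] at h
      rw [hvr, hvr]
      exact (horth i i' h).2.2.2
  have hvplane : ∀ s : I ⊕ I, v s ∈ Submodule.span F ({e (idx s), g (idx s)} : Set V) := by
    rintro (i | i)
    · rw [hvl, hil]
      exact pair_mem_left _ _
    · rw [hvr, hir]
      exact pair_mem_right _ _
  have hli : LinearIndependent F v := by
    rw [Fintype.linearIndependent_iff]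
    intro c hc s
    rcases s with k | k
    · have h1 : f (∑ s, c s • v s) (g k) = 0 := by rw [hc, hf.zero_left]
      rw [sum_left hf, Finset.sum_eq_single (Sum.inl k)] at h1
      · rw [hf.smul_left, hvl, hpair k, mul_one] at h1
        exact h1
      · intro s _ hs
        rw [hf.smul_left]
        rcases s with i | i
        · have hik : i ≠ k := fun h => hs (by rw [h])
          rw [hvl, (horth i k hik).2.1, mul_zero]
        · rw [hvr]
          by_cases h : i = k
          · rw [h, hf.self, mul_zero]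
          · rw [(horth i k h).2.2.2, mul_zero]
      · intro h
        exact absurd (Finset.mem_univ _) h
    · have h1 : f (∑ s, c s • v s) (e k) = 0 := by rw [hc, hf.zero_left]
      rw [sum_left hf, Finset.sum_eq_single (Sum.inr k)] at h1
      · rw [hf.smul_left, hvr, hf.swap, hpair k] at h1
        linear_combination -h1
      · intro s _ hs
        rw [hf.smul_left]
        rcases s with i | i
        · rw [hvl]
          by_cases h : i = k
          · rw [h, hf.self, mul_zero]
          · rw [(horth i k h).1, mul_zero]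
        · have hik : i ≠ k := fun h => hs (by rw [h])
          rw [hvr, (horth i k hik).2.2.1, mul_zero]
      · intro h
        exact absurd (Finset.mem_univ _) h
  have hrange : Set.range v = Set.range e ∪ Set.range g := by
    rw [hv, Set.Sum.elim_range]
  have hspanv : Submodule.span F (Set.range v) = ⊤ := by
    rw [eq_top_iff]
    intro y _
    rw [hrange]
    exact hspan y
  have hcard : Fintype.card I = b * t := by
    have h1 := finrank_span_eq_card hli
    rw [hspanv, finrank_top, hdim, Fintype.card_sum] at h1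
    have : 2 * (b * t) = 2 * Fintype.card I := by rw [← mul_assoc, h1]; ring
    omega
  obtain ⟨β, h1, h2, h3⟩ := InvolBlocks.comb b hb τ hτ t Finset.univ
    (fun _ _ => Finset.mem_univ _) (by rw [Finset.card_univ, hcard])
  have h1' : ∀ i : I, β i < t := fun i => h1 i (Finset.mem_univ _)
  obtain ⟨D, hD⟩ : ∃ D : Fin t → Submodule F V,
      D = fun j : Fin t => Submodule.span F (v '' {s | β (idx s) = (j : ℕ)}) := ⟨_, rfl⟩
  have hDmem : ∀ (s : I ⊕ I) (j : Fin t), β (idx s) = (j : ℕ) → v s ∈ D j := by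
    intro s j hs
    rw [hD]
    exact Submodule.subset_span ⟨s, hs, rfl⟩
  have hDrank : ∀ j, finrank F (D j) = 2 * b := by
    intro j
    have hli2 : LinearIndependent F (fun s : {s : I ⊕ I // β (idx s) = (j : ℕ)} => v s) :=
      hli.comp _ Subtype.val_injective
    have h := finrank_span_eq_card hli2
    have hr : Set.range (fun s : {s : I ⊕ I // β (idx s) = (j : ℕ)} => v s)
        = v '' {s | β (idx s) = (j : ℕ)} := by
      ext w
      constructor
      · rintro ⟨⟨i, hi⟩, rfl⟩; exact ⟨i, hi, rfl⟩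
      · rintro ⟨i, hi, rfl⟩; exact ⟨⟨i, hi⟩, rfl⟩
    rw [hr] at h
    rw [hD]
    show finrank F (Submodule.span F (v '' {s | β (idx s) = (j : ℕ)})) = 2 * b
    rw [h, Fintype.card_congr Equiv.subtypeSum, Fintype.card_sum]
    have e1 : Fintype.card {i : I // β (idx (Sum.inl i)) = (j : ℕ)} = b := by
      rw [Fintype.card_subtype]
      simp only [hil]
      exact h2 j j.2
    have e2 : Fintype.card {i : I // β (idx (Sum.inr i)) = (j : ℕ)} = b := by
      rw [Fintype.card_subtype]
      simp only [hir]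
      exact h2 j j.2
    rw [e1, e2]
    ring
  -- representatives of blocks
  have hrep : ∀ j : Fin t, ∃ i : I, β i = (j : ℕ) := by
    intro j
    have : 0 < (Finset.univ.filter (fun i : I => β i = (j : ℕ))).card := by
      rw [h2 j j.2]; exact hb
    obtain ⟨i, hi⟩ := Finset.card_pos.mp this
    exact ⟨i, (Finset.mem_filter.mp hi).2⟩
  choose rep hrepβ using hrep
  let σ : Fin t → Fin t := fun j => ⟨β (τ (rep j)), h1' _⟩
  have hkey : ∀ i : I, ∀ j : Fin t, β i = (j : ℕ) → β (τ i) = (σ j : ℕ) := by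
    intro i j hij
    exact h3 i (Finset.mem_univ _) (rep j) (Finset.mem_univ _) (by rw [hij, hrepβ j])
  have hσ : Function.Involutive σ := by
    intro j
    apply Fin.ext
    have e1 : β (τ (rep j)) = (σ j : ℕ) := rfl
    have e2 := hkey (τ (rep j)) (σ j) e1
    rw [hτ (rep j), hrepβ j] at e2
    exact e2.symm
  -- orthogonality between different blocks
  have hDorth : ∀ j j', j ≠ j' → ∀ u ∈ D j, ∀ w ∈ D j', f u w = 0 := by
    intro j j' hjj' u hu w hw
    rw [hD] at hu hw
    refine orth_span_left hf w _ ?_ u hu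
    rintro _ ⟨s, hs, rfl⟩
    refine orth_span_right hf (v s) _ ?_ w hw
    rintro _ ⟨s', hs', rfl⟩
    apply hvorth
    intro h
    apply hjj'
    apply Fin.ext
    simp only [Set.mem_setOf_eq] at hs hs'
    rw [← hs, ← hs', h]
  refine ⟨D, hDrank, ?_, ?_, ?_, hDorth, hσ.toPerm σ, ?_⟩
  · -- independence
    intro j
    have hdis : Disjoint {s : I ⊕ I | β (idx s) = (j : ℕ)} {s : I ⊕ I | β (idx s) ≠ (j : ℕ)} := by
      rw [Set.disjoint_left]
      intro i hi hi'
      exact hi' hi
    have hDj : D j = Submodule.span F (v '' {s | β (idx s) = (j : ℕ)}) := by rw [hD]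
    rw [hDj]
    refine (hli.disjoint_span_image hdis).mono_right ?_
    apply iSup₂_le
    intro k hk
    rw [hD]
    apply Submodule.span_mono
    apply Set.image_mono
    intro i hi
    simp only [Set.mem_setOf_eq] at hi ⊢
    rw [hi]
    exact fun h => hk (Fin.ext h)
  · -- spanning
    rw [eq_top_iff, ← hspanv, Submodule.span_le]
    rintro _ ⟨s, rfl⟩
    have : v s ∈ D ⟨β (idx s), h1' _⟩ := hDmem s _ rfl
    exact Submodule.mem_iSup_of_mem _ this
  · -- nondegeneracy
    intro j u hu hu0
    by_contra hcon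
    push Not at hcon
    obtain ⟨w, hw⟩ := hnd u hu0
    apply hw
    refine orth_span_right hf u (Set.range v) ?_ w (by rw [hspanv]; exact Submodule.mem_top)
    rintro _ ⟨s, rfl⟩
    by_cases hs : β (idx s) = (j : ℕ)
    · exact hcon _ (hDmem s j hs)
    · exact hDorth j ⟨β (idx s), h1' _⟩ (fun h => hs (by rw [h])) u hu _ (hDmem s _ rfl)
  · -- permuted by x
    intro j
    have hle : (D j).map x ≤ D (σ j) := by
      have hDj : D j = Submodule.span F (v '' {s | β (idx s) = (j : ℕ)}) := by rw [hD]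
      rw [hDj, Submodule.map_span, Submodule.span_le]
      rintro w ⟨_, ⟨s, hs, rfl⟩, rfl⟩
      simp only [Set.mem_setOf_eq] at hs
      have h4 := hPmap (idx s) (v s) (hvplane s)
      have h5 : Submodule.span F ({e (τ (idx s)), g (τ (idx s))} : Set V) ≤ D (σ j) := by
        rw [Submodule.span_le]
        intro y hy
        rcases hy with rfl | rfl
        · have := hDmem (Sum.inl (τ (idx s))) (σ j) (by rw [hil]; exact hkey _ j hs)
          rwa [hvl] at this
        · have := hDmem (Sum.inr (τ (idx s))) (σ j) (by rw [hir]; exact hkey _ j hs)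
          rwa [hvr] at this
      exact h5 h4
    have hfr : finrank F ((D j).map x) = finrank F (D (σ j)) := by
      rw [hDrank, ← hDrank j]
      exact (LinearEquiv.finrank_eq (Submodule.equivMapOfInjective x hxinj (D j))).symm
    exact Submodule.eq_of_le_of_finrank_eq hle hfr

/-- **Main theorem.** An isometry `x` of a nondegenerate alternating space of dimension `2bt` with
`x²` scalar permutes the parts of an orthogonal decomposition into `t` nondegenerate subspaces of
dimension `2b`. -/
theorem exists_orth_decomposition [Nontrivial V] (f : V → V → F) (hf : AltForm f)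
    (hnd : ∀ u, u ≠ 0 → ∃ w, f u w ≠ 0)
    (x : V →ₗ[F] V) (hxf : ∀ u w, f (x u) (x w) = f u w) (z : F) (hx : ∀ v, x (x v) = z • v)
    (b t : ℕ) (hb : 0 < b) (hdim : finrank F V = 2 * b * t) :
    ∃ D : Fin t → Submodule F V, (∀ j, finrank F (D j) = 2 * b) ∧ iSupIndep D ∧ iSup D = ⊤ ∧
      (∀ j, ∀ u ∈ D j, u ≠ 0 → ∃ w ∈ D j, f u w ≠ 0) ∧
      (∀ j j', j ≠ j' → ∀ u ∈ D j, ∀ w ∈ D j', f u w = 0) ∧
      ∃ σ : Equiv.Perm (Fin t), ∀ j, (D j).map x = D (σ j) := by
  classical
  obtain ⟨u0, hu0⟩ := exists_ne (0 : V)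
  obtain ⟨w0, hw0⟩ := hnd u0 hu0
  have hzz : z * z = 1 := by
    have := hxf (x u0) (x w0)
    rw [hx, hx, hf.smul_left, hf.smul_right, hxf] at this
    have h : (z * z - 1) * f u0 w0 = 0 := by linear_combination this
    rcases mul_eq_zero.mp h with h | h
    · linear_combination h
    · exact absurd h hw0
  have hz : z ≠ 0 := by
    rintro rfl
    simp at hzz
  have hCtop_nd : ∀ u ∈ (⊤ : Submodule F V), u ≠ 0 → ∃ w ∈ (⊤ : Submodule F V), f u w ≠ 0 :=
    fun u _ hu => let ⟨w, hw⟩ := hnd u hu; ⟨w, Submodule.mem_top, hw⟩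
  obtain ⟨Q, hQ, hQspan⟩ := exists_hypSys hf x hxf z hz hx _ ⊤ rfl
    (fun _ _ => Submodule.mem_top) hCtop_nd
  refine decomposition_of_family (I := {p : V × V // p ∈ Q}) f hf hnd x z hz hx
    (fun i => i.1.1) (fun i => i.1.2) (fun i => hQ.pair i.1 i.2) ?_ ?_ ?_ b t hb hdim
  · intro i i' h
    exact hQ.orth i.1 i.2 i'.1 i'.2 (fun h' => h (Subtype.ext h'))
  · intro i
    obtain ⟨p', hp', h⟩ := hQ.inv i.1 i.2
    exact ⟨⟨p', hp'⟩, h⟩
  · intro y
    have h1 : y ∈ spanOf (F := F) Q := hQspan Submodule.mem_top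
    refine Submodule.span_mono ?_ h1
    rintro s ⟨p, hp, rfl | rfl⟩
    · exact Or.inl ⟨⟨p, hp⟩, rfl⟩
    · exact Or.inr ⟨⟨p, hp⟩, rfl⟩

end Cfsg.Agent.Helper96.SympDecomp
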