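import Mathlib
import Cfsg.Agent.Lib.Helper93.U30
import Cfsg.Agent.Lib.Helper46.U2G6Core
import Cfsg.Agent.Lib.Helper78.U2B2

/-!
# U3 server (helper93, S2334), pieces O6a O6c O6h O6i: core versions

Group-level statements about `aElO` / `uEl`, with the matrix-level facts (pieces O1b, O1c,
U1, U2, U3, U4) taken as hypotheses.
-/

set_option autoImplicit false

namespace Cfsg.Agent.Helper96.U3

open Matrix Cfsg.Agent.Helper13 Cfsg.Agent.Helper93.U2 Cfsg.Agent.Helper93.U3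

section GRP

variable {F : Type*} [Field F] [Fintype F] {q : ℕ} (hF : Fintype.card F = q ^ 2)

/-- O6a, core -/
theorem h96_aElO_val_of {n m : ℕ} (fr : FrameO hF n m) (ε : F) (a : ↥(hermSub hF m))
    (hdet : (aMatO hF fr ε a.1).det = 1)
    (hun : cT hF (aMatO hF fr ε a.1) * aMatO hF fr ε a.1 = 1) :
    (((aElO hF fr ε a : ↥(Cfsg.SU n F q)) : Matrix.SpecialLinearGroup (Fin n) F) :
      Matrix (Fin n) (Fin n) F) = aMatO hF fr ε a.1 := by
  unfold aElO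
  exact suOf_val _ hdet (Cfsg.Agent.Helper78.U2.unitary_preserves hF _ hun)

/-- O6c, core -/
theorem h96_uEl_val_of {n m : ℕ} (fr : FrameO hF n m) (c₀ : F) (y : Fin m → F)
    (hdet : (uMat hF fr c₀ y).det = 1)
    (hun : cT hF (uMat hF fr c₀ y) * uMat hF fr c₀ y = 1) :
    (((uEl hF fr c₀ y : ↥(Cfsg.SU n F q)) : Matrix.SpecialLinearGroup (Fin n) F) :
      Matrix (Fin n) (Fin n) F) = uMat hF fr c₀ y := by
  unfold uEl
  exact suOf_val _ hdet (Cfsg.Agent.Helper78.U2.unitary_preserves hF _ hun)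

/-- O6h, core -/
theorem h96_uEl_mul_aElO_of {n m : ℕ} (fr : FrameO hF n m) (c₀ ε : F) (y : Fin m → F)
    (a : ↥(hermSub hF m))
    (haval : (((aElO hF fr ε a : ↥(Cfsg.SU n F q)) : Matrix.SpecialLinearGroup (Fin n) F) :
        Matrix (Fin n) (Fin n) F) = aMatO hF fr ε a.1)
    (huval : (((uEl hF fr c₀ y : ↥(Cfsg.SU n F q)) : Matrix.SpecialLinearGroup (Fin n) F) :
      Matrix (Fin n) (Fin n) F) = uMat hF fr c₀ y)
    (hcomm : uMat hF fr c₀ y * aMatO hF fr ε a.1 = aMatO hF fr ε a.1 * uMat hF fr c₀ y) :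
    (uEl hF fr c₀ y * aElO hF fr ε a : ↥(Cfsg.SU n F q)) =
      aElO hF fr ε a * uEl hF fr c₀ y := by
  apply Cfsg.Agent.Helper46.U2.h46_SU_ext
  rw [Cfsg.Agent.Helper46.U2.h46_SU_mul_val, Cfsg.Agent.Helper46.U2.h46_SU_mul_val, haval,
    huval, hcomm]

/-- O6i, core -/
theorem h96_uEl_mul_uEl_of {n m : ℕ} (fr : FrameO hF n m) (c₀ ε : F) (hε : ε ^ q = -ε)
    (y y' : Fin m → F)
    (haval : (((aElO hF fr ε (kH hF ε hε y y') : ↥(Cfsg.SU n F q)) :
        Matrix.SpecialLinearGroup (Fin n) F) : Matrix (Fin n) (Fin n) F) =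
        aMatO hF fr ε (kH hF ε hε y y').1)
    (huval : ∀ z : Fin m → F,
      (((uEl hF fr c₀ z : ↥(Cfsg.SU n F q)) : Matrix.SpecialLinearGroup (Fin n) F) :
      Matrix (Fin n) (Fin n) F) = uMat hF fr c₀ z)
    (hcomm : uMat hF fr c₀ y * uMat hF fr c₀ y' =
      aMatO hF fr ε (kH hF ε hε y y').1 * (uMat hF fr c₀ y' * uMat hF fr c₀ y)) :
    (uEl hF fr c₀ y * uEl hF fr c₀ y' : ↥(Cfsg.SU n F q)) =
      aElO hF fr ε (kH hF ε hε y y') * (uEl hF fr c₀ y' * uEl hF fr c₀ y) := by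
  apply Cfsg.Agent.Helper46.U2.h46_SU_ext
  rw [Cfsg.Agent.Helper46.U2.h46_SU_mul_val, Cfsg.Agent.Helper46.U2.h46_SU_mul_val,
    Cfsg.Agent.Helper46.U2.h46_SU_mul_val, haval, huval, huval, hcomm]

end GRP

end Cfsg.Agent.Helper96.U3
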