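import Mathlib
import Cfsg.Agent.Lib.Helper93.U30
import Cfsg.Agent.Lib.Helper96.U3O6Core
import Cfsg.Agent.Lib.Helper40.U3O1b
import Cfsg.Agent.Lib.Helper40.U3O1c

/-!
# U3 server (helper93, S2334), piece (O6a): `aElO_val`
-/

set_option autoImplicit false

namespace Cfsg.Agent.Helper96.U3

open Matrix Cfsg.Agent.Helper13 Cfsg.Agent.Helper93.U2 Cfsg.Agent.Helper93.U3

section GRP

variable {F : Type*} [Field F] [Fintype F] {q : ℕ} (hF : Fintype.card F = q ^ 2)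

/-- piece O6a (uses B2 of U2, O1b, O1c) -/
theorem aElO_val {n m : ℕ} (fr : FrameO hF n m) (ε : F) (hε : ε ^ q = -ε) (a : ↥(hermSub hF m)) :
    (((aElO hF fr ε a : ↥(Cfsg.SU n F q)) : Matrix.SpecialLinearGroup (Fin n) F) :
      Matrix (Fin n) (Fin n) F) = aMatO hF fr ε a.1 :=
  h96_aElO_val_of hF fr ε a (Cfsg.Agent.Helper40.U3.aMatO_det hF fr ε a.1)
    (Cfsg.Agent.Helper40.U3.aMatO_unitary hF fr ε hε a.1 a.2)

end GRP

end Cfsg.Agent.Helper96.U3
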