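import Mathlib
import Cfsg.Agent.Lib.Helper93.U30

/-!
# U3 server (helper93, S2334), piece (U2): `uMat_det`

`uMat = 1 + N` with `N = A + c₀ B`, `A = p w* − w p*`, `B = p p*` (`p = P y`), and
`N * N = −B`, `N * N * N = 0`; a cube-zero matrix `N` has `det (1 + N) = 1`.
-/

set_option autoImplicit false

namespace Cfsg.Agent.Helper96.U3

open Matrix Cfsg.Agent.Helper13 Cfsg.Agent.Helper93.U2 Cfsg.Agent.Helper93.U3

/-- `det (1 + N) = 1` for a cube-zero matrix (own copy of piece B3c, over any field). -/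
theorem h96_det_one_add_of_cube_zero {R : Type*} [Field R] {n : ℕ}
    (N : Matrix (Fin n) (Fin n) R) (h : N * N * N = 0) : (1 + N).det = 1 := by
  have hnil : IsNilpotent (-N) := ⟨3, by
    rw [pow_succ, pow_two, neg_mul_neg, mul_neg, h, neg_zero]⟩
  have h1 : IsNilpotent ((-N).charpoly - Polynomial.X ^ (Fintype.card (Fin n))) :=
    Matrix.isNilpotent_charpoly_sub_pow_of_isNilpotent hnil
  have h2 : (-N).charpoly = Polynomial.X ^ (Fintype.card (Fin n)) :=
    sub_eq_zero.1 (IsNilpotent.eq_zero h1)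
  have h3 := Matrix.eval_charpoly (-N) (1 : R)
  rw [h2, Polynomial.eval_pow, Polynomial.eval_X, one_pow, map_one, sub_neg_eq_add] at h3
  exact h3.symm

/-- rank-one products -/
theorem h96_rk1 {R : Type*} [CommRing R] {n : ℕ} (X X' : Matrix (Fin n) (Fin 1) R)
    (Y Y' : Matrix (Fin 1) (Fin n) R) : (X * Y) * (X' * Y') = X * (Y * X') * Y' := by
  simp only [Matrix.mul_assoc]

/-- the abstract computation: `N = (p ws − w ps) + c • (p ps)` is cube-zero -/
theorem h96_cube_zero {R : Type*} [CommRing R] {n : ℕ} (p w : Matrix (Fin n) (Fin 1) R)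
    (ps ws : Matrix (Fin 1) (Fin n) R)
    (h1 : ps * p = 0) (h2 : ps * w = 0) (h3 : ws * p = 0) (h4 : ws * w = 1) (c : R) :
    ((p * ws - w * ps) + c • (p * ps)) * ((p * ws - w * ps) + c • (p * ps)) *
      ((p * ws - w * ps) + c • (p * ps)) = 0 := by
  have t1 : (p * ws) * (p * ws) = 0 := by
    rw [h96_rk1, h3, Matrix.mul_zero, Matrix.zero_mul]
  have t2 : (p * ws) * (w * ps) = p * ps := by
    rw [h96_rk1, h4, Matrix.mul_one]
  have t3 : (w * ps) * (p * ws) = 0 := by
    rw [h96_rk1, h1, Matrix.mul_zero, Matrix.zero_mul]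
  have t4 : (w * ps) * (w * ps) = 0 := by
    rw [h96_rk1, h2, Matrix.mul_zero, Matrix.zero_mul]
  have t5 : (p * ws) * (p * ps) = 0 := by
    rw [h96_rk1, h3, Matrix.mul_zero, Matrix.zero_mul]
  have t6 : (w * ps) * (p * ps) = 0 := by
    rw [h96_rk1, h1, Matrix.mul_zero, Matrix.zero_mul]
  have t7 : (p * ps) * (p * ws) = 0 := by
    rw [h96_rk1, h1, Matrix.mul_zero, Matrix.zero_mul]
  have t8 : (p * ps) * (w * ps) = 0 := by
    rw [h96_rk1, h2, Matrix.mul_zero, Matrix.zero_mul]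
  have t9 : (p * ps) * (p * ps) = 0 := by
    rw [h96_rk1, h1, Matrix.mul_zero, Matrix.zero_mul]
  have hAA : (p * ws - w * ps) * (p * ws - w * ps) = -(p * ps) := by
    rw [Matrix.sub_mul, Matrix.mul_sub, Matrix.mul_sub, t1, t2, t3, t4]
    simp
  have hAB : (p * ws - w * ps) * (p * ps) = 0 := by
    rw [Matrix.sub_mul, t5, t6, sub_zero]
  have hBA : (p * ps) * (p * ws - w * ps) = 0 := by
    rw [Matrix.mul_sub, t7, t8, sub_zero]
  have hNN : ((p * ws - w * ps) + c • (p * ps)) * ((p * ws - w * ps) + c • (p * ps))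
      = -(p * ps) := by
    simp only [Matrix.add_mul, Matrix.mul_add, Matrix.smul_mul, Matrix.mul_smul, hAA, hAB, hBA,
      t9, smul_zero, add_zero]
  rw [hNN]
  simp only [Matrix.mul_add, Matrix.mul_smul, Matrix.neg_mul, hBA, t9, smul_zero, add_zero,
    neg_zero]

section GRP

variable {F : Type*} [Field F] [Fintype F] {q : ℕ} (hF : Fintype.card F = q ^ 2)

/-- `uMat` in rank-one form -/
theorem h96_uMat_eq {n m : ℕ} (fr : FrameO hF n m) (c₀ : F) (y : Fin m → F) :
    uMat hF fr c₀ y = 1 + (((fr.P * colM y) * cT hF fr.w -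
      fr.w * (cT hF (colM y) * cT hF fr.P)) +
      c₀ • ((fr.P * colM y) * (cT hF (colM y) * cT hF fr.P))) := by
  unfold uMat
  simp only [Matrix.mul_assoc, add_assoc]

theorem h96_ps_p {n m : ℕ} (fr : FrameO hF n m) (y : Fin m → F) :
    (cT hF (colM y) * cT hF fr.P) * (fr.P * colM y) = 0 := by
  have : (cT hF (colM y) * cT hF fr.P) * (fr.P * colM y)
      = cT hF (colM y) * (cT hF fr.P * fr.P) * colM y := by
    simp only [Matrix.mul_assoc]
  rw [this, fr.pp, Matrix.mul_zero, Matrix.zero_mul]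

theorem h96_ps_w {n m : ℕ} (fr : FrameO hF n m) (y : Fin m → F) :
    (cT hF (colM y) * cT hF fr.P) * fr.w = 0 := by
  rw [Matrix.mul_assoc, fr.pw, Matrix.mul_zero]

theorem h96_ws_P {n m : ℕ} (fr : FrameO hF n m) : cT hF fr.w * fr.P = 0 := by
  have h := congrArg (cT hF) fr.pw
  rwa [cT_mul, cT_cT, cT_zero] at h

theorem h96_ws_p {n m : ℕ} (fr : FrameO hF n m) (y : Fin m → F) :
    cT hF fr.w * (fr.P * colM y) = 0 := by
  rw [← Matrix.mul_assoc, h96_ws_P, Matrix.zero_mul]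

/-- piece U2 (uses B3c) -/
theorem uMat_det {n m : ℕ} (fr : FrameO hF n m) (c₀ : F) (y : Fin m → F) :
    (uMat hF fr c₀ y).det = 1 := by
  rw [h96_uMat_eq]
  exact h96_det_one_add_of_cube_zero _
    (h96_cube_zero _ _ _ _ (h96_ps_p hF fr y) (h96_ps_w hF fr y) (h96_ws_p hF fr y) fr.ww c₀)

end GRP

end Cfsg.Agent.Helper96.U3
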