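import Mathlib
import Cfsg.Agent.Lib.Helper93.U30
import Cfsg.Agent.Lib.Helper96.U3O6Core
import Cfsg.Agent.Lib.Helper96.U3U2
import Cfsg.Agent.Lib.Helper9.U3U1

/-!
# U3 server (helper93, S2334), piece (O6c): `uEl_val`
-/

set_option autoImplicit false

namespace Cfsg.Agent.Helper96.U3

open Matrix Cfsg.Agent.Helper13 Cfsg.Agent.Helper93.U2 Cfsg.Agent.Helper93.U3

section GRP

variable {F : Type*} [Field F] [Fintype F] {q : ℕ} (hF : Fintype.card F = q ^ 2)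

/-- piece O6c (uses B2 of U2, U1, U2) -/
theorem uEl_val {n m : ℕ} (fr : FrameO hF n m) (c₀ : F) (hc₀ : c₀ + c₀ ^ q = -1) (y : Fin m → F) :
    (((uEl hF fr c₀ y : ↥(Cfsg.SU n F q)) : Matrix.SpecialLinearGroup (Fin n) F) :
      Matrix (Fin n) (Fin n) F) = uMat hF fr c₀ y :=
  h96_uEl_val_of hF fr c₀ y (uMat_det hF fr c₀ y)
    (Cfsg.Agent.Helper9.U3.uMat_unitary hF fr c₀ hc₀ y)

end GRP

end Cfsg.Agent.Helper96.U3
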