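import Mathlib
import Cfsg.Agent.Lib.Helper93.U30
import Cfsg.Agent.Lib.Helper96.U3O6Core
import Cfsg.Agent.Lib.Helper96.U3O6a
import Cfsg.Agent.Lib.Helper96.U3O6c
import Cfsg.Agent.Lib.Helper9.U3U3

/-!
# U3 server (helper93, S2334), piece (O6h): `uEl_mul_aElO`
-/

set_option autoImplicit false

namespace Cfsg.Agent.Helper96.U3

open Matrix Cfsg.Agent.Helper13 Cfsg.Agent.Helper93.U2 Cfsg.Agent.Helper93.U3

section GRP

variable {F : Type*} [Field F] [Fintype F] {q : ℕ} (hF : Fintype.card F = q ^ 2)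

/-- piece O6h (uses O6a, O6c, U3) -/
theorem uEl_mul_aElO {n m : ℕ} (fr : FrameO hF n m) (c₀ ε : F) (hc₀ : c₀ + c₀ ^ q = -1)
    (hε : ε ^ q = -ε) (y : Fin m → F) (a : ↥(hermSub hF m)) :
    (uEl hF fr c₀ y * aElO hF fr ε a : ↥(Cfsg.SU n F q)) =
      aElO hF fr ε a * uEl hF fr c₀ y :=
  h96_uEl_mul_aElO_of hF fr c₀ ε y a (aElO_val hF fr ε hε a) (uEl_val hF fr c₀ hc₀ y)
    (Cfsg.Agent.Helper9.U3.uMat_mul_aMatO hF fr c₀ ε y a.1)

end GRP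

end Cfsg.Agent.Helper96.U3
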