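import Mathlib
import Cfsg.Agent.Lib.Helper93.U30
import Cfsg.Agent.Lib.Helper96.U3O6Core
import Cfsg.Agent.Lib.Helper96.U3O6a
import Cfsg.Agent.Lib.Helper96.U3O6c
import Cfsg.Agent.Lib.Helper9.U3U4

/-!
# U3 server (helper93, S2334), piece (O6i): `uEl_mul_uEl`
-/

set_option autoImplicit false

namespace Cfsg.Agent.Helper96.U3

open Matrix Cfsg.Agent.Helper13 Cfsg.Agent.Helper93.U2 Cfsg.Agent.Helper93.U3

section GRP

variable {F : Type*} [Field F] [Fintype F] {q : ℕ} (hF : Fintype.card F = q ^ 2)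

/-- piece O6i (uses O6a, O6c, U4) -/
theorem uEl_mul_uEl {n m : ℕ} (fr : FrameO hF n m) (c₀ ε : F) (hc₀ : c₀ + c₀ ^ q = -1)
    (hε : ε ^ q = -ε) (hε0 : ε ≠ 0) (y y' : Fin m → F) :
    (uEl hF fr c₀ y * uEl hF fr c₀ y' : ↥(Cfsg.SU n F q)) =
      aElO hF fr ε (kH hF ε hε y y') * (uEl hF fr c₀ y' * uEl hF fr c₀ y) :=
  h96_uEl_mul_uEl_of hF fr c₀ ε hε y y' (aElO_val hF fr ε hε (kH hF ε hε y y'))
    (fun z => uEl_val hF fr c₀ hc₀ z)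
    (Cfsg.Agent.Helper9.U3.uMat_mul_uMat hF fr c₀ ε hε hε0 y y')

end GRP

end Cfsg.Agent.Helper96.U3
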