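import Mathlib
import Cfsg.Agent.Lib.Helper96.ZStarGrp
import Cfsg.Agent.Lib.Helper4.Isolated
import Cfsg.Agent.Lib.Helper55.Cores

/-!
# Z*-theorem: from the odd-core form to the statement with a Sylow 2-subgroup
-/

set_option autoImplicit false

namespace Cfsg.Agent.Helper96.ZStar

open Cfsg Cfsg.Agent.Helper20

universe u

/-- an involution of a Sylow 2-subgroup `P` having no other conjugate in `P` is an isolated
involution -/
theorem isolated_of_hiso {G : Type*} [Group G] [Finite G] (P : Sylow 2 G) (u : G)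
    (hu : orderOf u = 2)
    (hiso : ∀ g : G, g * u * g⁻¹ ∈ P → g * u * g⁻¹ = u) : IsIsolatedInvolution u := by
  refine ⟨hu, ?_⟩
  intro g hc
  have hv : orderOf (g * u * g⁻¹) = 2 := by
    rw [Cfsg.Agent.Helper4.orderOf_conj_eq, hu]
  have huu := sq_one_of_order_two hu
  have hvv := sq_one_of_order_two hv
  apply Cfsg.Agent.Helper4.isolated_eq_of_isPGroup P u hiso g
  apply Cfsg.Agent.Helper4.dih_isPGroup hu hv 1
  rw [pow_one, pow_two]
  calc u * (g * u * g⁻¹) * (u * (g * u * g⁻¹))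
      = u * ((g * u * g⁻¹) * u) * (g * u * g⁻¹) := by group
    _ = u * (u * (g * u * g⁻¹)) * (g * u * g⁻¹) := by rw [hc.eq]
    _ = (u * u) * ((g * u * g⁻¹) * (g * u * g⁻¹)) := by group
    _ = 1 := by rw [huu, hvv, one_mul]

/-- the Z*-theorem in the form of statement S0215, from the odd-core form -/
theorem statement_of_oddCore_form {G : Type u} [Group G] [Finite G]
    (zstar : ∀ z : G, IsIsolatedInvolution z → ∀ g : G, z * g * z⁻¹ * g⁻¹ ∈ oddCore G)
    (P : Sylow 2 G) (u : G) (hu : orderOf u = 2) (_huP : u ∈ P)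
    (hiso : ∀ g : G, g * u * g⁻¹ ∈ P → g * u * g⁻¹ = u) :
    ∃ N : Subgroup G, N.Normal ∧ Odd (Nat.card N) ∧ ∀ g : G, (u * g * u⁻¹ * g⁻¹) ∈ N := by
  refine ⟨oddCore G, inferInstance, ?_, zstar u (isolated_of_hiso P u hu hiso)⟩
  have h1 : (Nat.card (pPrimeCore 2 G)).Coprime 2 := Cfsg.Agent.Helper55.pPrimeCore_coprime 2
  exact (Nat.coprime_two_right (n := Nat.card (pPrimeCore 2 G))).mp h1

end Cfsg.Agent.Helper96.ZStar
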